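import Cfsg.Agent.Lib.ClassSizes.CopAbelian

/-!
# Class sizes `{1, m, mn}`: the Hall `π'`-subgroup of `C(x)` and congruences modulo `n`
-/

set_option autoImplicit false

namespace Cfsg.Agent.Lib.ClassSizes.CopDiv

open Cfsg.Agent.Lib.ClassSizes.Basic Cfsg.Agent.Lib.ClassSizes.CopTools
open Cfsg.Agent.Lib.ClassSizes.CopStruct Cfsg.Agent.Lib.ClassSizes.CopTI
open Cfsg.Agent.Lib.ClassSizes.CopLocal Cfsg.Agent.Lib.ClassSizes.CopAbelian

variable {G : Type*} [Group G] [Finite G] {m n : ℕ}

/-- In an abelian subgroup a `p`-subgroup of the largest order contains all `p`-elements. -/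
theorem mem_psub {p : ℕ} [hp : Fact p.Prime] {A P : Subgroup G}
    (hA : ∀ a ∈ A, ∀ b ∈ A, a * b = b * a) (hPA : P ≤ A) (hP : IsPGroup p P)
    (hcard : Nat.card P = p ^ (Nat.card A).factorization p) {u : G} (hu : u ∈ A)
    (hup : IsPEl p u) : u ∈ P := by
  have hnorm : P ≤ Subgroup.normalizer (Subgroup.zpowers u : Set G) := by
    refine le_trans ?_ (Subgroup.centralizer_le_normalizer _)
    intro a ha
    refine Subgroup.mem_centralizer_iff.mpr ?_
    rintro _ ⟨i, rfl⟩
    exact hA _ (A.zpow_mem hu i) a (hPA ha)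
  have h1 := IsPGroup.to_sup_of_normal_right' hP (hup.isPGroup hp.out) hnorm
  obtain ⟨j, hj⟩ := h1.exists_card_eq
  have hjle : j ≤ (Nat.card A).factorization p :=
    (Nat.Prime.pow_dvd_iff_le_factorization hp.out Nat.card_pos.ne').mp
      (hj ▸ Subgroup.card_dvd_of_le (sup_le hPA (Subgroup.zpowers_le.mpr hu)))
  have heq : P = P ⊔ Subgroup.zpowers u := Subgroup.eq_of_le_of_card_ge le_sup_left (by
    rw [hj, hcard]; exact Nat.pow_le_pow_right hp.out.pos hjle)
  exact heq ▸ Subgroup.mem_sup_right (Subgroup.mem_zpowers u)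

/-- A group acting with all stabilizers outside one point of index divisible by `n`. -/
theorem dvd_card_sub_one {H α : Type*} [Group H] [Finite H] [MulAction H α] [Finite α] (a : α)
    (ha : ∀ h : H, h • a = a) {n : ℕ}
    (hn : ∀ b : α, b ≠ a → n ∣ (MulAction.stabilizer H b).index) : n ∣ Nat.card α - 1 := by
  classical
  have := Fintype.ofFinite (MulAction.orbitRel.Quotient H α)
  let ω₀ : MulAction.orbitRel.Quotient H α := Quotient.mk'' a
  have hcard : Nat.card α = ∑ ω : MulAction.orbitRel.Quotient H α,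
      Nat.card (MulAction.orbit H ω.out) := by
    rw [Nat.card_congr (MulAction.selfEquivSigmaOrbits H α), Nat.card_sigma]
  have h0 : Nat.card (MulAction.orbit H ω₀.out) = 1 := by
    have h1 : ω₀.out ∈ MulAction.orbit H a := MulAction.orbitRel_apply.mp (Quotient.mk_out a)
    obtain ⟨g, hg⟩ := h1
    rw [show ω₀.out = a from hg.symm.trans (ha g), show MulAction.orbit H a = {a} from
      Set.eq_singleton_iff_unique_mem.mpr ⟨MulAction.mem_orbit_self a,
        by rintro _ ⟨k, rfl⟩; exact ha k⟩, Nat.card_coe_set_eq, Set.ncard_singleton]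
  rw [hcard, ← Finset.add_sum_erase _ _ (Finset.mem_univ ω₀), h0, Nat.add_sub_cancel_left]
  refine Finset.dvd_sum fun ω hω => ?_
  have hne : ω.out ≠ a := fun h => Finset.ne_of_mem_erase hω (by
    rw [← Quotient.out_eq' ω, h])
  rw [Nat.card_coe_set_eq, ← MulAction.index_stabilizer]
  exact hn _ hne

/-- The elements of `C(x)` of order prime to `m` form a subgroup of order `n` modulo the
centre. -/
theorem exists_hall (S : Sizes G m n) {x : G} (hx : PiM m x) :
    ∃ H : Subgroup G, H ≤ cen x ∧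
      (∀ y, y ∈ H ↔ y ∈ cen x ∧ (orderOf y).Coprime m) ∧ (Nat.card H).Coprime m ∧
      Nat.card H = n * Nat.card (H ⊓ Subgroup.center G : Subgroup G) ∧
      ∀ l : ℕ, l.Prime → ¬ l ∣ m →
        (Nat.card H).factorization l = (Nat.card (cen x)).factorization l := by
  have hA := commute_of_mem S hx
  obtain ⟨H, hH⟩ : ∃ H : Subgroup G, ∀ y, y ∈ H ↔ y ∈ cen x ∧ (orderOf y).Coprime m :=
    ⟨{ carrier := {y | y ∈ cen x ∧ (orderOf y).Coprime m}
       one_mem' := ⟨Subgroup.one_mem _, by rw [orderOf_one]; exact Nat.coprime_one_left m⟩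
       mul_mem' := fun {a b} ha hb => ⟨Subgroup.mul_mem _ ha.1 hb.1,
         ((ha.2.mul_left hb.2).coprime_dvd_left (Nat.lcm_dvd_mul _ _)).coprime_dvd_left
           (show Commute a b from hA a ha.1 b hb.1).orderOf_mul_dvd_lcm⟩
       inv_mem' := fun {a} ha => ⟨Subgroup.inv_mem _ ha.1, by rw [orderOf_inv]; exact ha.2⟩ },
      fun y => Iff.rfl⟩
  have hHx : H ≤ cen x := fun y hy => ((hH y).mp hy).1
  have hcop : (Nat.card H).Coprime m := by
    refine Nat.coprime_of_dvd fun l hl hlH hlm => ?_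
    have : Fact l.Prime := ⟨hl⟩
    obtain ⟨⟨y, hy⟩, hyl⟩ := exists_prime_orderOf_dvd_card' l hlH
    rw [Subgroup.orderOf_mk] at hyl
    exact hl.not_dvd_one (((hH y).mp hy).2.gcd_eq_one ▸ Nat.dvd_gcd (hyl ▸ dvd_refl l) hlm)
  have hfac : ∀ l : ℕ, l.Prime → ¬ l ∣ m →
      (Nat.card H).factorization l = (Nat.card (cen x)).factorization l := by
    intro l hl hlm
    have : Fact l.Prime := ⟨hl⟩
    obtain ⟨L, hLx, hLp, hLc⟩ := exists_psub (p := l) (cen x)
    refine le_antisymm ((Nat.factorization_le_iff_dvd Nat.card_pos.ne' Nat.card_pos.ne').mpr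
      (Subgroup.card_dvd_of_le hHx) l)
      ((Nat.Prime.pow_dvd_iff_le_factorization hl Nat.card_pos.ne').mp
        (hLc ▸ Subgroup.card_dvd_of_le fun y hy => (hH y).mpr ⟨hLx hy, ?_⟩))
    exact (isPEl_of_mem hLp hy).coprime hl (hl.coprime_iff_not_dvd.mpr hlm)
  refine ⟨H, hHx, hH, hcop, ?_, hfac⟩
  obtain ⟨p, t, hp, hpm, ht, htm⟩ := exists_mn_pi S hx
  have htz := S.noncentral_of_idx_eq_mn htm
  set H₀ := H ⊓ Subgroup.center G with hH₀
  have hn0 : n ≠ 0 := by have := S.one_lt_n; omega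
  refine Nat.eq_of_factorization_eq Nat.card_pos.ne' (mul_ne_zero hn0 Nat.card_pos.ne') fun l => ?_
  rw [Nat.factorization_mul hn0 Nat.card_pos.ne', Finsupp.add_apply]
  by_cases hl : l.Prime
  swap
  · simp [Nat.factorization_eq_zero_of_not_prime _ hl]
  have : Fact l.Prime := ⟨hl⟩
  by_cases hlm : l ∣ m
  · have h1 : ¬ l ∣ Nat.card H := fun h => hl.not_dvd_one (hcop.gcd_eq_one ▸ Nat.dvd_gcd h hlm)
    rw [Nat.factorization_eq_zero_of_not_dvd h1,
      Nat.factorization_eq_zero_of_not_dvd (S.not_dvd_n hl hlm),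
      Nat.factorization_eq_zero_of_not_dvd fun h => h1 (h.trans (Subgroup.card_dvd_of_le inf_le_left))]
  · rw [hfac l hl hlm]
    have h2 : (Nat.card (cen x)).factorization l =
        n.factorization l + (Nat.card (cen t)).factorization l := by
      have e : Nat.card (cen x) = n * Nat.card (cen t) := by
        refine Nat.eq_of_mul_eq_mul_right S.m_pos ?_
        have h1 := (cen x).card_mul_index
        have h2 := (cen t).card_mul_index
        rw [show (cen x).index = m from hx.1] at h1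
        rw [show (cen t).index = m * n from htm] at h2
        rw [h1, ← h2]; ring
      rw [e, Nat.factorization_mul hn0 Nat.card_pos.ne', Finsupp.add_apply]
    rw [h2]
    congr 1
    obtain ⟨L, hLt, hLp, hLc⟩ := exists_psub (p := l) (cen t)
    have hLz : L ≤ H₀ := fun y hy => by
      have hyz := mem_center_of_commute_mn S hx hp hpm ht htm hl hlm (isPEl_of_mem hLp hy)
        (mem_cen.mp (hLt hy))
      exact ⟨(hH y).mpr ⟨center_le_cen x hyz,
        (isPEl_of_mem hLp hy).coprime hl (hl.coprime_iff_not_dvd.mpr hlm)⟩, hyz⟩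
    refine le_antisymm ((Nat.Prime.pow_dvd_iff_le_factorization hl Nat.card_pos.ne').mp
        (hLc ▸ Subgroup.card_dvd_of_le hLz))
      ((Nat.factorization_le_iff_dvd Nat.card_pos.ne' Nat.card_pos.ne').mpr
        (Subgroup.card_dvd_of_le (inf_le_right.trans (center_le_cen t))) l)

/-- An element of order prime to `m` normalising `C(x)` lies in it. -/
theorem mem_of_mem_normalizer {x : G} (hx : PiM m x) {y : G}
    (hy : y ∈ Subgroup.normalizer (cen x : Set G)) (hcop : (orderOf y).Coprime m) : y ∈ cen x := by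
  set N := Subgroup.normalizer (cen x : Set G) with hN
  have : ((cen x).subgroupOf N).Normal := Subgroup.normal_subgroupOf_of_le_normalizer le_rfl
  have h1 : ((cen x).subgroupOf N).index ∣ m :=
    hx.1 ▸ Subgroup.relIndex_dvd_index_of_le (Subgroup.le_normalizer (H := cen x))
  have h2 : y ^ ((cen x).subgroupOf N).index ∈ cen x := by
    simpa [Subgroup.mem_subgroupOf] using Subgroup.pow_index_mem ((cen x).subgroupOf N) ⟨y, hy⟩
  obtain ⟨k, hk⟩ := exists_pow_eq_self_of_coprime (hcop.coprime_dvd_right h1).symm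
  exact hk ▸ Subgroup.pow_mem _ h2 k

/-- A `p`-element normalising but not in `C(x)` : `n ≡ 1` modulo `p`. -/
theorem dvd_sub_one_of_normalizes (S : Sizes G m n) {x : G} (hx : PiM m x) {p : ℕ}
    [hp : Fact p.Prime] (hpm : p ∣ m) {t : G} (ht : IsPEl p t)
    (htN : t ∈ Subgroup.normalizer (cen x : Set G)) (htx : t ∉ cen x) : p ∣ n - 1 := by
  obtain ⟨H, hHx, hH, hcop, hcard, -⟩ := exists_hall S hx
  have hnorm : t ∈ Subgroup.normalizer (H : Set G) := by
    rw [Subgroup.mem_normalizer_iff]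
    intro y
    rw [hH, hH, ← MulAut.conj_apply, (MulAut.conj t).orderOf_eq, MulAut.conj_apply,
      ← Subgroup.mem_normalizer_iff.mp htN y]
  have h1 := card_modEq_inf_cen ht hnorm
  have h2 : H ⊓ cen t = H ⊓ Subgroup.center G := by
    refine le_antisymm (fun y hy => ⟨hy.1, ?_⟩) (inf_le_inf_left _ (center_le_cen t))
    by_contra hyz
    exact htx ((cen_eq S hx (hHx hy.1) hyz) ▸ mem_cen_comm.mp hy.2)
  rw [h2, hcard] at h1
  have h3 : p.Coprime (Nat.card (H ⊓ Subgroup.center G : Subgroup G)) := by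
    refine Nat.Coprime.coprime_dvd_right (Subgroup.card_dvd_of_le inf_le_left) ?_
    exact hcop.symm.coprime_dvd_left hpm
  have h4 : n ≡ 1 [MOD p] := Nat.ModEq.cancel_right_of_coprime h3 (by rwa [one_mul])
  exact (Nat.modEq_iff_dvd' (by have := S.one_lt_n; omega)).mp h4.symm

/-- The number of conjugates of `C(x)` is `1` modulo `n`. -/
theorem dvd_index_normalizer_sub_one (S : Sizes G m n) {x : G} (hx : PiM m x) :
    n ∣ (Subgroup.normalizer (cen x : Set G)).index - 1 := by
  obtain ⟨H, hHx, hH, -, hcard, -⟩ := exists_hall S hx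
  set N := Subgroup.normalizer (cen x : Set G) with hN
  have hHN : H ≤ N := hHx.trans Subgroup.le_normalizer
  refine dvd_card_sub_one (H := H) (α := G ⧸ N) ((1 : G) : G ⧸ N) (fun h => ?_) fun b hb => ?_
  · change (((h : G) * 1 : G) : G ⧸ N) = _
    rw [QuotientGroup.eq, mul_one, mul_one]
    exact N.inv_mem (hHN h.2)
  obtain ⟨g, rfl⟩ := QuotientGroup.mk_surjective b
  have hst : MulAction.stabilizer H (g : G ⧸ N) ≤ (H ⊓ Subgroup.center G).subgroupOf H := by
    intro h hh
    rw [MulAction.mem_stabilizer_iff] at hh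
    change (((h : G) * g : G) : G ⧸ N) = (g : G ⧸ N) at hh
    rw [QuotientGroup.eq] at hh
    have h1 : g⁻¹ * (h : G)⁻¹ * g ∈ N := by rwa [← mul_inv_rev]
    have hcop : (orderOf (g⁻¹ * (h : G)⁻¹ * g)).Coprime m := by
      rw [show g⁻¹ * (h : G)⁻¹ * g = MulAut.conj g⁻¹ (h : G)⁻¹ by simp,
        (MulAut.conj g⁻¹).orderOf_eq, orderOf_inv]
      exact ((hH h).mp h.2).2
    have h2 := mem_of_mem_normalizer hx h1 hcop
    refine ⟨h.2, by_contra fun hz => hb ?_⟩
    have h3 : g⁻¹ ∈ N := by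
      refine mem_normalizer_of_conj_mem S hx ((cen x).inv_mem (hHx h.2))
        (fun hc => hz (by have := Subgroup.inv_mem _ hc; rwa [inv_inv] at this)) ?_
      rwa [inv_inv]
    rw [QuotientGroup.eq, mul_one]
    exact h3
  refine dvd_trans ?_ (Subgroup.index_dvd_of_le hst)
  refine dvd_of_eq (Nat.eq_of_mul_eq_mul_left
    (Nat.card_pos (α := (H ⊓ Subgroup.center G : Subgroup G))) ?_)
  have h4 := ((H ⊓ Subgroup.center G).subgroupOf H).card_mul_index
  rw [Nat.card_congr (Subgroup.subgroupOfEquivOfLe inf_le_left).toEquiv, hcard] at h4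
  rw [h4, mul_comm]

end Cfsg.Agent.Lib.ClassSizes.CopDiv
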