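import Mathlib
import Cfsg.Agent.Lib.Elem70.Basic

/-!
# Class sizes: elementary lemmas

The size of the class of `x` is the index of the centralizer of `x`.

* `cen_mul_eq` : centralizer of a product of commuting elements of coprime order;
* `exists_sylow_le`, `not_dvd_of_sylow_le`, `exists_dvd_iff` : classes of size prime to `p`;
* `normalizer_le_or` : if no class size is divisible by both `p` and `q`, then a Sylow normalizer
  is centralised for `p` or for `q`;
* `exists_abelian_complement` : Burnside's transfer in the form used here.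
-/

set_option autoImplicit false

namespace Cfsg.Agent.Lib.ClassSizes.Basic

variable {G : Type*} [Group G]

theorem mem_cen {x y : G} : y ∈ Subgroup.centralizer ({x} : Set G) ↔ x * y = y * x := by
  rw [Subgroup.mem_centralizer_iff]
  simp

theorem mem_cen_comm {x y : G} :
    y ∈ Subgroup.centralizer ({x} : Set G) ↔ x ∈ Subgroup.centralizer ({y} : Set G) := by
  rw [mem_cen, mem_cen, eq_comm]

/-- Membership in the centralizer of a conjugate. -/
theorem mem_cen_conj {g x y : G} :
    y ∈ Subgroup.centralizer ({g * x * g⁻¹} : Set G) ↔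
      g⁻¹ * y * g ∈ Subgroup.centralizer ({x} : Set G) := by
  rw [mem_cen, mem_cen]
  constructor <;> intro h
  · calc x * (g⁻¹ * y * g) = g⁻¹ * (g * x * g⁻¹ * y) * g := by group
      _ = g⁻¹ * (y * (g * x * g⁻¹)) * g := by rw [h]
      _ = _ := by group
  · calc g * x * g⁻¹ * y = g * (x * (g⁻¹ * y * g)) * g⁻¹ := by group
      _ = g * (g⁻¹ * y * g * x) * g⁻¹ := by rw [h]
      _ = _ := by group

variable [Finite G]

theorem mem_powers_of_commute_coprime {a b : G} (hc : Commute a b)
    (hcop : (orderOf a).Coprime (orderOf b)) :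
    ∃ k : ℕ, (a * b) ^ k = a := by
  obtain ⟨k, hk⟩ := exists_pow_eq_self_of_coprime hcop.symm
  exact ⟨orderOf b * k, by
    rw [hc.mul_pow, pow_mul b, pow_orderOf_eq_one, one_pow, mul_one, pow_mul, hk]⟩

theorem cen_mul_eq {a b : G} (hc : Commute a b) (hcop : (orderOf a).Coprime (orderOf b)) :
    Subgroup.centralizer ({a * b} : Set G) =
      Subgroup.centralizer ({a} : Set G) ⊓ Subgroup.centralizer ({b} : Set G) := by
  obtain ⟨k, hk⟩ := mem_powers_of_commute_coprime hc hcop
  obtain ⟨l, hl⟩ := mem_powers_of_commute_coprime hc.symm hcop.symm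
  rw [← hc.eq] at hl
  refine le_antisymm (fun g hg => ?_) (fun g hg => ?_)
  · have h : Commute (a * b) g := mem_cen.mp hg
    refine ⟨mem_cen.mpr ?_, mem_cen.mpr ?_⟩
    · have h1 := h.pow_left k; rw [hk] at h1; exact h1
    · have h1 := h.pow_left l; rw [hl] at h1; exact h1
  · exact mem_cen.mpr
      ((show Commute a g from mem_cen.mp hg.1).mul_left (show Commute b g from mem_cen.mp hg.2))

/-- A subgroup of index prime to `p` contains a Sylow `p`-subgroup. -/
theorem exists_sylow_le {p : ℕ} [Fact p.Prime] {H : Subgroup G} (h : ¬ p ∣ H.index) :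
    ∃ P : Sylow p G, (P : Subgroup G) ≤ H := by
  obtain ⟨R⟩ : Nonempty (Sylow p H) := inferInstance
  have hR : ¬ p ∣ ((R : Subgroup H).map H.subtype).index := by
    rw [Subgroup.index_map_subtype]
    exact (Fact.out : p.Prime).not_dvd_mul R.not_dvd_index h
  refine ⟨(IsPGroup.map R.2 H.subtype).toSylow hR, ?_⟩
  rw [IsPGroup.toSylow_coe]
  exact Subgroup.map_subtype_le _

theorem not_dvd_of_sylow_le {p : ℕ} [Fact p.Prime] {H : Subgroup G} (P : Sylow p G)
    (h : (P : Subgroup G) ≤ H) : ¬ p ∣ H.index :=
  fun hd => P.not_dvd_index (hd.trans (Subgroup.index_dvd_of_le h))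

/-- Some class size is divisible by `p` iff a Sylow `p`-subgroup is noncentral. -/
theorem exists_dvd_iff {p : ℕ} [Fact p.Prime] (P : Sylow p G) :
    (∃ g : G, p ∣ (Subgroup.centralizer ({g} : Set G)).index) ↔
      ¬ (P : Subgroup G) ≤ Subgroup.center G := by
  constructor
  · rintro ⟨g, hg⟩ hle
    exact not_dvd_of_sylow_le P (hle.trans (Subgroup.center_le_centralizer _)) hg
  · intro hle
    by_contra hcon
    push Not at hcon
    apply hle
    have htop : Subgroup.centralizer ((P : Subgroup G) : Set G) = ⊤ := by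
      refine Lib.Elem70.eq_top_of_forall_conj _ fun g => ?_
      obtain ⟨R, hR⟩ := exists_sylow_le (hcon g)
      obtain ⟨c, hc⟩ := MulAction.exists_smul_eq G P R
      refine ⟨c, Subgroup.mem_centralizer_iff.mpr fun a ha => ?_⟩
      have hca : c * a * c⁻¹ ∈ (R : Subgroup G) := by
        rw [← hc, Sylow.coe_subgroup_smul]
        exact Subgroup.smul_mem_pointwise_smul a (MulAut.conj c) _ ha
      have := mem_cen.mp (hR hca)
      calc a * (c⁻¹ * g * c) = c⁻¹ * (c * a * c⁻¹ * g) * c := by group
        _ = c⁻¹ * (g * (c * a * c⁻¹)) * c := by rw [this]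
        _ = _ := by group
    intro a ha
    rw [Subgroup.mem_center_iff]
    intro g
    exact (Subgroup.mem_centralizer_iff.mp (htop ▸ Subgroup.mem_top g) a ha).symm

/-- If every element centralises a conjugate of `P` or of `Q`, and both have nontrivial
automizers, the group would be too small. -/
theorem normalizer_le_or {p q : ℕ} [Fact p.Prime] [Fact q.Prime] (P : Sylow p G) (Q : Sylow q G)
    (h : ∀ x : G, ¬ p ∣ (Subgroup.centralizer ({x} : Set G)).index ∨
      ¬ q ∣ (Subgroup.centralizer ({x} : Set G)).index) :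
    Subgroup.normalizer ((P : Subgroup G) : Set G) ≤ Subgroup.centralizer ((P : Subgroup G) : Set G) ∨
      Subgroup.normalizer ((Q : Subgroup G) : Set G) ≤
        Subgroup.centralizer ((Q : Subgroup G) : Set G) := by
  classical
  by_contra hcon
  push Not at hcon
  obtain ⟨hP, hQ⟩ := hcon
  have := Fintype.ofFinite G
  -- the elements centralising a conjugate of a Sylow subgroup
  have key : ∀ {r : ℕ} [Fact r.Prime] (R : Sylow r G),
      ¬ Subgroup.normalizer ((R : Subgroup G) : Set G) ≤
        Subgroup.centralizer ((R : Subgroup G) : Set G) →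
      2 * ((Finset.univ : Finset G).filter fun x =>
        x ≠ 1 ∧ ¬ r ∣ (Subgroup.centralizer ({x} : Set G)).index).card + 2 ≤ Nat.card G := by
    intro r _ R hR
    set N := Subgroup.normalizer ((R : Subgroup G) : Set G) with hN
    set C := Subgroup.centralizer ((R : Subgroup G) : Set G) with hC
    have hCN : C ≤ N := Subgroup.centralizer_le_normalizer _
    have := Fintype.ofFinite (G ⧸ N)
    let U : Finset G := Finset.univ.biUnion fun c : G ⧸ N =>
      ((Finset.univ.filter fun x : G => x ∈ C).erase 1).image fun x => c.out * x * c.out⁻¹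
    have hsub : ((Finset.univ : Finset G).filter fun x =>
        x ≠ 1 ∧ ¬ r ∣ (Subgroup.centralizer ({x} : Set G)).index) ⊆ U := by
      intro x hx
      obtain ⟨hx1, hxr⟩ := (Finset.mem_filter.mp hx).2
      obtain ⟨S, hS⟩ := exists_sylow_le hxr
      obtain ⟨g, hg⟩ := MulAction.exists_smul_eq G R S
      obtain ⟨n, hn⟩ := QuotientGroup.mk_out_eq_mul N g
      refine Finset.mem_biUnion.mpr ⟨(g : G ⧸ N), Finset.mem_univ _, Finset.mem_image.mpr
        ⟨(n : G)⁻¹ * (g⁻¹ * x * g) * n, Finset.mem_erase.mpr ⟨?_, Finset.mem_filter.mpr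
          ⟨Finset.mem_univ _, ?_⟩⟩, by rw [hn]; group⟩⟩
      · intro he
        apply hx1
        calc x = g * (n * ((n : G)⁻¹ * (g⁻¹ * x * g) * n) * (n : G)⁻¹) * g⁻¹ := by group
          _ = 1 := by rw [he]; group
      · rw [hC, Subgroup.mem_centralizer_iff]
        intro a ha
        have ha' : (n : G) * a * (n : G)⁻¹ ∈ (R : Subgroup G) :=
          (Subgroup.mem_normalizer_iff.mp n.2 a).mp ha
        have hga : g * ((n : G) * a * (n : G)⁻¹) * g⁻¹ ∈ (S : Subgroup G) := by
          rw [← hg, Sylow.coe_subgroup_smul]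
          exact Subgroup.smul_mem_pointwise_smul _ (MulAut.conj g) _ ha'
        have hcomm := mem_cen.mp (hS hga)
        calc a * ((n : G)⁻¹ * (g⁻¹ * x * g) * n)
            = (n : G)⁻¹ * (g⁻¹ * (g * ((n : G) * a * (n : G)⁻¹) * g⁻¹ * x) * g) * n := by group
          _ = (n : G)⁻¹ * (g⁻¹ * (x * (g * ((n : G) * a * (n : G)⁻¹) * g⁻¹)) * g) * n := by
              rw [hcomm]
          _ = _ := by group
    have hcard : U.card ≤ N.index * (Nat.card C - 1) := by
      refine Finset.card_biUnion_le.trans ((Finset.sum_le_card_nsmul _ _ (Nat.card C - 1) fun c _ => ?_).trans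
        (le_of_eq ?_))
      · refine Finset.card_image_le.trans (le_of_eq ?_)
        rw [Finset.card_erase_of_mem (Finset.mem_filter.mpr ⟨Finset.mem_univ _, C.one_mem⟩),
          Nat.card_eq_fintype_card, Fintype.card_subtype]
      · rw [smul_eq_mul, Finset.card_univ, Subgroup.index, Nat.card_eq_fintype_card (α := G ⧸ N)]
    have hrel : 2 ≤ C.relIndex N := by
      have h1 : C.relIndex N ≠ 0 := Subgroup.index_ne_zero_of_finite
      have h2 : C.relIndex N ≠ 1 := fun h => hR (Subgroup.relIndex_eq_one.mp h)
      omega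
    have hG : C.relIndex N * N.index * Nat.card C = Nat.card G := by
      rw [Subgroup.relIndex_mul_index hCN, mul_comm, Subgroup.card_mul_index]
    have h2 : 2 * N.index * Nat.card C ≤ Nat.card G := by
      rw [← hG]; gcongr
    have h3 : N.index * (Nat.card C - 1) + N.index = N.index * Nat.card C := by
      rw [← Nat.mul_succ]; congr 1; have := Nat.card_pos (α := C); omega
    have h4 : N.index ≠ 0 := Subgroup.index_ne_zero_of_finite
    have h5 := (Finset.card_le_card hsub).trans hcard
    rw [mul_assoc] at h2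
    omega
  have hp := key P hP
  have hq := key Q hQ
  have hcover : (Finset.univ : Finset G).erase 1 ⊆
      ((Finset.univ : Finset G).filter fun x =>
        x ≠ 1 ∧ ¬ p ∣ (Subgroup.centralizer ({x} : Set G)).index) ∪
      ((Finset.univ : Finset G).filter fun x =>
        x ≠ 1 ∧ ¬ q ∣ (Subgroup.centralizer ({x} : Set G)).index) := by
    intro x hx
    have hx1 := (Finset.mem_erase.mp hx).1
    rcases h x with h1 | h1
    · exact Finset.mem_union_left _ (Finset.mem_filter.mpr ⟨Finset.mem_univ _, hx1, h1⟩)
    · exact Finset.mem_union_right _ (Finset.mem_filter.mpr ⟨Finset.mem_univ _, hx1, h1⟩)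
  have h6 := (Finset.card_le_card hcover).trans (Finset.card_union_le _ _)
  rw [Finset.card_erase_of_mem (Finset.mem_univ _), Finset.card_univ,
    ← Nat.card_eq_fintype_card] at h6
  have := Nat.card_pos (α := G)
  omega

/-- Burnside's transfer: a normal `p`-complement with abelian quotient. -/
theorem exists_abelian_complement {p : ℕ} [Fact p.Prime] (P : Sylow p G)
    (hP : Subgroup.normalizer ((P : Subgroup G) : Set G) ≤
      Subgroup.centralizer ((P : Subgroup G) : Set G)) :
    IsMulCommutative (P : Subgroup G) ∧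
      ∃ N : Subgroup G, N.Normal ∧ Subgroup.IsComplement' N (P : Subgroup G) ∧
        commutator G ≤ N ∧ ¬ p ∣ Nat.card N := by
  have hcomm : ∀ a ∈ (P : Subgroup G), ∀ b ∈ (P : Subgroup G), a * b = b * a := fun a ha b hb =>
    Subgroup.mem_centralizer_iff.mp (hP (Subgroup.le_normalizer hb)) a ha
  refine ⟨⟨⟨fun a b => Subtype.ext (hcomm a a.2 b b.2)⟩⟩, (MonoidHom.transferSylow P hP).ker,
    inferInstance, MonoidHom.ker_transferSylow_isComplement' P hP, ?_,
    MonoidHom.not_dvd_card_ker_transferSylow P hP⟩
  rw [commutator_def, Subgroup.commutator_le]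
  intro a _ b _
  rw [MonoidHom.mem_ker, map_commutatorElement, commutatorElement_eq_one_iff_mul_comm]
  exact Subtype.ext (hcomm _ (MonoidHom.transferSylow P hP a).2 _
    (MonoidHom.transferSylow P hP b).2)

end Cfsg.Agent.Lib.ClassSizes.Basic
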