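import Mathlib
import Cfsg.Agent.Lib.ClassSizes.Basic

/-!
# Splitting off abelian Sylow subgroups centralised by their normalizers

If `N(P) ≤ C(P)` for the Sylow `p`-subgroups of every prime in a finset `T`, then `G = K ⋊ H` with
`H` an abelian Hall `T`-subgroup.
-/

set_option autoImplicit false

namespace Cfsg.Agent.Lib.ClassSizes.Split

open Cfsg.Agent.Lib.ClassSizes.Basic
open scoped commutatorElement

/-- `G = K ⋊ H` with `H` an abelian Hall `T`-subgroup. -/
theorem exists_split {G : Type*} [Group G] [Finite G] (T : Finset ℕ) (hTp : ∀ p ∈ T, p.Prime)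
    (hgood : ∀ p ∈ T, ∀ P : Sylow p G, Subgroup.normalizer ((P : Subgroup G) : Set G) ≤
      Subgroup.centralizer ((P : Subgroup G) : Set G)) :
    ∃ K H : Subgroup G, K.Normal ∧ Subgroup.IsComplement' K H ∧
      (Nat.card K).Coprime (Nat.card H) ∧ IsMulCommutative H ∧
      (∀ p ∈ T, ¬ p ∣ Nat.card K ∧ ∃ P : Sylow p G, (P : Subgroup G) ≤ H) ∧
      (∀ r : ℕ, r.Prime → r ∉ T → ∀ R : Sylow r G, (R : Subgroup G) ≤ K) ∧
      (∀ r : ℕ, r.Prime → r ∣ Nat.card H → r ∈ T) := by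
  classical
  have hex : ∀ p : ℕ, ∃ N : Subgroup G, p ∈ T → N.Normal ∧ commutator G ≤ N ∧ ¬ p ∣ Nat.card N ∧
      N.index ∣ p ^ (Nat.card G).factorization p := by
    intro p
    by_cases hp : p ∈ T
    · have := Fact.mk (hTp p hp)
      obtain ⟨P⟩ : Nonempty (Sylow p G) := inferInstance
      obtain ⟨-, N, hN, hc, hcomm, hnd⟩ := exists_abelian_complement P (hgood p hp P)
      exact ⟨N, fun _ => ⟨hN, hcomm, hnd, by rw [hc.symm.index_eq_card, P.card_eq_multiplicity]⟩⟩
    · exact ⟨⊤, fun h => absurd h hp⟩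
  choose N hN using hex
  set K : Subgroup G := ⨅ p ∈ T, N p with hK
  have hKle : ∀ p ∈ T, K ≤ N p := fun p hp => iInf₂_le p hp
  have hKn : K.Normal := ⟨fun x hx g => by
    rw [hK, Subgroup.mem_iInf] at hx ⊢
    intro p
    rw [Subgroup.mem_iInf]
    intro hp
    exact (hN p hp).1.conj_mem x (Subgroup.mem_iInf.mp (hx p) hp) g⟩
  have hKc : commutator G ≤ K := le_iInf₂ fun p hp => (hN p hp).2.1
  have hR : ∀ r : ℕ, r.Prime → r ∉ T → ∀ R : Sylow r G, (R : Subgroup G) ≤ K := by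
    intro r hr hrT R
    have := Fact.mk hr
    refine le_iInf₂ fun p hp => ?_
    have := (hN p hp).1
    intro x hx
    rw [← QuotientGroup.eq_one_iff, ← orderOf_eq_one_iff]
    obtain ⟨j, hj⟩ := R.2.map (QuotientGroup.mk' (N p)) |>.exists_card_eq
    refine Nat.eq_one_of_dvd_coprimes ?_
      ((Subgroup.orderOf_dvd_natCard _ (Subgroup.mem_map_of_mem (QuotientGroup.mk' (N p)) hx)).trans
        (dvd_of_eq hj))
      ((orderOf_dvd_natCard _).trans (hN p hp).2.2.2)
    exact Nat.coprime_pow_primes _ _ hr (hTp p hp) (fun h => hrT (h ▸ hp))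
  have hKp : ∀ p ∈ T, ¬ p ∣ Nat.card K := fun p hp hd =>
    (hN p hp).2.2.1 (hd.trans (Subgroup.card_dvd_of_le (hKle p hp)))
  have hcop : (Nat.card K).Coprime K.index := by
    refine Nat.coprime_of_dvd fun r hr h1 h2 => ?_
    have := Fact.mk hr
    obtain ⟨R⟩ : Nonempty (Sylow r G) := inferInstance
    by_cases hrT : r ∈ T
    · exact hKp r hrT h1
    · exact not_dvd_of_sylow_le R (hR r hr hrT R) h2
  obtain ⟨H, hH⟩ := Subgroup.exists_right_complement'_of_coprime hcop
  have hHc : IsMulCommutative H := ⟨⟨fun a b => by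
    have h1 : ⁅(a : G), (b : G)⁆ ∈ K :=
      hKc (Subgroup.commutator_mem_commutator (Subgroup.mem_top _) (Subgroup.mem_top _))
    have h2 : ⁅(a : G), (b : G)⁆ ∈ H :=
      H.mul_mem (H.mul_mem (H.mul_mem a.2 b.2) (H.inv_mem a.2)) (H.inv_mem b.2)
    exact Subtype.ext (commutatorElement_eq_one_iff_mul_comm.mp
      (Subgroup.disjoint_def.mp hH.disjoint h1 h2))⟩⟩
  have hcard : Nat.card H = K.index := hH.symm.index_eq_card.symm
  refine ⟨K, H, hKn, hH, hcard ▸ hcop, hHc, fun p hp => ⟨hKp p hp, ?_⟩, hR, fun r hr hd => ?_⟩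
  · have := Fact.mk (hTp p hp)
    refine exists_sylow_le fun hd => hKp p hp ?_
    rwa [hH.index_eq_card] at hd
  · by_contra hrT
    have := Fact.mk hr
    obtain ⟨R⟩ : Nonempty (Sylow r G) := inferInstance
    exact not_dvd_of_sylow_le R (hR r hr hrT R) (hcard ▸ hd)

end Cfsg.Agent.Lib.ClassSizes.Split
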