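import Mathlib
import Cfsg.Agent.Lib.ClassSizes.Basic
import Cfsg.Agent.Lib.ClassSizes.Split

/-!
# Primes never dividing a class size together

Call a prime `t` good if `N(R) ≤ C(R)` for its Sylow subgroups. Two bad primes always divide a
common class size. For two good primes `p, q` that do not, some prime divides a class size together
with `p` and one together with `q`. In a nonsolvable group a good prime shares a class with a bad
one.
-/

set_option autoImplicit false

namespace Cfsg.Agent.Lib.ClassSizes.NonAdjacent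

open Cfsg.Agent.Lib.ClassSizes.Basic
open scoped commutatorElement

variable {G : Type*} [Group G] [Finite G]

/-- A prime is good if the normalizers of its Sylow subgroups centralise them. -/
def Good (G : Type*) [Group G] (t : ℕ) : Prop :=
  ∀ R : Sylow t G, Subgroup.normalizer ((R : Subgroup G) : Set G) ≤
    Subgroup.centralizer ((R : Subgroup G) : Set G)

/-- `p` and `q` divide a common class size. -/
def Adj (G : Type*) [Group G] (p q : ℕ) : Prop :=
  ∃ x : G, p * q ∣ (Subgroup.centralizer ({x} : Set G)).index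

theorem adj_of_dvd {p q : ℕ} (hp : p.Prime) (hq : q.Prime) (hne : p ≠ q) (x : G)
    (h1 : p ∣ (Subgroup.centralizer ({x} : Set G)).index)
    (h2 : q ∣ (Subgroup.centralizer ({x} : Set G)).index) : Adj G p q :=
  ⟨x, ((Nat.coprime_primes hp hq).mpr hne).mul_dvd_of_dvd_of_dvd h1 h2⟩

theorem adj_of_bad {p q : ℕ} [Fact p.Prime] [Fact q.Prime] (hne : p ≠ q) (hp : ¬ Good G p)
    (hq : ¬ Good G q) : Adj G p q := by
  by_contra h
  simp only [Good, not_forall] at hp hq
  obtain ⟨P, hP⟩ := hp
  obtain ⟨Q, hQ⟩ := hq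
  rcases normalizer_le_or P Q (fun x => by
    by_contra hc
    push Not at hc
    exact h (adj_of_dvd Fact.out Fact.out hne x hc.1 hc.2)) with h1 | h1
  · exact hP h1
  · exact hQ h1

theorem exists_conj_mem_centralizer {p : ℕ} [Fact p.Prime] (P : Sylow p G) {x : G}
    (hx : ¬ p ∣ (Subgroup.centralizer ({x} : Set G)).index) :
    ∃ g : G, g⁻¹ * x * g ∈ Subgroup.centralizer ((P : Subgroup G) : Set G) := by
  obtain ⟨R, hR⟩ := exists_sylow_le hx
  obtain ⟨g, hg⟩ := MulAction.exists_smul_eq G P R
  refine ⟨g, Subgroup.mem_centralizer_iff.mpr fun a ha => ?_⟩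
  have hga : g * a * g⁻¹ ∈ (R : Subgroup G) := by
    rw [← hg, Sylow.coe_subgroup_smul]
    exact Subgroup.smul_mem_pointwise_smul a (MulAut.conj g) _ ha
  have h := mem_cen.mp (hR hga)
  calc a * (g⁻¹ * x * g) = g⁻¹ * (g * a * g⁻¹ * x) * g := by group
    _ = g⁻¹ * (x * (g * a * g⁻¹)) * g := by rw [h]
    _ = _ := by group

/-- Two subgroups of coprime index multiply to the whole group. -/
theorem exists_mul_of_coprime_index {A B : Subgroup G} (h : A.index.Coprime B.index) (g : G) :
    ∃ a ∈ A, ∃ b ∈ B, g = a * b := by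
  let f : A ⧸ B.subgroupOf A → G ⧸ B := Quotient.map' Subtype.val fun a b hab => by
    rw [QuotientGroup.leftRel_apply] at hab ⊢
    exact hab
  have hinj : Function.Injective f := by
    intro a b
    induction a using QuotientGroup.induction_on with | _ a => ?_
    induction b using QuotientGroup.induction_on with | _ b => ?_
    intro hab
    exact QuotientGroup.eq.mpr (Subgroup.mem_subgroupOf.mpr (QuotientGroup.eq.mp hab))
  have hle : Nat.card (G ⧸ B) ≤ Nat.card (A ⧸ B.subgroupOf A) := by
    rw [← Subgroup.index_eq_card, ← Subgroup.index_eq_card]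
    have h1 : B.relIndex A * A.index = (B ⊓ A).index := by
      rw [← Subgroup.inf_relIndex_right, Subgroup.relIndex_mul_index inf_le_right]
    have h2 : B.index ∣ B.relIndex A * A.index :=
      h1 ▸ Subgroup.index_dvd_of_le inf_le_left
    exact Nat.le_of_dvd (Nat.pos_of_ne_zero Subgroup.index_ne_zero_of_finite)
      (Nat.Coprime.dvd_of_dvd_mul_right h.symm h2)
  obtain ⟨c, hc⟩ := (hinj.bijective_of_nat_card_le hle).2 (g : G ⧸ B)
  induction c using QuotientGroup.induction_on with | _ a => ?_
  exact ⟨a, a.2, (a : G)⁻¹ * g, QuotientGroup.eq.mp hc, by group⟩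

/-- Two good primes dividing no common class size share a third neighbour. -/
theorem exists_common {p q : ℕ} [hp : Fact p.Prime] [hq : Fact q.Prime] (hne : p ≠ q)
    (hgp : Good G p) (hgq : Good G q)
    (hp' : ∃ x : G, p ∣ (Subgroup.centralizer ({x} : Set G)).index)
    (hq' : ∃ x : G, q ∣ (Subgroup.centralizer ({x} : Set G)).index) (hn : ¬ Adj G p q) :
    ∃ r : ℕ, r.Prime ∧ r ≠ p ∧ r ≠ q ∧ Adj G p r ∧ Adj G r q := by
  classical
  obtain ⟨K, H, hKn, hKH, hcop, hHc, hT, -, -⟩ := Split.exists_split {p, q}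
    (by simp [hp.out, hq.out]) (by
      intro t ht
      rcases Finset.mem_insert.mp ht with rfl | h
      · exact hgp
      · rw [Finset.mem_singleton.mp h]; exact hgq)
  obtain ⟨hpK, P, hPH⟩ := hT p (by simp)
  obtain ⟨hqK, Q, hQH⟩ := hT q (by simp)
  have hcomm : ∀ a ∈ H, ∀ b ∈ H, a * b = b * a := fun a ha b hb =>
    congrArg Subtype.val (hHc.is_comm.comm (⟨a, ha⟩ : H) ⟨b, hb⟩)
  have hdec : ∀ g : G, ∃ k ∈ K, ∃ h ∈ H, g = k * h := fun g => by
    obtain ⟨⟨k, h⟩, hkh⟩ := hKH.2 g
    exact ⟨k, k.2, h, h.2, hkh.symm⟩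
  -- one side: classes of `a * c`
  have side : ∀ {s t : ℕ} [Fact s.Prime] [Fact t.Prime] (S : Sylow s G) (U : Sylow t G),
      (S : Subgroup G) ≤ H → (U : Subgroup G) ≤ H → ¬ s ∣ Nat.card K →
      (∀ x : G, ¬ s ∣ (Subgroup.centralizer ({x} : Set G)).index ∨
        ¬ t ∣ (Subgroup.centralizer ({x} : Set G)).index) →
      (∃ x : G, t ∣ (Subgroup.centralizer ({x} : Set G)).index) →
      ∀ a ∈ (S : Subgroup G), ∃ y : G, t ∣ (Subgroup.centralizer ({y} : Set G)).index ∧
        (Subgroup.centralizer ({a} : Set G)).index ∣ (Subgroup.centralizer ({y} : Set G)).index := by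
    intro s t _ _ S U hSH hUH hsK hor ht a ha
    set Ca := Subgroup.centralizer ({a} : Set G) with hCa
    set C := K ⊓ Ca with hC
    have hHCa : H ≤ Ca := fun h hh => mem_cen.mpr (hcomm a (hSH ha) h hh)
    -- some element of `C` has no conjugate in `C` commuting with `U`
    obtain ⟨c, hc, hcU⟩ : ∃ c ∈ C, ∀ k ∈ C,
        k⁻¹ * c * k ∉ Subgroup.centralizer ((U : Subgroup G) : Set G) := by
      by_contra! hall
      have htopC : (Subgroup.centralizer ((U : Subgroup G) : Set G)).subgroupOf C = ⊤ := by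
        refine Lib.Elem70.eq_top_of_forall_conj _ fun g => ?_
        obtain ⟨k, hk, hk'⟩ := hall g.1 g.2
        exact ⟨⟨k, hk⟩, Subgroup.mem_subgroupOf.mpr hk'⟩
      have hCle : C ≤ Subgroup.centralizer ((U : Subgroup G) : Set G) :=
        Subgroup.subgroupOf_eq_top.mp htopC
      have htop : Subgroup.centralizer ((U : Subgroup G) : Set G) = ⊤ := by
        refine Lib.Elem70.eq_top_of_forall_conj _ fun x => ?_
        rcases hor x with h1 | h1
        · obtain ⟨g, hg⟩ := exists_conj_mem_centralizer S h1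
          refine ⟨g, ?_⟩
          obtain ⟨k, hk, h, hh, hkh⟩ := hdec (g⁻¹ * x * g)
          rw [hkh] at hg ⊢
          have hkS : k ∈ Subgroup.centralizer ((S : Subgroup G) : Set G) := by
            have hhS : h ∈ Subgroup.centralizer ((S : Subgroup G) : Set G) :=
              Subgroup.mem_centralizer_iff.mpr fun b hb => hcomm b (hSH hb) h hh
            simpa using Subgroup.mul_mem _ hg (Subgroup.inv_mem _ hhS)
          refine Subgroup.mul_mem _ (hCle ⟨hk, ?_⟩) (Subgroup.mem_centralizer_iff.mpr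
            fun b hb => hcomm b (hUH hb) h hh)
          exact mem_cen.mpr (Subgroup.mem_centralizer_iff.mp hkS a ha)
        · exact exists_conj_mem_centralizer U h1
      obtain ⟨x, hx⟩ := ht
      refine not_dvd_of_sylow_le U (fun b hb => ?_) hx
      have hxU : x ∈ Subgroup.centralizer ((U : Subgroup G) : Set G) := htop ▸ Subgroup.mem_top x
      exact mem_cen.mpr (Subgroup.mem_centralizer_iff.mp hxU b hb).symm
    have hac : Commute a c := mem_cen.mp hc.2
    have hord : (orderOf a).Coprime (orderOf c) := by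
      obtain ⟨i, hi⟩ := S.2 ⟨a, ha⟩
      have hi' : a ^ s ^ i = 1 := congrArg Subtype.val hi
      exact Nat.Coprime.of_dvd (orderOf_dvd_of_pow_eq_one hi') (K.orderOf_dvd_natCard hc.1)
        (((Fact.out : s.Prime).coprime_iff_not_dvd.mpr hsK).pow_left i)
    refine ⟨a * c, ?_, ?_⟩
    · rw [cen_mul_eq hac hord]
      by_contra hnd
      obtain ⟨U', hU'⟩ := exists_sylow_le hnd
      have hU1 : (U' : Subgroup G) ≤ Ca := hU'.trans inf_le_left
      have hU0 : (U : Subgroup G) ≤ Ca := hUH.trans hHCa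
      obtain ⟨g, hg⟩ := MulAction.exists_smul_eq Ca (U.subtype hU0) (U'.subtype hU1)
      obtain ⟨k, hk, h, hh, hkh⟩ := hdec g.1
      have hkCa : k ∈ Ca := by
        have := Ca.mul_mem g.2 (Ca.inv_mem (hHCa hh))
        rwa [hkh, mul_inv_cancel_right] at this
      refine hcU k ⟨hk, hkCa⟩ (Subgroup.mem_centralizer_iff.mpr fun b hb => ?_)
      have hgb : (g : G) * b * (g : G)⁻¹ ∈ (U' : Subgroup G) := by
        have h1 : g * ⟨b, hU0 hb⟩ * g⁻¹ ∈ ((U'.subtype hU1 : Sylow t Ca) : Subgroup Ca) := by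
          rw [← hg, Sylow.coe_subgroup_smul]
          exact Subgroup.smul_mem_pointwise_smul _ (MulAut.conj g) _
            (show (⟨b, hU0 hb⟩ : Ca) ∈ ((U.subtype hU0 : Sylow t Ca) : Subgroup Ca) from hb)
        exact h1
      rw [hkh, show k * h * b * (k * h)⁻¹ = k * (h * b) * h⁻¹ * k⁻¹ by group,
        hcomm h hh b (hUH hb), show k * (b * h) * h⁻¹ * k⁻¹ = k * b * k⁻¹ by group] at hgb
      have := mem_cen.mp (hU' hgb).2
      calc b * (k⁻¹ * c * k) = k⁻¹ * (k * b * k⁻¹ * c) * k := by group
        _ = k⁻¹ * (c * (k * b * k⁻¹)) * k := by rw [this]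
        _ = _ := by group
    · rw [cen_mul_eq hac hord]
      exact Subgroup.index_dvd_of_le inf_le_left
  have hor : ∀ x : G, ¬ p ∣ (Subgroup.centralizer ({x} : Set G)).index ∨
      ¬ q ∣ (Subgroup.centralizer ({x} : Set G)).index := fun x => by
    by_contra hc
    push Not at hc
    exact hn (adj_of_dvd hp.out hq.out hne x hc.1 hc.2)
  by_cases hpair : ∀ a ∈ (P : Subgroup G), ∀ b ∈ (Q : Subgroup G),
      ((Subgroup.centralizer ({a} : Set G)).index).Coprime (Subgroup.centralizer ({b} : Set G)).index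
  swap
  · push Not at hpair
    obtain ⟨a, ha, b, hb, hab⟩ := hpair
    obtain ⟨r, hr, hra, hrb⟩ := Nat.Prime.not_coprime_iff_dvd.mp hab
    have hrp : r ≠ p := fun h => not_dvd_of_sylow_le P
      (fun x hx => mem_cen.mpr (hcomm a (hPH ha) x (hPH hx))) (h ▸ hra)
    have hrq : r ≠ q := fun h => not_dvd_of_sylow_le Q
      (fun x hx => mem_cen.mpr (hcomm a (hPH ha) x (hQH hx))) (h ▸ hra)
    obtain ⟨y, hy1, hy2⟩ := side P Q hPH hQH hpK hor hq' a ha
    obtain ⟨y', hy1', hy2'⟩ := side Q P hQH hPH hqK (fun x => (hor x).symm) hp' b hb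
    exact ⟨r, hr, hrp, hrq, adj_of_dvd hp.out hr hrp.symm y' hy1' (hrb.trans hy2'),
      adj_of_dvd hr hq.out hrq y (hra.trans hy2) hy1⟩
  -- otherwise the normal closures of `P` and `Q` commute
  exfalso
  set N := Subgroup.normalClosure ((P : Subgroup G) : Set G) with hN
  set M := Subgroup.normalClosure ((Q : Subgroup G) : Set G) with hM
  have hNQ : (Q : Subgroup G) ≤ Subgroup.centralizer (N : Set G) := by
    intro b hb
    rw [Subgroup.mem_centralizer_iff]
    intro z hz
    have hle : N ≤ Subgroup.centralizer ({b} : Set G) := by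
      rw [hN, Subgroup.normalClosure, Subgroup.closure_le]
      intro w hw
      obtain ⟨a, ha, hc⟩ := Group.mem_conjugatesOfSet_iff.mp hw
      obtain ⟨g, rfl⟩ := isConj_iff.mp hc
      obtain ⟨v, hv, u, hu, rfl⟩ := exists_mul_of_coprime_index (hpair a ha b hb).symm g
      refine mem_cen.mpr ?_
      have hua : u * a = a * u := (mem_cen.mp hu).symm
      have h1 : v * u * a * (v * u)⁻¹ = v * a * v⁻¹ := by
        calc v * u * a * (v * u)⁻¹ = v * (u * a) * u⁻¹ * v⁻¹ := by group
          _ = v * a * v⁻¹ := by rw [hua]; group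
      rw [h1]
      have hvb : b * v = v * b := mem_cen.mp hv
      have hba : b * a = a * b := hcomm b (hQH hb) a (hPH ha)
      calc b * (v * a * v⁻¹) = (b * v) * a * v⁻¹ := by group
        _ = v * (b * a) * v⁻¹ := by rw [hvb]; group
        _ = v * a * (b * v⁻¹) := by rw [hba]; group
        _ = v * a * v⁻¹ * b := by
            have : b * v⁻¹ = v⁻¹ * b := (Commute.inv_right (hvb : Commute b v)).eq
            rw [this]; group
    exact (mem_cen.mp (hle hz)).symm
  have hMN : M ≤ Subgroup.centralizer (N : Set G) := by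
    have : (Subgroup.centralizer (N : Set G)).Normal := inferInstance
    exact Subgroup.normalClosure_le_normal hNQ
  -- elements moved inside each normal closure
  have moved : ∀ {s : ℕ} [Fact s.Prime] (S : Sylow s G), Good G s →
      (∃ x : G, s ∣ (Subgroup.centralizer ({x} : Set G)).index) →
      ∃ u ∈ Subgroup.normalClosure ((S : Subgroup G) : Set G),
        s ∣ (Subgroup.centralizer ({u} : Set G)).index := by
    intro s _ S hgS hs
    by_contra! hall
    set D := Subgroup.normalClosure ((S : Subgroup G) : Set G) with hD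
    have hSD : (S : Subgroup G) ≤ D := Subgroup.le_normalClosure
    have htop : (Subgroup.centralizer ((S : Subgroup G) : Set G)).subgroupOf D = ⊤ := by
      refine Lib.Elem70.eq_top_of_forall_conj _ fun u => ?_
      obtain ⟨g, hg⟩ := exists_conj_mem_centralizer S (hall u.1 u.2)
      have hf : Subgroup.normalizer ((S : Subgroup G) : Set G) ⊔ D = ⊤ :=
        Sylow.normalizer_sup_eq_top' S hSD
      obtain ⟨d, hd, m, hm, rfl⟩ := (Subgroup.mem_sup_of_normal_left (s := D)
        (t := Subgroup.normalizer ((S : Subgroup G) : Set G))).mp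
          ((sup_comm D _).trans hf ▸ Subgroup.mem_top g)
      refine ⟨⟨d, hd⟩, Subgroup.mem_subgroupOf.mpr ?_⟩
      have hmc := hgS S hm
      have h2 : d⁻¹ * u.1 * d = m * ((d * m)⁻¹ * u.1 * (d * m)) * m⁻¹ := by group
      show d⁻¹ * u.1 * d ∈ _
      rw [h2]
      exact Subgroup.mul_mem _ (Subgroup.mul_mem _ hmc hg) (Subgroup.inv_mem _ hmc)
    have hDS : D ≤ Subgroup.centralizer ((S : Subgroup G) : Set G) :=
      Subgroup.subgroupOf_eq_top.mp htop
    have hnorm : ∀ g : G, g ∈ Subgroup.normalizer ((S : Subgroup G) : Set G) := by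
      intro g
      refine Sylow.smul_eq_iff_mem_normalizer.mp ?_
      have hle : ((g • S : Sylow s G) : Subgroup G) ≤ D := by
        rw [Sylow.coe_subgroup_smul]
        rintro _ ⟨x, hx, rfl⟩
        exact (Subgroup.normalClosure_normal).conj_mem x (hSD hx) g
      have hp' : IsPGroup s ((g • S : Sylow s G) ⊔ S : Subgroup G) :=
        IsPGroup.to_sup_of_normal_right' (g • S).2 S.2
          ((hle.trans hDS).trans (Subgroup.centralizer_le_normalizer _))
      exact Sylow.ext ((g • S).3 hp' le_sup_left ▸ S.3 hp' le_sup_right)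
    have hcen : ∀ g : G, g ∈ Subgroup.centralizer ((S : Subgroup G) : Set G) :=
      fun g => hgS S (hnorm g)
    obtain ⟨x, hx⟩ := hs
    exact not_dvd_of_sylow_le S (fun b hb =>
      mem_cen.mpr (Subgroup.mem_centralizer_iff.mp (hcen x) b hb).symm) hx
  obtain ⟨u, hu, hpu⟩ := moved P hgp hp'
  obtain ⟨v, hv, hqv⟩ := moved Q hgq hq'
  have huv : ∀ x ∈ N, x * v = v * x := fun x hx =>
    Subgroup.mem_centralizer_iff.mp (hMN hv) x hx
  rcases hor (u * v) with h1 | h1
  · obtain ⟨P', hP'⟩ := exists_sylow_le h1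
    refine not_dvd_of_sylow_le P' (fun b hb => mem_cen.mpr ?_) hpu
    have hbN : b ∈ N := by
      obtain ⟨g, rfl⟩ := MulAction.exists_smul_eq G P P'
      rw [Sylow.coe_subgroup_smul] at hb
      obtain ⟨x, hx, rfl⟩ := hb
      exact (Subgroup.normalClosure_normal).conj_mem x (Subgroup.le_normalClosure hx) g
    have h2 := mem_cen.mp (hP' hb)
    have h3 := huv b hbN
    exact mul_right_cancel (b := v) (by
      calc u * b * v = u * (b * v) := by group
        _ = u * v * b := by rw [h3]; group
        _ = b * u * v := by rw [h2]; group)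
  · obtain ⟨Q', hQ'⟩ := exists_sylow_le h1
    refine not_dvd_of_sylow_le Q' (fun b hb => mem_cen.mpr ?_) hqv
    have hbM : b ∈ M := by
      obtain ⟨g, rfl⟩ := MulAction.exists_smul_eq G Q Q'
      rw [Sylow.coe_subgroup_smul] at hb
      obtain ⟨x, hx, rfl⟩ := hb
      exact (Subgroup.normalClosure_normal).conj_mem x (Subgroup.le_normalClosure hx) g
    have h2 := mem_cen.mp (hQ' hb)
    have h3 : u * b = b * u := Subgroup.mem_centralizer_iff.mp (hMN hbM) u hu
    exact mul_left_cancel (a := u) (by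
      calc u * (v * b) = u * v * b := by group
        _ = b * u * v := by rw [h2]; group
        _ = u * (b * v) := by rw [← h3]; group)

theorem exists_perfect_normal (hG : ¬ Group.IsSolvable G) :
    ∃ L : Subgroup G, L.Normal ∧ ⁅L, L⁆ = L ∧ L ≠ ⊥ := by
  obtain ⟨n, hn⟩ : ∃ n, derivedSeries G (n + 1) = derivedSeries G n := by
    by_contra! hall
    have h : ∀ n, Nat.card (derivedSeries G n) + n ≤ Nat.card G := by
      intro n
      induction n with
      | zero => simp [derivedSeries_zero]
      | succ n ih =>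
          have hle : derivedSeries G (n + 1) ≤ derivedSeries G n := derivedSeries_antitone G n.le_succ
          have hlt : Nat.card (derivedSeries G (n + 1)) < Nat.card (derivedSeries G n) := by
            by_contra hc
            exact hall n (Subgroup.eq_of_le_of_card_ge hle (not_lt.mp hc))
          omega
    have := h (Nat.card G)
    have := Nat.card_pos (α := derivedSeries G (Nat.card G))
    omega
  exact ⟨derivedSeries G n, derivedSeries_normal G n, hn, fun h => hG ⟨⟨n, h⟩⟩⟩

/-- In a nonsolvable group a good prime shares a class size with some bad prime. -/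
theorem exists_bad_adj (hG : ¬ Group.IsSolvable G) {q : ℕ} [hq : Fact q.Prime] (hgq : Good G q)
    (hq' : ∃ x : G, q ∣ (Subgroup.centralizer ({x} : Set G)).index) :
    ∃ r : ℕ, r.Prime ∧ ¬ Good G r ∧ Adj G r q := by
  classical
  obtain ⟨L, hLn, hLL, hLne⟩ := exists_perfect_normal hG
  obtain ⟨Q⟩ : Nonempty (Sylow q G) := inferInstance
  -- the Sylow normalizers inside `L` do not centralise
  have hLbad : ∀ r : ℕ, [Fact r.Prime] → r ∣ Nat.card L → ∀ R : Sylow r L,
      ¬ Subgroup.normalizer ((R : Subgroup L) : Set L) ≤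
        Subgroup.centralizer ((R : Subgroup L) : Set L) := by
    intro r _ hr R hle
    obtain ⟨-, N, -, -, hN, hnd⟩ := exists_abelian_complement R hle
    have hLL' : commutator L = ⊤ := by
      refine Subgroup.map_injective L.subtype_injective ?_
      rw [commutator_def, Subgroup.map_commutator, ← MonoidHom.range_eq_map, Subgroup.range_subtype,
        hLL]
    rw [hLL', top_le_iff] at hN
    rw [hN, Subgroup.card_top] at hnd
    exact hnd hr
  have hbad : ∀ r : ℕ, r.Prime → r ∣ Nat.card L → ¬ Good G r := by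
    intro r hr hrL hgood
    have := Fact.mk hr
    obtain ⟨K, H, hKn, hKH, -, hHc, hT, -, -⟩ := Split.exists_split {r}
      (by simp [hr]) (by intro t ht; rw [Finset.mem_singleton.mp ht]; exact hgood)
    have hLK : L ≤ K := by
      rw [← hLL, Subgroup.commutator_le]
      intro a _ b _
      rw [← QuotientGroup.eq_one_iff]
      let e := hKH.symm.QuotientMulEquiv
      show QuotientGroup.mk' K ⁅a, b⁆ = 1
      rw [map_commutatorElement]
      apply e.injective
      rw [map_commutatorElement, map_one, commutatorElement_eq_one_iff_mul_comm]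
      exact hHc.is_comm.comm _ _
    exact (hT r (by simp)).1 (hrL.trans (Subgroup.card_dvd_of_le hLK))
  by_cases hqL : q ∣ Nat.card L
  · exact absurd hgq (hbad q hq.out hqL)
  by_contra hcon
  push Not at hcon
  have hnadj : ∀ r : ℕ, r.Prime → r ∣ Nat.card L → ∀ x : G,
      q ∣ (Subgroup.centralizer ({x} : Set G)).index →
      ¬ r ∣ (Subgroup.centralizer ({x} : Set G)).index := fun r hr hrL x hqx hrx =>
    hcon r hr (hbad r hr hrL) (adj_of_dvd hr hq.out (fun h => hqL (h ▸ hrL)) x hrx hqx)
  obtain ⟨r, hr, hrL⟩ := Nat.exists_prime_and_dvd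
    (fun h => hLne (Subgroup.eq_bot_of_card_eq L h) : Nat.card L ≠ 1)
  have := Fact.mk hr
  let π := QuotientGroup.mk' L
  let Qb : Sylow q (G ⧸ L) := Q.mapSurjective (QuotientGroup.mk'_surjective L)
  by_cases hQb : (Qb : Subgroup (G ⧸ L)) ≤ Subgroup.center (G ⧸ L)
  swap
  · -- a whole coset of `L` is moved by `q`
    obtain ⟨yb, hy⟩ := (exists_dvd_iff Qb).mpr hQb
    obtain ⟨y, rfl⟩ := QuotientGroup.mk'_surjective L yb
    have hall : ∀ l : L, q ∣ (Subgroup.centralizer ({y * l} : Set G)).index := by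
      intro l
      refine hy.trans ?_
      have hπ : π (y * l) = π y := by
        rw [map_mul, show π (l : G) = 1 from (QuotientGroup.eq_one_iff _).mpr l.2, mul_one]
      have hle : (Subgroup.centralizer ({y * l} : Set G)).map π ≤
          Subgroup.centralizer ({π y} : Set (G ⧸ L)) := by
        rintro _ ⟨g, hg, rfl⟩
        rw [mem_cen, ← hπ, ← map_mul, ← map_mul, mem_cen.mp hg]
      exact (Subgroup.index_dvd_of_le hle).trans
        (Subgroup.index_map_dvd _ (QuotientGroup.mk'_surjective L))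
    obtain ⟨RL⟩ : Nonempty (Sylow r L) := inferInstance
    have hNC := hLbad r hrL RL
    set N := Subgroup.normalizer ((RL : Subgroup L) : Set L) with hNdef
    set C := Subgroup.centralizer ((RL : Subgroup L) : Set L) with hCdef
    have hcov : ∀ l : L, ∃ m : L, ∀ b ∈ (RL : Subgroup L),
        ((m * b * m⁻¹ : L) : G) * (y * l) = (y * l) * ((m * b * m⁻¹ : L) : G) := by
      intro l
      obtain ⟨R', hR'⟩ := exists_sylow_le (hnadj r hr hrL (y * l) (hall l))
      -- its trace on `L` is a Sylow subgroup of `L`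
      obtain ⟨R1, hR1⟩ := Sylow.exists_comap_subtype_eq RL
      obtain ⟨g, hg⟩ := MulAction.exists_smul_eq G R1 R'
      have hsub : IsPGroup r ((R' : Subgroup G).comap L.subtype) :=
        R'.2.comap_of_injective _ L.subtype_injective
      obtain ⟨R2, hR2⟩ := hsub.exists_le_sylow
      obtain ⟨m, hm⟩ := MulAction.exists_smul_eq L RL R2
      refine ⟨m, fun b hb => ?_⟩
      have hcard : Nat.card ((R' : Subgroup G).comap L.subtype) = Nat.card (R2 : Subgroup L) := by
        refine le_antisymm (Subgroup.card_le_of_le hR2) ?_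
        have h1 : Nat.card (R2 : Subgroup L) = Nat.card (RL : Subgroup L) := by
          rw [R2.card_eq_multiplicity, RL.card_eq_multiplicity]
        rw [h1]
        refine Nat.card_le_card_of_injective (fun b : (RL : Subgroup L) =>
          (⟨⟨g * (b.1 : G) * g⁻¹, hLn.conj_mem _ b.1.2 g⟩, ?_⟩ :
            (R' : Subgroup G).comap L.subtype)) fun a b hab => ?_
        · show g * (b.1 : G) * g⁻¹ ∈ (R' : Subgroup G)
          rw [← hg, Sylow.coe_subgroup_smul]
          exact Subgroup.smul_mem_pointwise_smul (b.1 : G) (MulAut.conj g) _ (hR1.ge b.2)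
        · have h2 := congrArg (fun z : (R' : Subgroup G).comap L.subtype => ((z.1 : L) : G)) hab
          exact Subtype.ext (Subtype.ext ((MulAut.conj g).injective h2))
      have heq := Subgroup.eq_of_le_of_card_ge hR2 hcard.ge
      have hmb : m * b * m⁻¹ ∈ (R2 : Subgroup L) := by
        rw [← hm, Sylow.coe_subgroup_smul]
        exact Subgroup.smul_mem_pointwise_smul b (MulAut.conj m) _ hb
      exact (mem_cen.mp (hR' (heq.ge hmb : m * b * m⁻¹ ∈ (R' : Subgroup G).comap L.subtype))).symm
    -- at most `[L : N] * |C|` elements of the coset are possible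
    let Z := {l : L // ∀ b ∈ (RL : Subgroup L), ((b : L) : G) * (y * l) = (y * l) * b}
    have hconjy : ∀ (l m : L), ∃ l' : L, ((m : G))⁻¹ * (y * l) * m = y * l' := fun l m => by
      refine ⟨⟨y⁻¹ * (m : G)⁻¹ * y * l * m, ?_⟩, by group⟩
      refine L.mul_mem (L.mul_mem ?_ l.2) m.2
      simpa using hLn.conj_mem _ (L.inv_mem m.2) y⁻¹
    obtain ⟨z0, hz0⟩ : Nonempty Z := by
      obtain ⟨m, hm⟩ := hcov 1
      obtain ⟨l', hl'⟩ := hconjy 1 m
      refine ⟨⟨l', fun b hb => ?_⟩⟩
      rw [← hl']
      have h := hm b hb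
      simp only [Subgroup.coe_mul, Subgroup.coe_inv] at h
      calc (b : G) * ((m : G)⁻¹ * (y * ↑(1 : L)) * m)
          = (m : G)⁻¹ * ((m : G) * b * (m : G)⁻¹ * (y * ↑(1 : L))) * m := by group
        _ = (m : G)⁻¹ * ((y * ↑(1 : L)) * ((m : G) * b * (m : G)⁻¹)) * m := by rw [h]
        _ = _ := by group
    let f : (L ⧸ N) × C → G := fun x =>
      ((x.1.out : L) : G) * (y * z0 * x.2.1) * ((x.1.out : L) : G)⁻¹
    have hsurj : ∀ l : L, ∃ x, f x = y * l := by
      intro l
      obtain ⟨m, hm⟩ := hcov l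
      obtain ⟨n, hn⟩ := QuotientGroup.mk_out_eq_mul N m
      set o := (m : L ⧸ N).out with ho
      obtain ⟨l', hl'⟩ := hconjy l o
      have hZ : ∀ b ∈ (RL : Subgroup L), ((b : L) : G) * (y * l') = (y * l') * b := by
        intro b hb
        rw [← hl', hn]
        have hnb : (n : L) * b * (n : L)⁻¹ ∈ (RL : Subgroup L) :=
          (Subgroup.mem_normalizer_iff.mp n.2 b).mp hb
        have h := hm _ hnb
        simp only [Subgroup.coe_mul, Subgroup.coe_inv] at h ⊢
        calc (b : G) * (((m : G) * n)⁻¹ * (y * l) * ((m : G) * n))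
            = ((m : G) * n)⁻¹ * ((m : G) * (((n : L) : G) * b * ((n : L) : G)⁻¹) * (m : G)⁻¹ *
                (y * l)) * ((m : G) * n) := by group
          _ = ((m : G) * n)⁻¹ * ((y * l) *
                ((m : G) * (((n : L) : G) * b * ((n : L) : G)⁻¹) * (m : G)⁻¹)) * ((m : G) * n) := by
              rw [h]
          _ = _ := by group
      have hc : (z0 : L)⁻¹ * l' ∈ C := by
        rw [hCdef, Subgroup.mem_centralizer_iff]
        intro b hb
        apply Subtype.ext
        simp only [Subgroup.coe_mul, Subgroup.coe_inv]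
        have h1 := hz0 b hb
        have h2 := hZ b hb
        calc (b : G) * ((z0 : G)⁻¹ * l') = (y * z0)⁻¹ * ((y * z0) * b) * ((z0 : G)⁻¹ * l') := by group
          _ = (y * z0)⁻¹ * (b * (y * l')) := by rw [← h1]; group
          _ = (z0 : G)⁻¹ * l' * b := by rw [h2]; group
      refine ⟨((m : L ⧸ N), ⟨_, hc⟩), ?_⟩
      show (o : G) * (y * z0 * (((z0 : L)⁻¹ * l' : L) : G)) * (o : G)⁻¹ = y * l
      rw [Subgroup.coe_mul, Subgroup.coe_inv, show y * (z0 : G) * ((z0 : G)⁻¹ * l') = y * l' by group,
        ← hl']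
      group
    choose F hF using hsurj
    have hle : Nat.card L ≤ Nat.card ((L ⧸ N) × C) := Nat.card_le_card_of_injective F
      fun a b hab => Subtype.ext (mul_left_cancel (a := y) (by rw [← hF a, ← hF b, hab]))
    rw [Nat.card_prod, ← Subgroup.index_eq_card] at hle
    have hlt : Nat.card C < Nat.card N := by
      by_contra hc
      exact hNC (Subgroup.eq_of_le_of_card_ge (Subgroup.centralizer_le_normalizer _) (not_lt.mp hc)).ge
    have hmul := N.card_mul_index
    have := Nat.mul_lt_mul_of_pos_left hlt (Nat.pos_of_ne_zero (N.index_ne_zero_of_finite))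
    rw [mul_comm N.index (Nat.card N), hmul] at this
    omega
  · -- `L Q` is normal: `Q` centralises `L`
    have hQL : ∀ g : G, ∀ b ∈ (Q : Subgroup G), g * b * g⁻¹ ∈ L ⊔ (Q : Subgroup G) := by
      intro g b hb
      have hb' : π b ∈ (Qb : Subgroup (G ⧸ L)) := Subgroup.mem_map_of_mem π hb
      have hc := Subgroup.mem_center_iff.mp (hQb hb') (π g)
      have h1 : g * b * g⁻¹ * b⁻¹ ∈ L := by
        rw [← QuotientGroup.eq_one_iff]
        show π _ = 1
        rw [map_mul, map_mul, map_mul, map_inv, map_inv, hc, mul_inv_cancel_right, mul_inv_cancel]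
      have := Subgroup.mul_mem (L ⊔ (Q : Subgroup G)) (le_sup_left (b := (Q : Subgroup G)) h1)
        (le_sup_right (a := L) hb)
      rwa [inv_mul_cancel_right] at this
    have hconjL : ∀ Q' : Sylow q G, ∃ l ∈ L, ∀ b ∈ (Q : Subgroup G),
        l * b * l⁻¹ ∈ (Q' : Subgroup G) := by
      intro Q'
      obtain ⟨g, hg⟩ := MulAction.exists_smul_eq G Q Q'
      set M := L ⊔ (Q : Subgroup G)
      have hQ'M : (Q' : Subgroup G) ≤ M := by
        rw [← hg, Sylow.coe_subgroup_smul]
        rintro _ ⟨b, hb, rfl⟩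
        exact hQL g b hb
      obtain ⟨w, hw⟩ := MulAction.exists_smul_eq M (Q.subtype (le_sup_right : _ ≤ M))
        (Q'.subtype hQ'M)
      obtain ⟨l, hl, b0, hb0, hlb⟩ := Subgroup.mem_sup_of_normal_left.mp w.2
      refine ⟨l, hl, fun b hb => ?_⟩
      have hb1 : b0⁻¹ * b * b0 ∈ (Q : Subgroup G) :=
        Q.toSubgroup.mul_mem (Q.toSubgroup.mul_mem (Q.toSubgroup.inv_mem hb0) hb) hb0
      have h1 : w * ⟨b0⁻¹ * b * b0, le_sup_right (a := L) hb1⟩ * w⁻¹ ∈
          ((Q'.subtype hQ'M : Sylow q M) : Subgroup M) := by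
        rw [← hw, Sylow.coe_subgroup_smul]
        exact Subgroup.smul_mem_pointwise_smul _ (MulAut.conj w) _
          (show (⟨_, le_sup_right (a := L) hb1⟩ : M) ∈
            ((Q.subtype (le_sup_right : _ ≤ M) : Sylow q M) : Subgroup M) from hb1)
      have h2 : (w : G) * (b0⁻¹ * b * b0) * (w : G)⁻¹ ∈ (Q' : Subgroup G) := h1
      rwa [← hlb, show l * b0 * (b0⁻¹ * b * b0) * (l * b0)⁻¹ = l * b * l⁻¹ by group] at h2
    set D := (Subgroup.centralizer ((Q : Subgroup G) : Set G)).subgroupOf L ⊔ Subgroup.center L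
    have hD : D = ⊤ := by
      refine Lib.Elem70.eq_top_of_forall_conj _ fun y => ?_
      by_cases hyc : y ∈ Subgroup.center L
      · exact ⟨1, by simpa using (show y ∈ D from Subgroup.mem_sup_right hyc)⟩
      have hnq : ¬ q ∣ (Subgroup.centralizer ({(y : G)} : Set G)).index := by
        intro hd
        apply hyc
        -- a full set of Sylow subgroups of `L` centralises `y`
        have hCtop : (Subgroup.centralizer ({(y : G)} : Set G)).subgroupOf L = ⊤ := by
          rw [← Subgroup.index_eq_one]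
          by_contra hne1
          obtain ⟨s, hs, hsd⟩ := Nat.exists_prime_and_dvd hne1
          refine hnadj s hs (hsd.trans (Subgroup.index_dvd_card _)) y hd (hsd.trans ?_)
          set Cy := Subgroup.centralizer ({(y : G)} : Set G)
          obtain ⟨k, hk⟩ : L.relIndex Cy ∣ L.index := Subgroup.relIndex_dvd_index_of_normal L Cy
          have e1 : Cy.relIndex L * L.index = (Cy ⊓ L).index := by
            rw [← Subgroup.inf_relIndex_right, Subgroup.relIndex_mul_index inf_le_right]
          have e2 : L.relIndex Cy * Cy.index = (Cy ⊓ L).index := by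
            rw [← Subgroup.inf_relIndex_left, Subgroup.relIndex_mul_index inf_le_left]
          rw [hk, ← e2, mul_left_comm] at e1
          have hpos : L.relIndex Cy ≠ 0 := Subgroup.index_ne_zero_of_finite
          exact ⟨k, (Nat.eq_of_mul_eq_mul_left (Nat.pos_of_ne_zero hpos) e1).symm⟩
        rw [Subgroup.mem_center_iff]
        intro g
        apply Subtype.ext
        exact (mem_cen.mp (Subgroup.subgroupOf_eq_top.mp hCtop g.2)).symm
      obtain ⟨Q', hQ'⟩ := exists_sylow_le hnq
      obtain ⟨l, hl, hlQ⟩ := hconjL Q'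
      refine ⟨⟨l, hl⟩, (le_sup_left : _ ≤ D) (Subgroup.mem_subgroupOf.mpr
        (Subgroup.mem_centralizer_iff.mpr fun b hb => ?_))⟩
      have := mem_cen.mp (hQ' (hlQ b hb))
      show b * (l⁻¹ * (y : G) * l) = l⁻¹ * (y : G) * l * b
      calc b * (l⁻¹ * (y : G) * l) = l⁻¹ * (l * b * l⁻¹ * y) * l := by group
        _ = l⁻¹ * (y * (l * b * l⁻¹)) * l := by rw [this]
        _ = _ := by group
    -- `L = L' ≤ C(Q)`
    have hLQ : L ≤ Subgroup.centralizer ((Q : Subgroup G) : Set G) := by
      rw [← hLL, Subgroup.commutator_le]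
      intro a ha b hb
      obtain ⟨a1, ha1, a2, ha2, hae⟩ := Subgroup.mem_sup_of_normal_right.mp
        (hD ▸ Subgroup.mem_top (⟨a, ha⟩ : L) : (⟨a, ha⟩ : L) ∈ D)
      obtain ⟨b1, hb1, b2, hb2, hbe⟩ := Subgroup.mem_sup_of_normal_right.mp
        (hD ▸ Subgroup.mem_top (⟨b, hb⟩ : L) : (⟨b, hb⟩ : L) ∈ D)
      have key : ⁅(⟨a, ha⟩ : L), (⟨b, hb⟩ : L)⁆ = ⁅a1, b1⁆ := by
        rw [← hae, ← hbe]
        have ca : ∀ z : L, Commute a2 z := fun z => (Subgroup.mem_center_iff.mp ha2 z).symm
        have cb : ∀ z : L, Commute b2 z := fun z => (Subgroup.mem_center_iff.mp hb2 z).symm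
        simp only [commutatorElement_def, mul_inv_rev]
        calc a1 * a2 * (b1 * b2) * (a2⁻¹ * a1⁻¹) * (b2⁻¹ * b1⁻¹)
            = a1 * (a2 * (b1 * b2)) * a2⁻¹ * a1⁻¹ * (b2⁻¹ * b1⁻¹) := by group
          _ = a1 * b1 * (b2 * a1⁻¹) * (b2⁻¹ * b1⁻¹) := by rw [(ca (b1 * b2)).eq]; group
          _ = a1 * b1 * a1⁻¹ * b1⁻¹ := by rw [(cb a1⁻¹).eq]; group
      have h : ⁅a1, b1⁆ ∈ (Subgroup.centralizer ((Q : Subgroup G) : Set G)).subgroupOf L :=
        Subgroup.mul_mem _ (Subgroup.mul_mem _ (Subgroup.mul_mem _ ha1 hb1)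
          (Subgroup.inv_mem _ ha1)) (Subgroup.inv_mem _ hb1)
      rw [← key] at h
      exact h
    obtain ⟨x, hx⟩ := hq'
    refine not_dvd_of_sylow_le Q (fun b hb => mem_cen.mpr ?_) hx
    have hxN : x ∈ Subgroup.normalizer ((Q : Subgroup G) : Set G) := by
      refine Sylow.smul_eq_iff_mem_normalizer.mp ?_
      obtain ⟨l, hl, hlQ⟩ := hconjL (x • Q)
      refine (Sylow.ext (Subgroup.eq_of_le_of_card_ge (fun b hb => ?_)
        (by rw [(x • Q).card_eq_multiplicity, Q.card_eq_multiplicity]))).symm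
      have hbl : l * b = b * l := (Subgroup.mem_centralizer_iff.mp (hLQ hl) b hb).symm
      have := hlQ b hb
      rwa [hbl, mul_inv_cancel_right] at this
    exact (Subgroup.mem_centralizer_iff.mp (hgq Q hxN) b hb).symm

end Cfsg.Agent.Lib.ClassSizes.NonAdjacent
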