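import Cfsg.Agent.Lib.ClassSizes.CopTools

/-!
# Local lemmas on `p`-groups for the class sizes theorem

* `exists_second_center` : an element of order `p` modulo the centre, central in `P` modulo it;
* `fpf_elementary` : an elementary abelian group of order `p²` does not act fixed-point-freely;
* `card_modEq_inf_cen` : counting fixed points of a `p`-element on a subgroup it normalises;
* `rank_one` : `p`-elements of a subgroup whose Sylow `p`-subgroup is cyclic of order `p` modulo
  the centre.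
-/

set_option autoImplicit false

namespace Cfsg.Agent.Lib.ClassSizes.CopLocal

open Cfsg.Agent.Lib.ClassSizes.Basic Cfsg.Agent.Lib.ClassSizes.CopTools
open scoped Pointwise commutatorElement

variable {G : Type*} [Group G] [Finite G]

theorem exists_second_center {p : ℕ} [hp : Fact p.Prime] {P A : Subgroup G} (hP : IsPGroup p P)
    (hA : A ≤ P) (hPA : P ≤ Subgroup.normalizer (A : Set G)) (hnc : ¬ A ≤ Subgroup.center G) :
    ∃ v ∈ A, v ∉ Subgroup.center G ∧ v ^ p ∈ Subgroup.center G ∧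
      ∀ a ∈ P, a * v * a⁻¹ * v⁻¹ ∈ Subgroup.center G := by
  let Z := (Subgroup.center G).subgroupOf P
  let f := QuotientGroup.mk' Z
  have : (A.subgroupOf P).Normal := Subgroup.normal_subgroupOf_of_le_normalizer hPA
  let B := (A.subgroupOf P).map f
  have hBn : B.Normal := Subgroup.Normal.map inferInstance f (QuotientGroup.mk'_surjective _)
  have hQ : IsPGroup p (P ⧸ Z) := hP.to_quotient Z
  obtain ⟨w, hwA, hwz⟩ := SetLike.not_le_iff_exists.mp hnc
  have hB1 : Nat.card B ≠ 1 := fun h => by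
    have hB : B = ⊥ := Subgroup.eq_bot_of_card_eq B h
    have h1 : f ⟨w, hA hwA⟩ ∈ B := Subgroup.mem_map_of_mem f (Subgroup.mem_subgroupOf.mpr hwA)
    rw [hB, Subgroup.mem_bot, QuotientGroup.mk'_apply, QuotientGroup.eq_one_iff] at h1
    exact hwz (Subgroup.mem_subgroupOf.mp h1)
  have hdvd : p ∣ Nat.card B := (hQ.to_subgroup B).card_eq_or_dvd.resolve_left hB1
  have hC : IsPGroup p (ConjAct (P ⧸ Z)) := hQ.of_equiv ConjAct.toConjAct
  obtain ⟨b, hb, hb1⟩ := hC.exists_fixed_point_of_prime_dvd_card_of_fixed_point (α := B) hdvd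
    (a := 1) (fun g => smul_one g)
  have hbne : (b : P ⧸ Z) ≠ 1 := fun h => hb1 (Subtype.ext h.symm)
  obtain ⟨k, hk⟩ := IsPGroup.iff_orderOf.mp hQ (b : P ⧸ Z)
  obtain ⟨j, rfl⟩ : ∃ j, k = j + 1 := ⟨k - 1, by
    rcases Nat.eq_zero_or_pos k with h | h
    · rw [h, pow_zero, orderOf_eq_one_iff] at hk; exact absurd hk hbne
    · omega⟩
  obtain ⟨v, hv, hvb⟩ : ∃ v ∈ A.subgroupOf P, f v = (b : P ⧸ Z) ^ p ^ j :=
    Subgroup.mem_map.mp (B.pow_mem b.2 _)
  refine ⟨v, Subgroup.mem_subgroupOf.mp hv, fun hz => ?_, ?_, ?_⟩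
  · have h1 : f v = 1 := (QuotientGroup.eq_one_iff _).mpr (Subgroup.mem_subgroupOf.mpr hz)
    rw [hvb] at h1
    have h2 := orderOf_dvd_of_pow_eq_one h1
    rw [hk] at h2
    have h3 := Nat.le_of_dvd (pow_pos hp.out.pos j) h2
    exact absurd h3 (not_le.mpr (Nat.pow_lt_pow_right hp.out.one_lt (Nat.lt_succ_self j)))
  · have h1 : f (v ^ p) = 1 := by
      rw [map_pow, hvb, ← pow_mul, ← pow_succ, ← hk, pow_orderOf_eq_one]
    simpa using Subgroup.mem_subgroupOf.mp ((QuotientGroup.eq_one_iff _).mp h1)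
  · intro a ha
    have hfix : f ⟨a, ha⟩ * (b : P ⧸ Z) * (f ⟨a, ha⟩)⁻¹ = (b : P ⧸ Z) :=
      congrArg Subtype.val (hb (ConjAct.toConjAct (f ⟨a, ha⟩)))
    have h1 : f (⟨a, ha⟩ * v * ⟨a, ha⟩⁻¹ * v⁻¹) = 1 := by
      rw [map_mul, map_mul, map_mul, map_inv, map_inv, hvb, ← conj_pow, hfix, mul_inv_cancel]
    simpa using Subgroup.mem_subgroupOf.mp ((QuotientGroup.eq_one_iff _).mp h1)

/-- Two commuting automorphisms of order dividing `p` of a finite abelian group: if no element of
the generated group other than those in `⟨1⟩` fixes points outside `Z`, then `y ^ p ∈ Z`. -/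
theorem pow_mem_of_fixedPoints {V : Type*} [CommGroup V] {p : ℕ} [hp : Fact p.Prime]
    (α β : MulAut V) (hαβ : Commute α β) (hα : α ^ p = 1) (hβ : β ^ p = 1) (Z : Subgroup V)
    (hb : ∀ y, β y = y → y ∈ Z) (hab : ∀ i : ℕ, ∀ y, (α * β ^ i) y = y → y ∈ Z) (y : V) :
    y ^ p ∈ Z := by
  classical
  -- the norm of an automorphism of order dividing `p`
  have hnorm : ∀ γ : MulAut V, γ ^ p = 1 → ∀ y : V,
      γ (∏ k : ZMod p, (γ ^ k.val) y) = ∏ k : ZMod p, (γ ^ k.val) y := by
    intro γ hγ y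
    rw [map_prod]
    refine Fintype.prod_equiv (Equiv.addRight 1) _ _ fun k => ?_
    have h1 : γ ^ ((k + 1).val) = γ * γ ^ k.val := by
      rw [← pow_succ', pow_eq_pow_mod _ hγ, pow_eq_pow_mod (k.val + 1) hγ, ZMod.val_add,
        ZMod.val_one, Nat.mod_mod]
    rw [Equiv.coe_addRight, h1, MulAut.mul_apply]
  have hpow : ∀ i, (α * β ^ i) ^ p = 1 := fun i => by
    rw [(hαβ.pow_right i).mul_pow, hα, ← pow_mul, mul_comm i p, pow_mul, hβ, one_pow, one_mul]
  have hmem : ∀ j : ZMod p, j ≠ 0 →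
      ∏ i : ZMod p, ((α * β ^ i.val) ^ j.val) y ∈ Z := by
    intro j hj
    have h1 : ∀ i : ZMod p, ((α * β ^ i.val) ^ j.val) y = (β ^ (i * j).val) ((α ^ j.val) y) := by
      intro i
      rw [(hαβ.pow_right i.val).mul_pow, ← pow_mul, pow_eq_pow_mod (i.val * j.val) hβ,
        ← ZMod.val_mul, ((hαβ.pow_pow j.val (i * j).val)).eq, MulAut.mul_apply]
    simp_rw [h1]
    rw [Fintype.prod_equiv (Equiv.mulRight₀ j hj) (fun i => (β ^ (i * j).val) ((α ^ j.val) y))
      (fun k => (β ^ k.val) ((α ^ j.val) y))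
      fun i => rfl]
    exact hb _ (hnorm β hβ _)
  have hall : ∏ j : ZMod p, ∏ i : ZMod p, ((α * β ^ i.val) ^ j.val) y ∈ Z := by
    rw [Finset.prod_comm]
    exact Subgroup.prod_mem _ fun i _ => hab i.val _ (hnorm _ (hpow _) y)
  rw [← Finset.mul_prod_erase _ _ (Finset.mem_univ 0)] at hall
  have hrest : ∏ j ∈ (Finset.univ : Finset (ZMod p)).erase 0,
      ∏ i : ZMod p, ((α * β ^ i.val) ^ j.val) y ∈ Z :=
    Subgroup.prod_mem _ fun j hj => hmem j (Finset.ne_of_mem_erase hj)
  have h0 := (Subgroup.mul_mem_cancel_right _ hrest).mp hall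
  simpa [ZMod.card] using h0

/-- An elementary abelian group of order `p²` cannot act on an abelian subgroup with all fixed
points central, unless the subgroup is a `p`-group modulo the centre. -/
theorem fpf_elementary {p : ℕ} [hp : Fact p.Prime] {A : Subgroup G}
    (hA : ∀ x ∈ A, ∀ y ∈ A, x * y = y * x) {a b : G}
    (han : a ∈ Subgroup.normalizer (A : Set G)) (hbn : b ∈ Subgroup.normalizer (A : Set G))
    (ha : a ^ p ∈ Subgroup.centralizer (A : Set G)) (hb : b ^ p ∈ Subgroup.centralizer (A : Set G))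
    (hab : ⁅a, b⁆ ∈ Subgroup.centralizer (A : Set G))
    (hfb : ∀ y ∈ A, Commute b y → y ∈ Subgroup.center G)
    (hfab : ∀ i : ℕ, ∀ y ∈ A, Commute (a * b ^ i) y → y ∈ Subgroup.center G)
    {h : G} (hh : h ∈ A) (hcop : (orderOf h).Coprime p) : h ∈ Subgroup.center G := by
  letI : CommGroup A := { (inferInstance : Group A) with
    mul_comm := fun x y => Subtype.ext (hA x x.2 y y.2) }
  let φ := A.normalizerMonoidHom
  have hφ : ∀ (g : Subgroup.normalizer (A : Set G)) (x : A), ((φ g x : A) : G) = g * x * (g : G)⁻¹ :=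
    fun g x => A.normalizerMonoidHom_apply_apply_coe g x
  have hker : ∀ g : Subgroup.normalizer (A : Set G), (g : G) ∈ Subgroup.centralizer (A : Set G) →
      φ g = 1 := by
    intro g hg
    refine MulEquiv.ext fun x => Subtype.ext ?_
    rw [hφ, MulAut.one_apply]
    rw [← Subgroup.mem_centralizer_iff.mp hg x x.2, mul_inv_cancel_right]
  let α := φ ⟨a, han⟩
  let β := φ ⟨b, hbn⟩
  have hfix : ∀ (g : Subgroup.normalizer (A : Set G)) (y : A), φ g y = y →
      Commute (g : G) (y : G) := by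
    intro g y hy
    have h1 : (g : G) * y * (g : G)⁻¹ = y := by rw [← hφ]; exact congrArg Subtype.val hy
    exact mul_inv_eq_iff_eq_mul.mp h1
  have hαβ : Commute α β := by
    rw [← commutatorElement_eq_one_iff_commute, ← map_commutatorElement]
    exact hker _ hab
  have h1 := pow_mem_of_fixedPoints α β hαβ (by rw [← map_pow]; exact hker _ ha)
    (by rw [← map_pow]; exact hker _ hb) ((Subgroup.center G).subgroupOf A)
    (fun y hy => Subgroup.mem_subgroupOf.mpr (hfb y y.2 (hfix _ y hy)))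
    (fun i y hy => Subgroup.mem_subgroupOf.mpr (hfab i y y.2 (by
      rw [← map_pow, ← map_mul] at hy
      exact hfix _ y hy))) ⟨h, hh⟩
  have h2 : h ^ p ∈ Subgroup.center G := Subgroup.mem_subgroupOf.mp h1
  obtain ⟨k, hk⟩ := exists_pow_eq_self_of_coprime hcop.symm
  exact hk ▸ Subgroup.pow_mem _ h2 k

/-- Fixed points of a `p`-element on a subgroup that it normalises. -/
theorem card_modEq_inf_cen {p : ℕ} [hp : Fact p.Prime] {A : Subgroup G} {a : G} (ha : IsPEl p a)
    (han : a ∈ Subgroup.normalizer (A : Set G)) :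
    Nat.card A ≡ Nat.card (A ⊓ cen a : Subgroup G) [MOD p] := by
  let φ : Subgroup.zpowers a →* MulAut A :=
    A.normalizerMonoidHom.comp (Subgroup.inclusion (Subgroup.zpowers_le.mpr han))
  letI : MulAction (Subgroup.zpowers a) A := MulAction.compHom A φ
  have key : ∀ (g : Subgroup.zpowers a) (x : A), ((g • x : A) : G) = g * x * (g : G)⁻¹ :=
    fun g x => A.normalizerMonoidHom_apply_apply_coe _ x
  have h1 := (ha.isPGroup hp.out).card_modEq_card_fixedPoints A
  refine h1.trans (congrArg (· % p) (Nat.card_congr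
    { toFun := fun x => ⟨x.1.1, x.1.2, mem_cen.mpr ?_⟩
      invFun := fun x => ⟨⟨x.1, x.2.1⟩, ?_⟩
      left_inv := fun x => rfl
      right_inv := fun x => rfl }))
  · have := (key ⟨a, Subgroup.mem_zpowers a⟩ x.1).symm.trans (congrArg Subtype.val (x.2 _))
    exact mul_inv_eq_iff_eq_mul.mp this
  · rintro ⟨_, i, rfl⟩
    refine Subtype.ext ?_
    rw [key]
    have hc : Commute a (x : G) := mem_cen.mp x.2.2
    exact mul_inv_eq_iff_eq_mul.mpr (hc.zpow_left i).eq

/-- A `p`-subgroup of index dividing `p` in a `p`-group is normal. -/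
theorem le_normalizer_of_card {p : ℕ} [hp : Fact p.Prime] {W P : Subgroup G} (hP : IsPGroup p P)
    (hWP : W ≤ P) (hcard : Nat.card P ≤ p * Nat.card W) :
    P ≤ Subgroup.normalizer (W : Set G) := by
  by_cases heq : W = P
  · subst heq; exact Subgroup.le_normalizer
  have hlt : W.subgroupOf P < ⊤ := lt_top_iff_ne_top.mpr fun h =>
    heq (le_antisymm hWP (Subgroup.subgroupOf_eq_top.mp h))
  have : Group.IsNilpotent P := hP.isNilpotent
  have h1 := Group.normalizerCondition_of_isNilpotent (W.subgroupOf P) hlt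
  set N := Subgroup.normalizer ((W.subgroupOf P : Subgroup P) : Set P) with hN
  have h2 : N = ⊤ := by
    obtain ⟨i, hi⟩ := (hP.to_le hWP).exists_card_eq
    obtain ⟨j, hj⟩ := (hP.to_subgroup N).exists_card_eq
    have h3 : Nat.card (W.subgroupOf P) < Nat.card N :=
      lt_of_not_ge fun h => h1.ne (Subgroup.eq_of_le_of_card_ge h1.le h)
    rw [Nat.card_congr (Subgroup.subgroupOfEquivOfLe hWP).toEquiv, hi, hj] at h3
    have h4 : i + 1 ≤ j := (Nat.pow_lt_pow_iff_right hp.out.one_lt).mp h3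
    refine Subgroup.eq_top_of_card_eq N (le_antisymm (Subgroup.card_le_card_group N) ?_)
    calc Nat.card P ≤ p * Nat.card W := hcard
      _ = p ^ (i + 1) := by rw [hi, pow_succ']
      _ ≤ Nat.card N := hj ▸ Nat.pow_le_pow_right hp.out.pos h4
  intro a ha
  rw [Subgroup.mem_normalizer_iff]
  intro y
  by_cases hy : y ∈ P
  · have := Subgroup.mem_normalizer_iff.mp
      (h2 ▸ Subgroup.mem_top (⟨a, ha⟩ : P) : (⟨a, ha⟩ : P) ∈ N) ⟨y, hy⟩
    exact this
  · constructor <;> intro h
    · exact absurd (hWP h) hy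
    · exfalso
      apply hy
      have := P.mul_mem (P.mul_mem (P.inv_mem ha) (hWP h)) ha
      rwa [show a⁻¹ * (a * y * a⁻¹) * a = y by group] at this

/-- If the Sylow `p`-subgroup of `H` has order `p` modulo the centre and `u ∈ H` is a noncentral
`p`-element commuting with the `p`-elements of `H`, these are the `u ^ i * z`. -/
theorem rank_one {p : ℕ} [hp : Fact p.Prime] {H : Subgroup G}
    (hZ : Subgroup.center G ≤ H)
    (hcard : (Nat.card H).factorization p ≤ (Nat.card (Subgroup.center G)).factorization p + 1)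
    {u : G} (hu : u ∈ H) (hup : IsPEl p u) (huz : u ∉ Subgroup.center G)
    {y : G} (hy : y ∈ H) (hyp : IsPEl p y) (huy : Commute u y) :
    u ^ p ∈ Subgroup.center G ∧ ∃ i < p, ∃ z ∈ Subgroup.center G, y = u ^ i * z := by
  obtain ⟨Z, hZle, hZp, hZc⟩ := exists_psub (p := p) (Subgroup.center G)
  set Y := Z ⊔ Subgroup.zpowers u with hY
  have hnorm : Z ≤ Subgroup.normalizer (Subgroup.zpowers u : Set G) :=
    (hZle.trans (Subgroup.center_le_centralizer _)).trans (Subgroup.centralizer_le_normalizer _)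
  have hYp : IsPGroup p Y := IsPGroup.to_sup_of_normal_right' hZp (hup.isPGroup hp.out) hnorm
  have hYH : Y ≤ H := sup_le (hZle.trans hZ) (Subgroup.zpowers_le.mpr hu)
  have hny : Y ≤ Subgroup.normalizer (Subgroup.zpowers y : Set G) := by
    refine (sup_le ((hZle.trans (Subgroup.center_le_centralizer _))) ?_).trans
      (Subgroup.centralizer_le_normalizer _)
    rw [Subgroup.zpowers_le, Subgroup.mem_centralizer_iff]
    rintro _ ⟨i, rfl⟩
    exact (huy.symm.zpow_left i).eq
  have hY'p : IsPGroup p (Y ⊔ Subgroup.zpowers y : Subgroup G) :=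
    IsPGroup.to_sup_of_normal_right' hYp (hyp.isPGroup hp.out) hny
  obtain ⟨j, hj⟩ := hYp.exists_card_eq
  obtain ⟨k, hk⟩ := hY'p.exists_card_eq
  have hkle : k ≤ (Nat.card H).factorization p :=
    (Nat.Prime.pow_dvd_iff_le_factorization hp.out Nat.card_pos.ne').mp
      (hk ▸ Subgroup.card_dvd_of_le (sup_le hYH (Subgroup.zpowers_le.mpr hy)))
  set z := (Nat.card (Subgroup.center G)).factorization p with hz
  have hlt : z < j := by
    refine (Nat.pow_lt_pow_iff_right hp.out.one_lt).mp ?_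
    rw [← hZc, ← hj]
    refine lt_of_not_ge fun h => huz (hZle ?_)
    rw [Subgroup.eq_of_le_of_card_ge (le_sup_left : Z ≤ Y) h]
    exact Subgroup.mem_sup_right (Subgroup.mem_zpowers u)
  have hYY : Y = Y ⊔ Subgroup.zpowers y := Subgroup.eq_of_le_of_card_ge le_sup_left (by
    rw [hj, hk]; exact Nat.pow_le_pow_right hp.out.pos (by omega))
  have hyY : y ∈ Y := hYY ▸ Subgroup.mem_sup_right (Subgroup.mem_zpowers y)
  have hupZ : u ^ p ∈ Z := by
    have h1 : (Z.subgroupOf Y).Normal := Subgroup.normal_subgroupOf_of_le_normalizer (by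
      refine (sup_le Subgroup.le_normalizer ?_)
      refine le_trans ?_ (Subgroup.centralizer_le_normalizer _)
      rw [Subgroup.zpowers_le, Subgroup.mem_centralizer_iff]
      exact fun a ha => (Subgroup.mem_center_iff.mp (hZle ha) u).symm)
    have h2 : (Z.subgroupOf Y).index = p := by
      have h3 := (Z.subgroupOf Y).card_mul_index
      rw [Nat.card_congr (Subgroup.subgroupOfEquivOfLe le_sup_left).toEquiv, hZc, hj,
        show j = z + 1 by
          have : j ≤ k := by
            refine (Nat.pow_le_pow_iff_right hp.out.one_lt).mp ?_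
            rw [← hj, ← hk]; exact Subgroup.card_le_of_le le_sup_left
          omega, pow_succ] at h3
      exact Nat.eq_of_mul_eq_mul_left (pow_pos hp.out.pos _) h3
    have := Subgroup.pow_index_mem (Z.subgroupOf Y) ⟨u, Subgroup.mem_sup_right (Subgroup.mem_zpowers u)⟩
    rw [h2] at this
    simpa [Subgroup.mem_subgroupOf] using this
  refine ⟨hZle hupZ, ?_⟩
  rw [hY, ← SetLike.mem_coe, Subgroup.coe_mul_of_left_le_normalizer_right _ _ hnorm] at hyY
  obtain ⟨a, ha, b, ⟨i, rfl⟩, rfl⟩ := hyY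
  have hp0 : (p : ℤ) ≠ 0 := by exact_mod_cast hp.out.ne_zero
  refine ⟨(i % (p : ℤ)).toNat, ?_, (u ^ p) ^ (i / (p : ℤ)) * a,
    Subgroup.mul_mem _ (Subgroup.zpow_mem _ (hZle hupZ) _) (hZle ha), ?_⟩
  · have := Int.emod_lt_of_pos i (show (0 : ℤ) < p by exact_mod_cast hp.out.pos)
    have := Int.emod_nonneg i hp0
    omega
  · change a * u ^ i = _
    rw [← mul_assoc, ← zpow_natCast u (i % (p : ℤ)).toNat,
      Int.toNat_of_nonneg (Int.emod_nonneg i hp0), ← zpow_natCast u p, ← zpow_mul, ← zpow_add,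
      Int.emod_add_mul_ediv]
    exact (Subgroup.mem_center_iff.mp (hZle ha) _).symm

end Cfsg.Agent.Lib.ClassSizes.CopLocal
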