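import Cfsg.Agent.Lib.ClassSizes.CopTI
import Cfsg.Agent.Lib.ClassSizes.CopLocal

/-!
# Class sizes `{1, m, mn}`: the centralizers of index `m` are abelian
-/

set_option autoImplicit false

namespace Cfsg.Agent.Lib.ClassSizes.CopAbelian

open Cfsg.Agent.Lib.ClassSizes.Basic Cfsg.Agent.Lib.ClassSizes.CopTools
open Cfsg.Agent.Lib.ClassSizes.CopStruct Cfsg.Agent.Lib.ClassSizes.CopTI
open Cfsg.Agent.Lib.ClassSizes.CopLocal

variable {G : Type*} [Group G] [Finite G] {m n : ℕ}

/-- A noncentral element does not centralise a Sylow subgroup for a prime of `m`. -/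
theorem mem_center_of_sylow_le (S : Sizes G m n) {p : ℕ} [Fact p.Prime] (hpm : p ∣ m)
    (P : Sylow p G) {y : G} (h : (P : Subgroup G) ≤ cen y) : y ∈ Subgroup.center G := by
  by_contra hy
  exact not_dvd_of_sylow_le P h (hpm.trans (S.m_dvd_idx hy))

theorem sylow_not_le_center (S : Sizes G m n) {p : ℕ} [Fact p.Prime] (hpm : p ∣ m)
    (P : Sylow p G) : ¬ (P : Subgroup G) ≤ Subgroup.center G := by
  obtain ⟨y, hy⟩ := S.exists_mn
  exact (exists_dvd_iff P).mp ⟨y, by
    rw [show (Subgroup.centralizer ({y} : Set G)).index = m * n from hy]; exact hpm.mul_right n⟩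

omit [Finite G] in
theorem mem_normalizer_cen {a v : G} (h : cen (a * v * a⁻¹) = cen v) :
    a ∈ Subgroup.normalizer (cen v : Set G) := by
  rw [Subgroup.mem_normalizer_iff]
  intro y
  have h1 : a * y * a⁻¹ ∈ cen (a * v * a⁻¹) ↔ y ∈ cen v := by
    rw [mem_cen_conj, show a⁻¹ * (a * y * a⁻¹) * a = y by group]
  rw [← h1, h]

omit [Finite G] in
theorem mem_normalizer_cen_of_commutator {a v : G} (h : a * v * a⁻¹ * v⁻¹ ∈ Subgroup.center G) :
    a ∈ Subgroup.normalizer (cen v : Set G) := by
  refine mem_normalizer_cen ?_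
  rw [show a * v * a⁻¹ = v * (v⁻¹ * (a * v * a⁻¹ * v⁻¹) * v) by group]
  refine cen_mul_center ?_
  rwa [mul_assoc, ← Subgroup.mem_center_iff.mp h v, ← mul_assoc, inv_mul_cancel, one_mul]

theorem index_normalizer_cen_conj (g x : G) :
    (Subgroup.normalizer (cen (g * x * g⁻¹) : Set G)).index =
      (Subgroup.normalizer (cen x : Set G)).index := by
  rw [cen_conj_eq_map]
  rw [← Subgroup.map_equiv_normalizer_eq (cen x) (MulAut.conj g)]
  exact Subgroup.index_map_of_bijective (MulAut.conj g).bijective _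

/-- If every element of `p`-power order has a class of size at most `m` for all `p ∣ m`, then
the centralizer of a `PiM` element is normal, which is absurd. -/
theorem exists_mn_pi (S : Sizes G m n) {x : G} (hx : PiM m x) :
    ∃ (p : ℕ) (t : G), p.Prime ∧ p ∣ m ∧ IsPEl p t ∧ idx t = m * n := by
  by_contra hcon
  push Not at hcon
  have hm : ∀ {p : ℕ}, p.Prime → p ∣ m → ∀ {t : G}, IsPEl p t → t ∉ Subgroup.center G →
      PiM m t := fun {p} hp hpm {t} ht htz =>
    ⟨(S.cases_of_noncentral htz).resolve_right (hcon p t hp hpm ht), p, hp, hpm, ht⟩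
  set N := Subgroup.normalizer (cen x : Set G) with hN
  have hNm : N.index ∣ m := hx.1 ▸ Subgroup.index_dvd_of_le (Subgroup.le_normalizer (H := cen x))
  have hN1 : N.index = 1 := by
    by_contra h1
    obtain ⟨p, hp, hpd⟩ := Nat.exists_prime_and_dvd h1
    have : Fact p.Prime := ⟨hp⟩
    have hpm := hpd.trans hNm
    obtain ⟨P⟩ : Nonempty (Sylow p G) := inferInstance
    obtain ⟨v, hvP, hvz, -, hv⟩ := exists_second_center P.2 le_rfl Subgroup.le_normalizer
      (sylow_not_le_center S hpm P)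
    obtain ⟨g, hg⟩ := exists_conj S hx (hm hp hpm (isPEl_of_mem P.2 hvP) hvz)
    have hP : (P : Subgroup G) ≤ Subgroup.normalizer (cen v : Set G) :=
      fun a ha => mem_normalizer_cen_of_commutator (hv a ha)
    have h2 := not_dvd_of_sylow_le P hP
    rw [hg, index_normalizer_cen_conj] at h2
    exact h2 hpd
  obtain ⟨p, hp, hpm⟩ := Nat.exists_prime_and_dvd (show m ≠ 1 by have := S.one_lt_m; omega)
  have : Fact p.Prime := ⟨hp⟩
  obtain ⟨P⟩ : Nonempty (Sylow p G) := inferInstance
  have hle : (P : Subgroup G) ≤ cen x := by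
    intro a ha
    by_cases haz : a ∈ Subgroup.center G
    · exact center_le_cen x haz
    have hap := hm hp hpm (isPEl_of_mem P.2 ha) haz
    obtain ⟨g, hg⟩ := exists_conj S hx hap
    have hconj : cen (g * x * g⁻¹) = cen x := by
      ext y
      rw [mem_cen_conj]
      have := Subgroup.mem_normalizer_iff.mp
        (Subgroup.index_eq_one.mp hN1 ▸ Subgroup.mem_top g⁻¹ : g⁻¹ ∈ N) y
      rw [inv_inv] at this
      exact this.symm
    rw [← hconj, ← hg]
    exact self_mem_cen a
  have h1 := not_dvd_of_sylow_le P hle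
  rw [show (cen x).index = m from hx.1] at h1
  exact h1 hpm

/-- An element of class size `m * n` of `p`-power order commutes with no noncentral element of
prime power order for a prime outside `m`. -/
theorem mem_center_of_commute_mn (S : Sizes G m n) {x : G} (hx : PiM m x) {p : ℕ} (hp : p.Prime)
    (hpm : p ∣ m) {t : G} (ht : IsPEl p t) (htm : idx t = m * n) {l : ℕ} (hl : l.Prime)
    (hlm : ¬ l ∣ m) {y : G} (hy : IsPEl l y) (hty : Commute t y) : y ∈ Subgroup.center G := by
  by_contra hyz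
  have : Fact p.Prime := ⟨hp⟩
  have : Fact l.Prime := ⟨hl⟩
  obtain ⟨L, hL⟩ := (hy.isPGroup hl).exists_le_sylow
  obtain ⟨g, hg⟩ := exists_conj_sylow_le S hx.1 hlm L
  have hu := hx.conj g
  have hyu : y ∈ cen (g * x * g⁻¹) := hg (hL (Subgroup.mem_zpowers y))
  suffices htu : t ∈ cen (g * x * g⁻¹) by
    have h1 := cen_eq_of_mem_pi S hu hpm htu ht (S.noncentral_of_idx_eq_mn htm)
    have h2 : idx t = idx (g * x * g⁻¹) := by simp only [idx, h1]
    rw [htm, idx_conj, hx.1] at h2
    exact S.m_ne_mn h2.symm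
  rcases S.cases_of_noncentral hyz with hym | hymn
  · rw [← cen_eq_of_mem S hu hyu hym]
    exact mem_cen.mpr hty.eq.symm
  · exact (S.cen_le_of_mn hymn (mem_cen.mp hyu).symm (coprime_of_piM hu hl hlm hy).symm).1
      (mem_cen.mpr hty.eq.symm)

/-- Elements of prime power order for primes outside `m` have classes of size at most `m`. -/
theorem idx_eq_of_not_dvd (S : Sizes G m n) {x : G} (hx : PiM m x) {l : ℕ} (hl : l.Prime)
    (hlm : ¬ l ∣ m) {y : G} (hy : IsPEl l y) (hyz : y ∉ Subgroup.center G) : idx y = m := by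
  refine (S.cases_of_noncentral hyz).resolve_right fun hymn => ?_
  obtain ⟨p, t, hp, hpm, ht, htm⟩ := exists_mn_pi S hx
  have : Fact l.Prime := ⟨hl⟩
  have hc : Nat.card (cen y) = Nat.card (cen t) := by
    refine Nat.eq_of_mul_eq_mul_right (Nat.pos_of_ne_zero (Subgroup.index_ne_zero_of_finite
      (H := cen y))) ((cen y).card_mul_index.trans ?_)
    rw [show (cen y).index = (cen t).index from hymn.trans htm.symm, (cen t).card_mul_index]
  obtain ⟨u, hu, hul, huz⟩ := exists_noncentral_of_card (center_le_cen y) (H := cen t)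
    (by rw [hc]) (self_mem_cen y) hy hyz
  exact huz (mem_center_of_commute_mn S hx hp hpm ht htm hl hlm hul (mem_cen.mp hu))

/-- Noncentral elements of `C(x)` have centralizer `C(x)`. -/
theorem cen_eq (S : Sizes G m n) {x : G} (hx : PiM m x) {y : G} (hy : y ∈ cen x)
    (hyz : y ∉ Subgroup.center G) : cen y = cen x := by
  have key : ∀ {v : G} {l : ℕ}, l.Prime → IsPEl l v → v ∈ cen x → v ∉ Subgroup.center G →
      cen v = cen x := by
    intro v l hl hvl hv hvz
    by_cases hlm : l ∣ m
    · have : Fact l.Prime := ⟨hl⟩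
      exact cen_eq_of_mem_pi S hx hlm hv hvl hvz
    · exact cen_eq_of_mem S hx hv (idx_eq_of_not_dvd S hx hl hlm hvl hvz)
  have hle : cen x ≤ cen y := by
    intro d hd
    by_contra hdy
    obtain ⟨l, v, hl, hvy, hvd, hvl⟩ :=
      exists_primary_notMem (C := cen d) (fun h => hdy (mem_cen_comm.mp h))
    have hvz : v ∉ Subgroup.center G := fun h => hvd (center_le_cen d h)
    exact hvd (mem_cen_comm.mp ((key hl hvl (mem_of_mem_zpowers hvy hy) hvz).ge hd))
  have h1 : idx y ∣ m := hx.1 ▸ Subgroup.index_dvd_of_le hle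
  rcases S.cases_of_noncentral hyz with e | e
  · exact (Sizes.cen_eq_of_le hle (e.trans hx.1.symm)).symm
  · rw [e] at h1
    exact absurd (Nat.dvd_antisymm (Dvd.intro n rfl) h1) S.m_ne_mn

/-- `C(x)` is abelian. -/
theorem commute_of_mem (S : Sizes G m n) {x : G} (hx : PiM m x) :
    ∀ a ∈ cen x, ∀ b ∈ cen x, a * b = b * a := by
  intro a ha b hb
  by_cases haz : a ∈ Subgroup.center G
  · exact (Subgroup.mem_center_iff.mp haz b).symm
  · exact mem_cen.mp ((cen_eq S hx ha haz).ge hb)

theorem mem_normalizer_of_conj_mem (S : Sizes G m n) {x : G} (hx : PiM m x) {g d : G}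
    (hd : d ∈ cen x) (hdz : d ∉ Subgroup.center G) (hgd : g * d * g⁻¹ ∈ cen x) :
    g ∈ Subgroup.normalizer (cen x : Set G) := by
  have hgz : g * d * g⁻¹ ∉ Subgroup.center G := fun h => hdz (by
    have := (inferInstance : (Subgroup.center G).Normal).conj_mem _ h g⁻¹
    rwa [show g⁻¹ * (g * d * g⁻¹) * g⁻¹⁻¹ = d by group] at this)
  rw [← cen_eq S hx hd hdz]
  exact mem_normalizer_cen ((cen_eq S hx hgd hgz).trans (cen_eq S hx hd hdz).symm)

end Cfsg.Agent.Lib.ClassSizes.CopAbelian
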