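import Cfsg.Agent.Lib.ClassSizes.CopPi

/-!
# Class sizes `{1, m, mn}`: conclusions
-/

set_option autoImplicit false

namespace Cfsg.Agent.Lib.ClassSizes.CopConcl

open Cfsg.Agent.Lib.ClassSizes.Basic Cfsg.Agent.Lib.ClassSizes.CopTools
open Cfsg.Agent.Lib.ClassSizes.CopStruct Cfsg.Agent.Lib.ClassSizes.CopTI
open Cfsg.Agent.Lib.ClassSizes.CopLocal Cfsg.Agent.Lib.ClassSizes.CopAbelian
open Cfsg.Agent.Lib.ClassSizes.CopDiv Cfsg.Agent.Lib.ClassSizes.CopNormal
open Cfsg.Agent.Lib.ClassSizes.CopPi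
open scoped commutatorElement

variable {G : Type*} [Group G] [Finite G] {m n : ℕ}

/-- For distinct primes `p`, `q` of `m`, `q ∣ p - 1`. -/
theorem dvd_sub_one_of_ne (S : Sizes G m n) {x : G} (hx : PiM m x) {p q : ℕ} [hp : Fact p.Prime]
    [hq : Fact q.Prime] (hpm : p ∣ m) (hqm : q ∣ m) (hpq : p ≠ q) : q ∣ p - 1 := by
  obtain ⟨-, hDp, P, t, htP, htx, -⟩ := exponents S hx hpm
  have hn := normal_cen S hx
  have hA := commute_of_mem S hx
  have hxz := S.noncentral_of_idx_eq_m hx.1
  have htz : t ∉ Subgroup.center G := fun h => htx (center_le_cen x h)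
  obtain ⟨u, hu, huq, huz⟩ := exists_pi_noncentral S htz hqm
  have hux : u ∉ cen x := fun h => htx (by
    rw [← cen_eq S hx h huz]
    exact mem_cen_comm.mp hu)
  obtain ⟨L, hLx, hLp, hLc⟩ := exists_psub (p := p) (cen x)
  have hnorm : u ∈ Subgroup.normalizer (L : Set G) := by
    refine Subgroup.mem_normalizer_fintype fun y hy => ?_
    refine mem_psub hA hLx hLp hLc (hn.conj_mem _ (hLx hy) u) ?_
    obtain ⟨k, hk⟩ := isPEl_of_mem hLp hy
    exact ⟨k, by rw [conj_pow, hk]; group⟩
  have h1 := card_modEq_inf_cen huq hnorm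
  obtain ⟨Zp, hZ, hZp, hZc⟩ := exists_psub (p := p) (Subgroup.center G)
  have h2 : L ⊓ cen u = Zp := by
    refine le_antisymm (fun y hy => ?_) (fun y hy => ⟨?_, center_le_cen u (hZ hy)⟩)
    · refine mem_psub (A := Subgroup.center G)
        (fun a ha b _ => (Subgroup.mem_center_iff.mp ha b).symm) hZ hZp hZc ?_
        (isPEl_of_mem hLp hy.1)
      by_contra hyz
      exact hux (cen_eq S hx (hLx hy.1) hyz ▸ mem_cen_comm.mp hy.2)
    · exact mem_psub hA hLx hLp hLc (center_le_cen x (hZ hy)) (isPEl_of_mem hZp hy)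
  rw [h2, hLc, hZc, hDp, pow_succ'] at h1
  have h3 : p ≡ 1 [MOD q] := Nat.ModEq.cancel_right_of_coprime
    (((Nat.coprime_primes hq.out hp.out).mpr (Ne.symm hpq)).pow_right _) (by rw [one_mul]; exact h1)
  exact (Nat.modEq_iff_dvd' hp.out.one_lt.le).mp h3.symm

/-- `m` is prime. -/
theorem prime_m (S : Sizes G m n) {x : G} (hx : PiM m x) : m.Prime := by
  obtain ⟨p, hp, hpm⟩ := Nat.exists_prime_and_dvd (show m ≠ 1 by have := S.one_lt_m; omega)
  have : Fact p.Prime := ⟨hp⟩
  have huniq : ∀ q : ℕ, q.Prime → q ∣ m → q = p := by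
    intro q hq hqm
    have : Fact q.Prime := ⟨hq⟩
    by_contra hne
    have h1 := dvd_sub_one_of_ne S hx hpm hqm (Ne.symm hne)
    have h2 := dvd_sub_one_of_ne S hx hqm hpm hne
    have := Nat.le_of_dvd (by have := hp.one_lt; omega) h1
    have := Nat.le_of_dvd (by have := hq.one_lt; omega) h2
    omega
  have hfac := (exponents S hx hpm).1
  have hm : m = p := by
    refine Nat.eq_of_factorization_eq S.m_pos.ne' hp.ne_zero fun l => ?_
    rw [hp.factorization, Finsupp.single_apply]
    by_cases hlp : p = l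
    · subst hlp; rw [if_pos rfl, hfac]
    · rw [if_neg hlp]
      by_contra h0
      have hl : l.Prime := Nat.prime_of_mem_primeFactors (Nat.support_factorization m ▸
        Finsupp.mem_support_iff.mpr h0)
      exact hlp (huniq l hl (Nat.dvd_of_factorization_pos h0)).symm
  exact hm ▸ hp

/-- The structure theorem when some `π`-element has a class of size `m`. -/
theorem structure_of_piM (S : Sizes G m n) {x : G} (hx : PiM m x) :
    m.Prime ∧ m ∣ n - 1 ∧
      (∃ M : Subgroup G, M.Normal ∧ (M : Set G) = {y : G | idx y = 1 ∨ idx y = m} ∧ M.index = m ∧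
        IsMulCommutative M) ∧
      (∃ N : Subgroup G, N.Normal ∧ (Nat.card N).Coprime m ∧ ∃ a : ℕ, N.index = m ^ a) ∧
      ∀ P : Sylow m G, Nat.card (commutator (P : Subgroup G)) = m := by
  have hmp := prime_m S hx
  have : Fact m.Prime := ⟨hmp⟩
  obtain ⟨hfac, hD, P₀, b, hb, hbx, hgen⟩ := exponents S hx (dvd_refl m)
  have hn := normal_cen S hx
  have hA := commute_of_mem S hx
  have hxz := S.noncentral_of_idx_eq_m hx.1
  have hbN : b ∈ Subgroup.normalizer (cen x : Set G) :=
    (Subgroup.normalizer_eq_top_iff.mpr hn).symm ▸ Subgroup.mem_top b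
  refine ⟨hmp, dvd_sub_one_of_normalizes S hx (dvd_refl m) (isPEl_of_mem P₀.2 hb) hbN hbx,
    ⟨cen x, hn, ?_, hx.1, ⟨⟨fun a c => Subtype.ext (hA a a.2 c c.2)⟩⟩⟩, ?_, ?_⟩
  · ext y
    constructor
    · intro hy
      by_cases hyz : y ∈ Subgroup.center G
      · exact Or.inl (Sizes.idx_eq_one_iff.mpr hyz)
      · exact Or.inr (by rw [show idx y = idx x by simp only [idx, cen_eq S hx hy hyz]]; exact hx.1)
    · rintro (h | h)
      · exact center_le_cen x (Sizes.idx_eq_one_iff.mp h)
      · obtain ⟨u, hu, huy⟩ := exists_piM_cen S hx h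
        obtain ⟨g, hg⟩ := exists_conj S hx hu
        have h1 : cen (g * x * g⁻¹) = cen x := by
          ext z
          rw [mem_cen_conj]
          constructor
          · intro hz
            have := hn.conj_mem _ hz g
            rwa [show g * (g⁻¹ * z * g) * g⁻¹ = z by group] at this
          · intro hz
            have := hn.conj_mem _ hz g⁻¹
            rwa [inv_inv] at this
        have h2 : y ∈ cen u := huy.ge (self_mem_cen y)
        rw [hg, h1] at h2
        exact h2
  · obtain ⟨H, hHx, hH, hcop, -, hHfac⟩ := exists_hall S hx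
    refine ⟨H, ⟨fun y hy g => (hH _).mpr ⟨hn.conj_mem y (hHx hy) g, ?_⟩⟩, hcop,
      (Nat.card G).factorization m, ?_⟩
    · rw [← MulAut.conj_apply, (MulAut.conj g).orderOf_eq]
      exact ((hH y).mp hy).2
    · refine Nat.eq_of_factorization_eq Subgroup.index_ne_zero_of_finite
        (pow_ne_zero _ hmp.ne_zero) fun l => ?_
      have h1 := congrArg (fun k => k.factorization l) H.card_mul_index
      simp only [Nat.factorization_mul Nat.card_pos.ne' Subgroup.index_ne_zero_of_finite,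
        Finsupp.add_apply] at h1
      rw [hmp.factorization_pow, Finsupp.single_apply]
      by_cases hlm : m = l
      · subst hlm
        rw [if_pos rfl]
        rw [Nat.factorization_eq_zero_of_not_dvd (fun h => hmp.not_dvd_one
          (hcop.gcd_eq_one ▸ Nat.dvd_gcd h (dvd_refl m))), zero_add] at h1
        exact h1
      · rw [if_neg hlm]
        by_cases hl : l.Prime
        swap
        · exact Nat.factorization_eq_zero_of_not_prime _ hl
        have hlm' : ¬ l ∣ m := fun h => hlm ((Nat.prime_dvd_prime_iff_eq hl hmp).mp h).symm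
        rw [hHfac l hl hlm'] at h1
        have h2 := congrArg (fun k => k.factorization l) (cen x).card_mul_index
        simp only [Nat.factorization_mul Nat.card_pos.ne' Subgroup.index_ne_zero_of_finite,
          Finsupp.add_apply] at h2
        rw [show (cen x).index = m from hx.1, Nat.factorization_eq_zero_of_not_dvd hlm',
          add_zero] at h2
        omega
  intro P
  suffices h0 : Nat.card (commutator (P₀ : Subgroup G)) = m by
    obtain ⟨g, hg⟩ := MulAction.exists_smul_eq G P₀ P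
    let e : (P₀ : Subgroup G) ≃* (P : Subgroup G) :=
      (Subgroup.equivSMul (MulAut.conj g) (P₀ : Subgroup G)).trans (MulEquiv.subgroupCongr
        (by rw [← hg, Sylow.coe_subgroup_smul]))
    have h1 : (commutator (P₀ : Subgroup G)).map e.toMonoidHom = commutator (P : Subgroup G) := by
      rw [commutator_def, Subgroup.map_commutator,
        Subgroup.map_top_of_surjective e.toMonoidHom e.surjective, ← commutator_def]
    rw [← h1, Subgroup.card_map_of_injective e.injective, h0]
  -- `P₀` is generated by the centre, an element of `P₀ ⊓ C(x)` and `b`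
  obtain ⟨L, hLx, hLp, hLc⟩ := exists_psub (p := m) (cen x)
  obtain ⟨d, hdL, hdz⟩ : ∃ d ∈ L, d ∉ Subgroup.center G := by
    obtain ⟨u, hu, hup, huz⟩ := exists_pi_noncentral S hxz (dvd_refl m)
    exact ⟨u, mem_psub hA hLx hLp hLc hu hup, huz⟩
  have hLP : L ≤ (P₀ : Subgroup G) := by
    have hnorm : (P₀ : Subgroup G) ≤ Subgroup.normalizer (L : Set G) := by
      intro a _
      refine Subgroup.mem_normalizer_fintype fun y hy => ?_
      refine mem_psub hA hLx hLp hLc (hn.conj_mem _ (hLx hy) a) ?_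
      obtain ⟨k, hk⟩ := isPEl_of_mem hLp hy
      exact ⟨k, by rw [conj_pow, hk]; group⟩
    have h1 := P₀.3 (IsPGroup.to_sup_of_normal_right' P₀.2 hLp hnorm) le_sup_left
    exact h1 ▸ le_sup_right
  have hdP := hLP hdL
  have hrank : ∀ y ∈ (P₀ : Subgroup G), y ∈ cen x →
      ∃ i : ℕ, ∃ z ∈ Subgroup.center G, y = d ^ i * z := by
    intro y hy hyx
    obtain ⟨-, i, -, z, hz, he⟩ := rank_one (center_le_cen x) hD.le (hLx hdL)
      (isPEl_of_mem hLp hdL) hdz hyx (isPEl_of_mem P₀.2 hy) (hA d (hLx hdL) y hyx)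
    exact ⟨i, z, hz, he⟩
  set ζ := ⁅b, d⁆ with hζ
  have hζx : ζ ∈ cen x := by
    rw [hζ, commutatorElement_def]
    exact Subgroup.mul_mem _ (hn.conj_mem _ (hLx hdL) b) (Subgroup.inv_mem _ (hLx hdL))
  have hζP : ζ ∈ (P₀ : Subgroup G) := by
    rw [hζ, commutatorElement_def]
    exact (P₀ : Subgroup G).mul_mem ((P₀ : Subgroup G).mul_mem
      ((P₀ : Subgroup G).mul_mem hb hdP) ((P₀ : Subgroup G).inv_mem hb))
      ((P₀ : Subgroup G).inv_mem hdP)
  have hζ1 : ζ ≠ 1 := fun h => by
    have hc : Commute b d := commutatorElement_eq_one_iff_commute.mp h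
    exact hbx (cen_eq S hx (hLx hdL) hdz ▸ mem_cen.mpr hc.eq.symm)
  -- `ζ` is central
  have hzP : ∀ y ∈ (P₀ : Subgroup G), y ∈ cen x → y ∉ Subgroup.center G →
      ¬ Commute b y := fun y _ hyx hyz hc =>
    hbx (cen_eq S hx hyx hyz ▸ mem_cen.mpr hc.eq.symm)
  obtain ⟨i, z, hz, hbd⟩ := hrank (b * d * b⁻¹)
    ((P₀ : Subgroup G).mul_mem ((P₀ : Subgroup G).mul_mem hb hdP) ((P₀ : Subgroup G).inv_mem hb))
    (hn.conj_mem _ (hLx hdL) b)
  have hdm : d ^ m ∈ Subgroup.center G :=
    (rank_one (center_le_cen x) hD.le (hLx hdL) (isPEl_of_mem hLp hdL) hdz (hLx hdL)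
      (isPEl_of_mem hLp hdL) rfl).1
  -- conjugation by `b` fixes `d` modulo the centre, as `b` has `m`-power order
  have hiter : ∀ k : ℕ, ∃ w ∈ Subgroup.center G,
      b ^ k * d * (b ^ k)⁻¹ = d ^ (i ^ k) * w := by
    intro k
    induction k with
    | zero => exact ⟨1, Subgroup.one_mem _, by simp⟩
    | succ k ih =>
      obtain ⟨w, hw, he⟩ := ih
      refine ⟨z ^ (i ^ k) * w, Subgroup.mul_mem _ (Subgroup.pow_mem _ hz _) hw, ?_⟩
      calc b ^ (k + 1) * d * (b ^ (k + 1))⁻¹ = b * (b ^ k * d * (b ^ k)⁻¹) * b⁻¹ := by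
            rw [pow_succ']; group
        _ = b * d ^ (i ^ k) * b⁻¹ * w := by
            rw [he, mul_assoc b, mul_assoc (d ^ _), ← Subgroup.mem_center_iff.mp hw b⁻¹]
            group
        _ = (d ^ i * z) ^ (i ^ k) * w := by rw [← hbd, conj_pow]
        _ = d ^ (i ^ (k + 1)) * (z ^ (i ^ k) * w) := by
            rw [(show Commute (d ^ i) z from Subgroup.mem_center_iff.mp hz _).mul_pow, ← pow_mul,
              ← pow_succ', mul_assoc]
  have hζc : ζ ∈ Subgroup.center G := by
    obtain ⟨j, hj⟩ := isPEl_of_mem P₀.2 hb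
    obtain ⟨w, hw, he⟩ := hiter (m ^ j)
    rw [hj, one_mul, inv_one, mul_one] at he
    have hdq : (QuotientGroup.mk' (Subgroup.center G) d) ^ m = 1 := by
      rw [← map_pow]; exact (QuotientGroup.eq_one_iff _).mpr hdm
    have hne : QuotientGroup.mk' (Subgroup.center G) d ≠ 1 :=
      fun h => hdz ((QuotientGroup.eq_one_iff _).mp h)
    have hw1 : QuotientGroup.mk' (Subgroup.center G) w = 1 := (QuotientGroup.eq_one_iff _).mpr hw
    have h1 : i ^ (m ^ j) ≡ 1 [MOD m] := by
      rw [← orderOf_eq_prime hdq hne, ← pow_eq_pow_iff_modEq, pow_one]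
      conv_rhs => rw [he]
      rw [map_mul, map_pow, hw1, mul_one, orderOf_eq_prime hdq hne]
    have h2 : (i : ZMod m) = 1 := by
      rw [← ZMod.natCast_eq_natCast_iff, Nat.cast_pow, Nat.cast_one] at h1
      rwa [ZMod.pow_card_pow] at h1
    rw [← Nat.cast_one, ZMod.natCast_eq_natCast_iff] at h2
    rw [hζ, commutatorElement_def, hbd]
    refine (QuotientGroup.eq_one_iff _).mp ?_
    change QuotientGroup.mk' (Subgroup.center G) (d ^ i * z * d⁻¹) = 1
    have hz1 : QuotientGroup.mk' (Subgroup.center G) z = 1 := (QuotientGroup.eq_one_iff _).mpr hz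
    rw [map_mul, map_mul, map_inv, map_pow, hz1, mul_one, pow_eq_pow_mod i hdq,
      show i % m = 1 % m from h2, ← pow_eq_pow_mod 1 hdq, pow_one, mul_inv_cancel]
  have hζm : ζ ^ m = 1 := by
    have hbd' : b * d * b⁻¹ = ζ * d := by rw [hζ, commutatorElement_def]; group
    have h1 : b * d ^ m * b⁻¹ = ζ ^ m * d ^ m := by
      rw [← conj_pow, hbd',
        (show Commute ζ d from (Subgroup.mem_center_iff.mp hζc d).symm).mul_pow]
    rw [Subgroup.mem_center_iff.mp hdm b, mul_inv_cancel_right] at h1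
    exact mul_eq_right.mp h1.symm
  let ζ' : (P₀ : Subgroup G) := ⟨ζ, hζP⟩
  let K := Subgroup.zpowers ζ'
  have hKn : K.Normal := ⟨fun k hk g => by
    obtain ⟨j, rfl⟩ := hk
    have : g * ζ' ^ j * g⁻¹ = ζ' ^ j := Subtype.ext (by
      push_cast
      rw [Subgroup.mem_center_iff.mp (Subgroup.zpow_mem _ hζc j) g, mul_inv_cancel_right])
    exact this.symm ▸ ⟨j, rfl⟩⟩
  have hle : commutator (P₀ : Subgroup G) ≤ K := by
    let f := QuotientGroup.mk' K
    have hbdq : f ⟨b, hb⟩ * f ⟨d, hdP⟩ = f ⟨d, hdP⟩ * f ⟨b, hb⟩ := by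
      rw [← commutatorElement_eq_one_iff_mul_comm, ← map_commutatorElement]
      exact (QuotientGroup.eq_one_iff _).mpr (Subgroup.mem_zpowers ζ')
    have hform : ∀ a : (P₀ : Subgroup G), ∃ (i j : ℕ) (z : (P₀ : Subgroup G)),
        (z : G) ∈ Subgroup.center G ∧ a * ⟨b, hb⟩ ^ i = ⟨d, hdP⟩ ^ j * z := by
      intro a
      obtain ⟨i, hi⟩ := hgen a a.2
      have hmem : (a : G) * b ^ i ∈ (P₀ : Subgroup G) :=
        (P₀ : Subgroup G).mul_mem a.2 ((P₀ : Subgroup G).pow_mem hb i)
      obtain ⟨j, z, hz, he⟩ := hrank _ hmem hi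
      have hzP : z ∈ (P₀ : Subgroup G) := by
        have : z = (d ^ j)⁻¹ * ((a : G) * b ^ i) := by rw [he, inv_mul_cancel_left]
        rw [this]
        exact (P₀ : Subgroup G).mul_mem ((P₀ : Subgroup G).inv_mem
          ((P₀ : Subgroup G).pow_mem hdP j)) hmem
      exact ⟨i, j, ⟨z, hzP⟩, hz, Subtype.ext (by push_cast; exact he)⟩
    rw [commutator_def, Subgroup.commutator_le]
    intro a _ c _
    have hb1 : ∀ a, Commute (f a) (f ⟨b, hb⟩) ∧ Commute (f a) (f ⟨d, hdP⟩) := by
      intro a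
      obtain ⟨i, j, z, hz, he⟩ := hform a
      have hzc : ∀ y, Commute (f z) (f y) := fun y => by
        rw [Commute, SemiconjBy, ← map_mul, ← map_mul]
        exact congrArg f (Subtype.ext (Subgroup.mem_center_iff.mp hz (y : G)).symm)
      have hfa : f a = f ⟨d, hdP⟩ ^ j * f z * (f ⟨b, hb⟩ ^ i)⁻¹ := by
        rw [← map_pow, ← map_pow, ← map_mul, ← map_inv, ← map_mul, ← he, mul_inv_cancel_right]
      rw [hfa]
      exact ⟨((show Commute (f ⟨b, hb⟩) (f ⟨d, hdP⟩) from hbdq).symm.pow_left j |>.mul_left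
          (hzc _)).mul_left ((Commute.refl _).pow_left i).inv_left,
        (((Commute.refl _).pow_left j).mul_left (hzc _)).mul_left
          ((show Commute (f ⟨b, hb⟩) (f ⟨d, hdP⟩) from hbdq).pow_left i).inv_left⟩
    obtain ⟨i, j, z, hz, he⟩ := hform c
    refine (QuotientGroup.eq_one_iff _).mp ?_
    change f ⁅a, c⁆ = 1
    rw [map_commutatorElement, commutatorElement_eq_one_iff_commute]
    have hfc : f c = f ⟨d, hdP⟩ ^ j * f z * (f ⟨b, hb⟩ ^ i)⁻¹ := by
      rw [← map_pow, ← map_pow, ← map_mul, ← map_inv, ← map_mul, ← he, mul_inv_cancel_right]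
    rw [hfc]
    refine (((hb1 a).2.pow_right j).mul_right ?_).mul_right ((hb1 a).1.pow_right i).inv_right
    rw [Commute, SemiconjBy, ← map_mul, ← map_mul]
    exact congrArg f (Subtype.ext (Subgroup.mem_center_iff.mp hz (a : G)))
  have hge : K ≤ commutator (P₀ : Subgroup G) := by
    rw [Subgroup.zpowers_le, commutator_def]
    have : ζ' = ⁅(⟨b, hb⟩ : (P₀ : Subgroup G)), ⟨d, hdP⟩⁆ := Subtype.ext (by
      simp [ζ', hζ, commutatorElement_def])
    rw [this]
    exact Subgroup.commutator_mem_commutator (Subgroup.mem_top _) (Subgroup.mem_top _)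
  rw [le_antisymm hle hge, Nat.card_zpowers]
  exact orderOf_eq_prime (Subtype.ext hζm) fun h => hζ1 (congrArg Subtype.val h)

end Cfsg.Agent.Lib.ClassSizes.CopConcl
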