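import Cfsg.Agent.Lib.ClassSizes.CopNormal

/-!
# Class sizes `{1, m, mn}`: some `π`-element has a class of size `m`
-/

set_option autoImplicit false

namespace Cfsg.Agent.Lib.ClassSizes.CopNoPi

open Cfsg.Agent.Lib.ClassSizes.Basic Cfsg.Agent.Lib.ClassSizes.CopTools
open Cfsg.Agent.Lib.ClassSizes.CopStruct Cfsg.Agent.Lib.ClassSizes.CopTI
open Cfsg.Agent.Lib.ClassSizes.CopLocal Cfsg.Agent.Lib.ClassSizes.CopAbelian
open Cfsg.Agent.Lib.ClassSizes.CopDiv Cfsg.Agent.Lib.ClassSizes.CopNormal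
open scoped commutatorElement Pointwise

variable {G : Type*} [Group G] [Finite G] {m n : ℕ}

theorem pel_mn (S : Sizes G m n) (hno : ∀ y : G, ¬ PiM m y) {p : ℕ} (hp : p.Prime) (hpm : p ∣ m)
    {u : G} (hu : IsPEl p u) (huz : u ∉ Subgroup.center G) : idx u = m * n :=
  (S.cases_of_noncentral huz).resolve_left fun h => hno u ⟨h, p, hp, hpm, hu⟩

/-- The centralizer of a noncentral `π`-element: normal Sylow subgroup and central complement. -/
theorem cen_split (S : Sizes G m n) (hno : ∀ y : G, ¬ PiM m y) {p : ℕ} [hp : Fact p.Prime]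
    (hpm : p ∣ m) {u : G} (hu : IsPEl p u) (huz : u ∉ Subgroup.center G) :
    ∃ W F : Subgroup G, W ≤ cen u ∧ IsPGroup p W ∧
      Nat.card W = p ^ (Nat.card (cen u)).factorization p ∧
      (∀ y ∈ cen u, IsPEl p y → y ∈ W) ∧
      F ≤ cen u ∧ (Nat.card F).Coprime p ∧ Nat.card F * Nat.card W = Nat.card (cen u) ∧
      (∀ y ∈ cen u, (orderOf y).Coprime p → y ∈ F) ∧
      (∀ y ∈ F, cen u ≤ cen y) ∧ cen u ≤ Subgroup.normalizer (W : Set G) := by
  have hum := pel_mn S hno hp.out hpm hu huz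
  have hcent : ∀ y ∈ cen u, (orderOf y).Coprime p → cen u ≤ cen y := fun y hy hcop =>
    (S.cen_le_of_mn hum (mem_cen.mp hy) (hu.coprime hp.out hcop.symm)).1
  obtain ⟨W, hW, hWp, hWc, hWall, hWcomm, hWn⟩ := commute_of_centralizes_sylow (p := p) (cen u)
    fun w hw hcop => by
      obtain ⟨T, h1, -, h3⟩ := exists_psub (p := p) (cen u)
      exact ⟨T, h1, h1.trans (hcent w hw hcop), h3⟩
  obtain ⟨F, hF, hFcop, hFcard, hFall⟩ := exists_complement hW hWp hWc hWcomm hWn
  refine ⟨W, F, hW, hWp, hWc, hWall, hF, hFcop, hFcard, hFall, fun y hy => hcent y (hF hy) ?_, hWn⟩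
  exact hFcop.coprime_dvd_left (Subgroup.orderOf_mk y hy ▸ orderOf_dvd_natCard _)

/-- Every centralizer of index `m * n` is that of a `p`-element, `p ∣ m`. -/
theorem exists_pel_cen (S : Sizes G m n) (hno : ∀ y : G, ¬ PiM m y) {p : ℕ} [hp : Fact p.Prime]
    (hpm : p ∣ m) {w : G} (hw : idx w = m * n) :
    ∃ u ∈ cen w, IsPEl p u ∧ u ∉ Subgroup.center G ∧ cen u = cen w := by
  have hwz := S.noncentral_of_idx_eq_mn hw
  obtain ⟨a, s, ha, hs, hwas, hak, hscop⟩ := Lib.Elem70.exists_primary_split hp.out w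
  by_cases haz : a ∈ Subgroup.center G
  · have hsw : cen s = cen w := by
      rw [hwas, Subgroup.mem_center_iff.mp haz s |>.symm]
      exact (cen_mul_center haz).symm
    obtain ⟨u, hu, hup, huz⟩ := exists_pi_noncentral S hwz hpm
    refine ⟨u, hu, hup, huz, ?_⟩
    rw [← hsw] at hu
    have h1 := (S.cen_le_of_mn (pel_mn S hno hp.out hpm hup huz) (mem_cen.mp hu).symm
      (hup.coprime hp.out hscop.symm)).1
    rw [← hsw]
    exact Sizes.cen_eq_of_le h1 (by
      rw [pel_mn S hno hp.out hpm hup huz, show idx s = idx w by simp only [idx, hsw], hw])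
  · exact ⟨a, mem_of_mem_zpowers ha (self_mem_cen w), hak, haz,
      (Sizes.cen_eq_of_le (cen_le_of_mem_zpowers ha)
        ((pel_mn S hno hp.out hpm hak haz).trans hw.symm)).symm⟩

/-- The centralizer of a noncentral `p`-element, `p ∣ m`, has a noncentral `p'`-element. -/
theorem exists_coprime_noncentral (S : Sizes G m n) (hno : ∀ y : G, ¬ PiM m y) {p : ℕ}
    [hp : Fact p.Prime] (hpm : p ∣ m) {u : G} (hu : IsPEl p u) (huz : u ∉ Subgroup.center G) :
    ∃ y ∈ cen u, (orderOf y).Coprime p ∧ y ∉ Subgroup.center G := by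
  obtain ⟨r, hr, hrn⟩ := exists_r S
  have : Fact r.Prime := ⟨hr⟩
  obtain ⟨w, hw, hwz⟩ := S.exists_noncentral_pel (p := r) (hrn.mul_left m)
  obtain ⟨u₀, hu₀, hu₀z, hwu₀⟩ : ∃ u₀ : G, IsPEl p u₀ ∧ u₀ ∉ Subgroup.center G ∧ w ∈ cen u₀ := by
    obtain ⟨u₀, h1, h2, h3⟩ := exists_pi_noncentral S hwz hpm
    exact ⟨u₀, h2, h3, mem_cen_comm.mp h1⟩
  have hc : Nat.card (cen u₀) = Nat.card (cen u) := by
    refine Nat.eq_of_mul_eq_mul_right (Nat.pos_of_ne_zero (Subgroup.index_ne_zero_of_finite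
      (H := cen u₀))) ((cen u₀).card_mul_index.trans ?_)
    rw [show (cen u₀).index = (cen u).index from
      (pel_mn S hno hp.out hpm hu₀ hu₀z).trans (pel_mn S hno hp.out hpm hu huz).symm,
      (cen u).card_mul_index]
  obtain ⟨y, hy, hyr, hyz⟩ := exists_noncentral_of_card (center_le_cen u₀) (H := cen u)
    (by rw [hc]) hwu₀ hw hwz
  exact ⟨y, hy, hyr.coprime hr ((Nat.coprime_primes hr hp.out).mpr
    (ne_of_dvd S hp.out hpm hrn).symm), hyz⟩

/-- The `p'`-elements of `C(u)` and `C(e)` agree for `p`-elements `e ∈ C(u)`. -/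
theorem coprime_part_eq (S : Sizes G m n) (hno : ∀ y : G, ¬ PiM m y) {p : ℕ} [hp : Fact p.Prime]
    (hpm : p ∣ m) {u e : G} (hu : IsPEl p u) (huz : u ∉ Subgroup.center G) (he : e ∈ cen u)
    (hep : IsPEl p e) (hez : e ∉ Subgroup.center G) {y : G} (hy : (orderOf y).Coprime p) :
    y ∈ cen u ↔ y ∈ cen e := by
  obtain ⟨W, F, -, -, hWc, -, hF, hFcop, hFcard, hFall, hFc, -⟩ := cen_split S hno hpm hu huz
  obtain ⟨W', F', -, -, hW'c, -, hF', hF'cop, hF'card, hF'all, -, -⟩ := cen_split S hno hpm hep hez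
  have hle : F ≤ F' := fun a ha => hF'all a (mem_cen_comm.mp (hFc a ha he))
    (hFcop.coprime_dvd_left (Subgroup.orderOf_mk a ha ▸ orderOf_dvd_natCard _))
  have hc : Nat.card (cen u) = Nat.card (cen e) := by
    refine Nat.eq_of_mul_eq_mul_right (Nat.pos_of_ne_zero (Subgroup.index_ne_zero_of_finite
      (H := cen u))) ((cen u).card_mul_index.trans ?_)
    rw [show (cen u).index = (cen e).index from
      (pel_mn S hno hp.out hpm hu huz).trans (pel_mn S hno hp.out hpm hep hez).symm,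
      (cen e).card_mul_index]
  have heq : F = F' := Subgroup.eq_of_le_of_card_ge hle (by
    refine (Nat.eq_of_mul_eq_mul_right (Nat.card_pos (α := W)) ?_).le
    rw [hFcard, hc, ← hF'card, hWc, hW'c, hc])
  exact ⟨fun h => hF' (heq ▸ hFall y h hy), fun h => hF (heq.symm ▸ hF'all y h hy)⟩

theorem commute_commutator {a c v : G} (ha : a * v * a⁻¹ * v⁻¹ ∈ Subgroup.center G)
    (hc : c * v * c⁻¹ * v⁻¹ ∈ Subgroup.center G) : Commute ⁅a, c⁆ v := by
  obtain ⟨ζ, hζ, e1⟩ : ∃ ζ ∈ Subgroup.center G, a * v * a⁻¹ = ζ * v := ⟨_, ha, by group⟩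
  obtain ⟨η, hη, e2⟩ : ∃ η ∈ Subgroup.center G, c * v * c⁻¹ = η * v := ⟨_, hc, by group⟩
  have hζc : ∀ g, g * ζ = ζ * g := Subgroup.mem_center_iff.mp hζ
  have hηc : ∀ g, g * η = η * g := Subgroup.mem_center_iff.mp hη
  have e3 : (c * a) * v * (c * a)⁻¹ = ζ * η * v := by
    calc (c * a) * v * (c * a)⁻¹ = c * (a * v * a⁻¹) * c⁻¹ := by group
      _ = ζ * (c * v * c⁻¹) := by rw [e1, ← mul_assoc c, hζc c]; group
      _ = _ := by rw [e2, mul_assoc]
  have e4 : (a * c) * v * (a * c)⁻¹ = ζ * η * v := by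
    calc (a * c) * v * (a * c)⁻¹ = a * (c * v * c⁻¹) * a⁻¹ := by group
      _ = η * (a * v * a⁻¹) := by rw [e2, ← mul_assoc a, hηc a]; group
      _ = _ := by rw [e1, ← mul_assoc, hζc η]
  have e5 : ⁅a, c⁆ * (ζ * η * v) * ⁅a, c⁆⁻¹ = ζ * η * v := by
    calc ⁅a, c⁆ * (ζ * η * v) * ⁅a, c⁆⁻¹ = ⁅a, c⁆ * ((c * a) * v * (c * a)⁻¹) * ⁅a, c⁆⁻¹ := by
          rw [e3]
      _ = (a * c) * v * (a * c)⁻¹ := by rw [commutatorElement_def]; group
      _ = _ := e4
  have h := mul_inv_eq_iff_eq_mul.mp e5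
  rw [← mul_assoc ⁅a, c⁆, Subgroup.mem_center_iff.mp (Subgroup.mul_mem _ hζ hη) ⁅a, c⁆,
    mul_assoc, mul_assoc (ζ * η)] at h
  exact mul_left_cancel h

/-- A `p`-element `v` whose centralizer meets a Sylow subgroup in a normal subgroup of index `p`,
all other elements of which act fixed-point-freely on the `p'`-elements of `C(v)`. -/
theorem local_data (S : Sizes G m n) (hno : ∀ y : G, ¬ PiM m y) {p : ℕ} [hp : Fact p.Prime]
    (hpm : p ∣ m) :
    m.factorization p = 1 ∧ ∃ (P : Sylow p G) (v : G), v ∈ (P : Subgroup G) ∧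
      v ∉ Subgroup.center G ∧ (P : Subgroup G) ≤ Subgroup.normalizer (cen v : Set G) ∧
      (∀ y ∈ cen v, IsPEl p y → y ∈ (P : Subgroup G)) ∧
      (∀ a ∈ (P : Subgroup G), ∀ y ∈ cen v, (orderOf y).Coprime p → y ∉ Subgroup.center G →
        Commute a y → a ∈ cen v) ∧
      ¬ (P : Subgroup G) ≤ cen v := by
  classical
  obtain ⟨P⟩ : Nonempty (Sylow p G) := inferInstance
  obtain ⟨v, hvP, hvz, hvp, hv⟩ := exists_second_center P.2 le_rfl Subgroup.le_normalizer
    (sylow_not_le_center S hpm P)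
  have hvP' := isPEl_of_mem P.2 hvP
  have hPn : (P : Subgroup G) ≤ Subgroup.normalizer (cen v : Set G) :=
    fun a ha => mem_normalizer_cen_of_commutator (hv a ha)
  obtain ⟨W, F, hW, hWp, hWc, hWall, hF, hFcop, -, hFall, hFc, -⟩ := cen_split S hno hpm hvP' hvz
  have hWnorm : (P : Subgroup G) ≤ Subgroup.normalizer (W : Set G) := by
    intro a ha
    refine Subgroup.mem_normalizer_fintype fun y hy => hWall _ ?_ ?_
    · exact (Subgroup.mem_normalizer_iff.mp (hPn ha) y).mp (hW hy)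
    · obtain ⟨k, hk⟩ := isPEl_of_mem hWp hy
      exact ⟨k, by rw [conj_pow, hk]; group⟩
  have hWP : W ≤ (P : Subgroup G) :=
    (P.3 (IsPGroup.to_sup_of_normal_right' P.2 hWp hWnorm) le_sup_left) ▸ le_sup_right
  have hfix : ∀ a ∈ (P : Subgroup G), ∀ y ∈ cen v, (orderOf y).Coprime p →
      y ∉ Subgroup.center G → Commute a y → a ∈ cen v := by
    intro a ha y hy hcop hyz hay
    have h1 : W ⊔ Subgroup.zpowers a ≤ cen y :=
      sup_le (hW.trans (hFc y (hFall y hy hcop))) (Subgroup.zpowers_le.mpr (mem_cen.mpr hay.eq.symm))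
    obtain ⟨j, hj⟩ := (P.2.to_le (sup_le hWP (Subgroup.zpowers_le.mpr ha))).exists_card_eq
    have hj' : j ≤ (Nat.card (cen v)).factorization p := by
      rw [S.factorization_eq hvz hyz hp.out hpm]
      exact (Nat.Prime.pow_dvd_iff_le_factorization hp.out Nat.card_pos.ne').mp
        (hj ▸ Subgroup.card_dvd_of_le h1)
    have heq : W = W ⊔ Subgroup.zpowers a := Subgroup.eq_of_le_of_card_ge le_sup_left (by
      rw [hj, hWc]; exact Nat.pow_le_pow_right hp.out.pos hj')
    exact hW (heq ▸ Subgroup.mem_sup_right (Subgroup.mem_zpowers a))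
  have hPv : ¬ (P : Subgroup G) ≤ cen v := fun h => hvz (mem_center_of_sylow_le S hpm P h)
  refine ⟨le_antisymm ?_ (hp.out.factorization_pos_of_dvd S.m_pos.ne' hpm), P, v, hvP, hvz, hPn,
    fun y hy hyp => hWP (hWall y hy hyp), hfix, hPv⟩
  obtain ⟨b, hb, hbv⟩ := SetLike.not_le_iff_exists.mp hPv
  obtain ⟨h, hh, hhcop, hhz⟩ := exists_coprime_noncentral S hno hpm hvP' hvz
  have hA : ∀ y ∈ F, ∀ z ∈ F, y * z = z * y := fun y hy z hz => mem_cen.mp (hFc y hy (hF hz))
  have hnF : ∀ a ∈ (P : Subgroup G), a ∈ Subgroup.normalizer (F : Set G) := by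
    intro a ha
    refine Subgroup.mem_normalizer_fintype fun y hy => hFall _ ?_ ?_
    · exact (Subgroup.mem_normalizer_iff.mp (hPn ha) y).mp (hF hy)
    · rw [← MulAut.conj_apply, (MulAut.conj a).orderOf_eq]
      exact hFcop.coprime_dvd_left (Subgroup.orderOf_mk y hy ▸ orderOf_dvd_natCard _)
  have hcentF : ∀ g ∈ cen v, g ∈ Subgroup.centralizer (F : Set G) := fun g hg =>
    Subgroup.mem_centralizer_iff.mpr fun y hy => mem_cen.mp (hFc y hy hg)
  have hpow : ∀ a ∈ (P : Subgroup G), a ^ p ∈ cen v := fun a ha =>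
    mem_cen.mpr (central_pow_comm (hv a ha) hvp).eq.symm
  have hFcopel : ∀ y ∈ F, (orderOf y).Coprime p := fun y hy =>
    hFcop.coprime_dvd_left (Subgroup.orderOf_mk y hy ▸ orderOf_dvd_natCard _)
  have hgen : ∀ a ∈ (P : Subgroup G), ∃ i : ℕ, a * b ^ i ∈ cen v := by
    intro a ha
    by_contra hcon
    push Not at hcon
    refine hhz (fpf_elementary (p := p) hA (hnF a ha) (hnF b hb) (hcentF _ (hpow a ha))
      (hcentF _ (hpow b hb))
      (hcentF _ (mem_cen.mpr (commute_commutator (hv a ha) (hv b hb)).eq.symm))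
      (fun y hy hc => by_contra fun hz => hbv (hfix b hb y (hF hy) (hFcopel y hy) hz hc))
      (fun i y hy hc => by_contra fun hz => hcon i (hfix _
        ((P : Subgroup G).mul_mem ha ((P : Subgroup G).pow_mem hb i)) y (hF hy) (hFcopel y hy)
          hz hc))
      (hFall h hh hhcop) hhcop)
  -- `|P| ≤ p |W|`
  have hcardP : Nat.card P ≤ p * Nat.card W := by
    calc Nat.card P ≤ Nat.card (Fin p × W) :=
        Nat.card_le_card_of_surjective
          (fun iw => (⟨(iw.2 : G), hWP iw.2.2⟩ : (P : Subgroup G)) *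
            ((⟨b, hb⟩ : (P : Subgroup G)) ^ (iw.1 : ℕ))⁻¹) fun a => by
            obtain ⟨i, hi⟩ := hgen a a.2
            have h1 : (a : G) * b ^ (i % p) ∈ cen v := by
              rw [show (a : G) * b ^ i = (a : G) * b ^ (i % p) * (b ^ p) ^ (i / p) by
                rw [mul_assoc, ← pow_mul, ← pow_add, Nat.mod_add_div]] at hi
              exact (Subgroup.mul_mem_cancel_right _ (Subgroup.pow_mem _ (hpow b hb) _)).mp hi
            exact ⟨(⟨i % p, Nat.mod_lt _ hp.out.pos⟩, ⟨(a : G) * b ^ (i % p), hWall _ h1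
              (isPEl_of_mem P.2 ((P : Subgroup G).mul_mem a.2 ((P : Subgroup G).pow_mem hb _)))⟩),
              Subtype.ext (mul_inv_cancel_right _ _)⟩
      _ = p * Nat.card W := by rw [Nat.card_prod, Nat.card_fin]
  rw [P.card_eq_multiplicity, hWc, ← pow_succ'] at hcardP
  have h1 := (Nat.pow_le_pow_iff_right hp.out.one_lt).mp hcardP
  have h3 := S.cen_factorization hvz (S.not_dvd_n hp.out hpm)
  omega

/-- No Sylow `p`-subgroup has order `p ^ 3` or more modulo the centre, `p ∣ m`. -/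
theorem cen_factorization_eq (S : Sizes G m n) (hno : ∀ y : G, ¬ PiM m y) {p : ℕ}
    [hp : Fact p.Prime] (hpm : p ∣ m) {y : G} (hy : y ∉ Subgroup.center G) :
    (Nat.card (cen y)).factorization p = zExp G p + 1 := by
  classical
  obtain ⟨hm1, P, v, hvP, hvz, hPn, hPall, hfix, -⟩ := local_data S hno hpm
  rw [S.factorization_eq hy hvz hp.out hpm]
  obtain ⟨W, F, hW, hWp, hWc, hWall, hF, hFcop, hFcard, hFall, hFc, -⟩ :=
    cen_split S hno hpm (isPEl_of_mem P.2 hvP) hvz
  refine le_antisymm ?_ ?_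
  swap
  · by_contra hlt
    obtain ⟨Zp, hZ, hZp, hZc⟩ := exists_psub (p := p) (Subgroup.center G)
    have hZW : Zp ≤ W := fun z hz => hWall z (center_le_cen v (hZ hz)) (isPEl_of_mem hZp hz)
    have heq : Zp = W := Subgroup.eq_of_le_of_card_ge hZW (by
      rw [hWc, hZc]
      exact Nat.pow_le_pow_right hp.out.pos (by simp only [zExp] at hlt; omega))
    exact hvz (hZ (heq ▸ hWall v (self_mem_cen v) (isPEl_of_mem P.2 hvP)))
  by_contra hbig
  -- all centralizers of noncentral `p`-elements are conjugate to `C(v)`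
  have hconj : ∀ u : G, IsPEl p u → u ∉ Subgroup.center G → ∃ c : G, cen (c * u * c⁻¹) = cen v := by
    intro u hu huz
    obtain ⟨Wu, Fu, hWu, hWup, -, hWuall, -, -, -, -, -, -⟩ := cen_split S hno hpm hu huz
    obtain ⟨R, hR⟩ := hWup.exists_le_sylow
    obtain ⟨c, hc⟩ := MulAction.exists_smul_eq G R P
    refine ⟨c, ?_⟩
    set u' := c * u * c⁻¹ with hu'
    have hu'p : IsPEl p u' := by
      obtain ⟨k, hk⟩ := hu; exact ⟨k, by rw [hu', conj_pow, hk]; group⟩
    have hu'z : u' ∉ Subgroup.center G := fun h => huz (by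
      have := (inferInstance : (Subgroup.center G).Normal).conj_mem _ h c⁻¹
      rwa [show c⁻¹ * (c * u * c⁻¹) * c⁻¹⁻¹ = u by group] at this)
    obtain ⟨W', F', hW', hW'p, hW'c, hW'all, hF', hF'cop, hF'card, hF'all, hF'c, -⟩ :=
      cen_split S hno hpm hu'p hu'z
    have hW'P : W' ≤ (P : Subgroup G) := by
      intro a ha
      rw [← hc, Sylow.coe_subgroup_smul, Subgroup.mem_pointwise_smul_iff_inv_smul_mem,
        MulAut.smul_def, MulAut.conj_inv_apply]
      refine hR (hWuall _ (mem_cen_conj.mp (hW' ha)) ?_)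
      obtain ⟨k, hk⟩ := isPEl_of_mem hW'p ha
      refine ⟨k, ?_⟩
      rw [show c⁻¹ * a * c = MulAut.conj c⁻¹ a by simp, ← map_pow, hk, map_one]
    have hcardP : Nat.card P = p * Nat.card W := by
      rw [P.card_eq_multiplicity, hWc, ← pow_succ']
      congr 1
      have := S.cen_factorization hvz (S.not_dvd_n hp.out hpm)
      omega
    have hWP : W ≤ (P : Subgroup G) := fun a ha => hPall a (hW ha) (isPEl_of_mem hWp ha)
    have hWW' : Nat.card W = Nat.card W' := by
      rw [hWc, hW'c, S.factorization_eq hvz hu'z hp.out hpm]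
    have hn' : (P : Subgroup G) ≤ Subgroup.normalizer (W' : Set G) :=
      le_normalizer_of_card P.2 hW'P (hWW' ▸ hcardP.le)
    have heW : W' ≤ W := by
      by_contra hne
      have hsup : W ⊔ W' = (P : Subgroup G) := by
        refine Subgroup.eq_of_le_of_card_ge (sup_le hWP hW'P) ?_
        obtain ⟨j, hj⟩ := (P.2.to_le (sup_le hWP hW'P)).exists_card_eq
        have hlt : Nat.card W < Nat.card (W ⊔ W' : Subgroup G) := lt_of_not_ge fun h =>
          hne (le_sup_right.trans (Subgroup.eq_of_le_of_card_ge le_sup_left h).ge)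
        rw [hWc, hj] at hlt
        rw [hcardP, hj, hWc, ← pow_succ']
        exact Nat.pow_le_pow_right hp.out.pos ((Nat.pow_lt_pow_iff_right hp.out.one_lt).mp hlt)
      -- the intersection is noncentral
      obtain ⟨e, he, hez⟩ : ∃ e ∈ W ⊓ W', e ∉ Subgroup.center G := by
        by_contra hall
        push Not at hall
        have h1 : W.relIndex W' ≤ W.relIndex (P : Subgroup G) :=
          Subgroup.relIndex_le_of_le_right hW'P Subgroup.index_ne_zero_of_finite
        have h2 : W.relIndex (P : Subgroup G) = p := by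
          have := (W.subgroupOf (P : Subgroup G)).card_mul_index
          rw [Nat.card_congr (Subgroup.subgroupOfEquivOfLe hWP).toEquiv,
            show Nat.card (P : Subgroup G) = p * Nat.card W from hcardP, mul_comm p] at this
          exact Nat.eq_of_mul_eq_mul_left Nat.card_pos this
        have h3 : Nat.card (W ⊓ W' : Subgroup G) * W.relIndex W' = Nat.card W' := by
          rw [Subgroup.relIndex, ← Nat.card_congr (Subgroup.subgroupOfEquivOfLe
            (inf_le_right : W ⊓ W' ≤ W')).toEquiv, Subgroup.inf_subgroupOf_right,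
            Subgroup.card_mul_index]
        have h4 : Nat.card (W ⊓ W' : Subgroup G) ∣ Nat.card (Subgroup.center G) :=
          Subgroup.card_dvd_of_le hall
        obtain ⟨i, hi⟩ := (hWp.to_inf_left (K := W')).exists_card_eq
        rw [hi] at h3 h4
        have h5 := (Nat.Prime.pow_dvd_iff_le_factorization hp.out Nat.card_pos.ne').mp h4
        have h6 : Nat.card W' ≤ p ^ (zExp G p + 1) := by
          rw [← h3, pow_succ]
          exact Nat.mul_le_mul (Nat.pow_le_pow_right hp.out.pos h5) (h1.trans h2.le)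
        rw [hW'c] at h6
        have h7 := (Nat.pow_le_pow_iff_right hp.out.one_lt).mp h6
        have := S.factorization_eq hvz hu'z hp.out hpm
        omega
      have hep : IsPEl p e := isPEl_of_mem hWp he.1
      obtain ⟨f, hf, hfcop, hfz⟩ := exists_coprime_noncentral S hno hpm (isPEl_of_mem P.2 hvP) hvz
      have hf' : f ∈ cen u' := (coprime_part_eq S hno hpm hu'p hu'z (hW' he.2) hep hez hfcop).mpr
        ((coprime_part_eq S hno hpm (isPEl_of_mem P.2 hvP) hvz (hW he.1) hep hez hfcop).mp hf)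
      refine hfz (mem_center_of_sylow_le S hpm P ?_)
      rw [← hsup]
      exact sup_le (hW.trans (hFc f (hFall f hf hfcop)))
        (hW'.trans (hF'c f (hF'all f hf' hfcop)))
    have heW' : W' = W := Subgroup.eq_of_le_of_card_ge heW hWW'.le
    have hu'v : u' ∈ cen v := hW (heW' ▸ hW'all u' (self_mem_cen u') hu'p)
    refine Sizes.cen_eq_of_le (fun g hg => ?_)
      ((pel_mn S hno hp.out hpm (isPEl_of_mem P.2 hvP) hvz).trans
        (pel_mn S hno hp.out hpm hu'p hu'z).symm)
    obtain ⟨a, s, ha, hs, hgas, hak, hscop⟩ := Lib.Elem70.exists_primary_split hp.out g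
    rw [hgas]
    refine Subgroup.mul_mem _ (hW (heW' ▸ hW'all a (mem_of_mem_zpowers ha hg) hak)) ?_
    exact (coprime_part_eq S hno hpm (isPEl_of_mem P.2 hvP) hvz hu'v hu'p hu'z hscop).mpr
      (mem_of_mem_zpowers hs hg)
  have htop : cen v = ⊤ := by
    refine Lib.Elem70.eq_top_of_forall_conj _ fun g => ?_
    by_cases hgz : g ∈ Subgroup.center G
    · exact ⟨1, by simpa using center_le_cen v hgz⟩
    obtain ⟨u, hug, hup, huz⟩ : ∃ u : G, g ∈ cen u ∧ IsPEl p u ∧ u ∉ Subgroup.center G := by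
      obtain ⟨u, h1, h2, h3⟩ := exists_pi_noncentral S hgz hpm
      exact ⟨u, mem_cen_comm.mp h1, h2, h3⟩
    obtain ⟨c, hc⟩ := hconj u hup huz
    refine ⟨c⁻¹, ?_⟩
    rw [← hc, inv_inv, mem_cen_conj]
    rwa [show c⁻¹ * (c * g * c⁻¹) * c = g by group]
  exact hvz (cen_eq_top_iff.mp htop)

/-- The prime divisors of `m` coincide. -/
theorem prime_m (S : Sizes G m n) (hno : ∀ y : G, ¬ PiM m y) : m.Prime := by
  classical
  obtain ⟨p, hp, hpm⟩ := Nat.exists_prime_and_dvd (show m ≠ 1 by have := S.one_lt_m; omega)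
  have : Fact p.Prime := ⟨hp⟩
  have key : ∀ p q : ℕ, p.Prime → q.Prime → p ∣ m → q ∣ m → p ≠ q → p ∣ q - 1 := by
    intro p q hp hq hpm hqm hpq
    have : Fact p.Prime := ⟨hp⟩
    have : Fact q.Prime := ⟨hq⟩
    obtain ⟨-, P, v, hvP, hvz, hPn, -, hfix, hPv⟩ := local_data S hno hpm
    obtain ⟨a, ha, hav⟩ := SetLike.not_le_iff_exists.mp hPv
    obtain ⟨W, F, -, -, -, -, hF, -, -, hFall, hFc, -⟩ :=
      cen_split S hno hpm (isPEl_of_mem P.2 hvP) hvz
    have hA : ∀ y ∈ F, ∀ z ∈ F, y * z = z * y := fun y hy z hz => mem_cen.mp (hFc y hy (hF hz))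
    obtain ⟨L, hLv, hLp, hLc⟩ := exists_psub (p := q) (cen v)
    have hcop : ∀ {y : G}, IsPEl q y → (orderOf y).Coprime p := fun hy =>
      hy.coprime hq ((Nat.coprime_primes hq hp).mpr (Ne.symm hpq))
    have hLall : ∀ y ∈ cen v, IsPEl q y → y ∈ L := by
      intro y hy hyq
      have hnorm : L ≤ Subgroup.normalizer (Subgroup.zpowers y : Set G) := by
        refine le_trans ?_ (Subgroup.centralizer_le_normalizer _)
        intro l hl
        refine Subgroup.mem_centralizer_iff.mpr ?_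
        rintro _ ⟨i, rfl⟩
        exact ((show Commute y l from mem_cen.mp (hFc y (hFall y hy (hcop hyq)) (hLv hl))).zpow_left
          i).eq
      obtain ⟨j, hj⟩ := (IsPGroup.to_sup_of_normal_right' hLp (hyq.isPGroup hq) hnorm).exists_card_eq
      have hjle : j ≤ (Nat.card (cen v)).factorization q :=
        (Nat.Prime.pow_dvd_iff_le_factorization hq Nat.card_pos.ne').mp
          (hj ▸ Subgroup.card_dvd_of_le (sup_le hLv (Subgroup.zpowers_le.mpr hy)))
      exact (Subgroup.eq_of_le_of_card_ge (le_sup_left : L ≤ L ⊔ Subgroup.zpowers y) (by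
        rw [hj, hLc]; exact Nat.pow_le_pow_right hq.pos hjle)) ▸
          Subgroup.mem_sup_right (Subgroup.mem_zpowers y)
    have hnorm : a ∈ Subgroup.normalizer (L : Set G) := by
      refine Subgroup.mem_normalizer_fintype fun y hy => hLall _
        ((Subgroup.mem_normalizer_iff.mp (hPn ha) y).mp (hLv hy)) ?_
      obtain ⟨k, hk⟩ := isPEl_of_mem hLp hy
      exact ⟨k, by rw [conj_pow, hk]; group⟩
    have h1 := card_modEq_inf_cen (isPEl_of_mem P.2 ha) hnorm
    obtain ⟨Zq, hZ, hZp, hZc⟩ := exists_psub (p := q) (Subgroup.center G)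
    have h2 : L ⊓ cen a = Zq := by
      refine le_antisymm (fun y hy => ?_) fun y hy =>
        ⟨hLall y (center_le_cen v (hZ hy)) (isPEl_of_mem hZp hy), center_le_cen a (hZ hy)⟩
      refine mem_psub (A := Subgroup.center G)
        (fun a ha b _ => (Subgroup.mem_center_iff.mp ha b).symm) hZ hZp hZc ?_
        (isPEl_of_mem hLp hy.1)
      by_contra hyz
      exact hav (hfix a ha y (hLv hy.1) (hcop (isPEl_of_mem hLp hy.1)) hyz (mem_cen.mp hy.2))
    rw [h2, hLc, hZc, cen_factorization_eq S hno hqm hvz, pow_succ'] at h1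
    have h3 : q ≡ 1 [MOD p] := Nat.ModEq.cancel_right_of_coprime
      (((Nat.coprime_primes hp hq).mpr hpq).pow_right _) (by rw [one_mul]; exact h1)
    exact (Nat.modEq_iff_dvd' hq.one_lt.le).mp h3.symm
  have hm : m = p := by
    refine Nat.eq_of_factorization_eq S.m_pos.ne' hp.ne_zero fun l => ?_
    rw [hp.factorization, Finsupp.single_apply]
    by_cases hlp : p = l
    · subst hlp; rw [if_pos rfl, (local_data S hno hpm).1]
    · rw [if_neg hlp]
      by_contra h0
      have hl : l.Prime := Nat.prime_of_mem_primeFactors (Nat.support_factorization m ▸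
        Finsupp.mem_support_iff.mpr h0)
      have h1 := key p l hp hl hpm (Nat.dvd_of_factorization_pos h0) hlp
      have h2 := key l p hl hp (Nat.dvd_of_factorization_pos h0) hpm (Ne.symm hlp)
      have := Nat.le_of_dvd (by have := hl.one_lt; omega) h1
      have := Nat.le_of_dvd (by have := hp.one_lt; omega) h2
      omega
  exact hm ▸ hp

/-- Centralizers of index `m` are normal. -/
theorem normal_of_idx (S : Sizes G m n) (hno : ∀ y : G, ¬ PiM m y) {x : G} (hx : idx x = m) :
    (cen x).Normal := by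
  have hp := prime_m S hno
  have : Fact m.Prime := ⟨hp⟩
  refine ⟨fun d hd g => ?_⟩
  by_cases hdz : d ∈ Subgroup.center G
  · exact center_le_cen x ((inferInstance : (Subgroup.center G).Normal).conj_mem d hdz g)
  -- `d` lies in the abelian centralizer of some `p`-element
  obtain ⟨u, hup, huz, hdu⟩ : ∃ u : G, IsPEl m u ∧ u ∉ Subgroup.center G ∧ d ∈ cen u := by
    obtain ⟨u, h1, h2, h3⟩ := exists_pi_noncentral S hdz (q := m) (dvd_refl m)
    exact ⟨u, h2, h3, mem_cen_comm.mp h1⟩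
  have hab : ∀ a ∈ cen u, ∀ b ∈ cen u, a * b = b * a := by
    obtain ⟨W, F, hW, hWp, -, hWall, hF, -, -, hFall, hFc, -⟩ :=
      cen_split S hno (dvd_refl m) hup huz
    have hsplit : ∀ a ∈ cen u, ∀ b ∈ cen u, IsPEl m a → IsPEl m b → a * b = b * a := by
      intro a ha b hb hap hbp
      obtain ⟨-, i, -, z, hz, rfl⟩ := rank_one (center_le_cen u)
        (cen_factorization_eq S hno (dvd_refl m) huz).le (self_mem_cen u) hup huz ha hap
        (mem_cen.mp ha)
      exact (((show Commute u b from mem_cen.mp hb).pow_left i).mul_left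
        (Subgroup.mem_center_iff.mp hz b).symm).eq
    intro a ha b hb
    obtain ⟨a₁, a₂, ha₁, ha₂, haa, hak, hacop⟩ := Lib.Elem70.exists_primary_split hp a
    obtain ⟨b₁, b₂, hb₁, hb₂, hbb, hbk, hbcop⟩ := Lib.Elem70.exists_primary_split hp b
    have ha1 := mem_of_mem_zpowers ha₁ ha
    have ha2 := mem_of_mem_zpowers ha₂ ha
    have hb1 := mem_of_mem_zpowers hb₁ hb
    have hb2 := mem_of_mem_zpowers hb₂ hb
    have hc : ∀ y ∈ cen u, (orderOf y).Coprime m → ∀ z ∈ cen u, Commute y z :=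
      fun y hy hcy z hz => mem_cen.mp (hFc y (hFall y hy hcy) hz)
    rw [haa, hbb]
    exact (((show Commute a₁ b₁ from hsplit a₁ ha1 b₁ hb1 hak hbk).mul_right
      (hc b₂ hb2 hbcop a₁ ha1).symm).mul_left (((hc a₂ ha2 hacop b₁ hb1)).mul_right
        (hc a₂ ha2 hacop b₂ hb2))).eq
  -- the orbits of `⟨u⟩` on the `m` cosets
  have horb : ∀ h : G, h⁻¹ * u * h ∈ cen x ∨ ∀ k : G, ∃ i : ℤ, (u ^ i * h)⁻¹ * k ∈ cen x := by
    intro h
    by_cases hfix : h⁻¹ * u * h ∈ cen x
    · exact Or.inl hfix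
    refine Or.inr fun k => ?_
    have hU := hup.isPGroup hp
    obtain ⟨j, hj⟩ := hU.card_orbit (h : G ⧸ cen x)
    have hj0 : j ≠ 0 := by
      rintro rfl
      rw [pow_zero, Nat.card_coe_set_eq, Set.ncard_eq_one] at hj
      obtain ⟨a, ha⟩ := hj
      apply hfix
      have h1 : ((u * h : G) : G ⧸ cen x) ∈
          MulAction.orbit (Subgroup.zpowers u) (h : G ⧸ cen x) :=
        ⟨⟨u, Subgroup.mem_zpowers u⟩, rfl⟩
      have h2 := MulAction.mem_orbit_self (M := Subgroup.zpowers u) (h : G ⧸ cen x)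
      rw [ha, Set.mem_singleton_iff] at h1 h2
      have h3 := QuotientGroup.eq.mp (h2.trans h1.symm)
      rwa [← mul_assoc] at h3
    have huniv : MulAction.orbit (Subgroup.zpowers u) (h : G ⧸ cen x) = Set.univ := by
      refine Set.eq_of_subset_of_ncard_le (Set.subset_univ _) ?_
      rw [Set.ncard_univ, ← Nat.card_coe_set_eq, hj]
      exact le_trans (le_of_eq hx) (Nat.le_self_pow hj0 m)
    obtain ⟨⟨_, i, rfl⟩, hi⟩ := (huniv ▸ Set.mem_univ (k : G ⧸ cen x) :
      (k : G ⧸ cen x) ∈ MulAction.orbit (Subgroup.zpowers u) (h : G ⧸ cen x))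
    exact ⟨i, QuotientGroup.eq.mp hi⟩
  by_cases hux : u ∈ cen x
  · -- `u` fixes every coset
    have hall : g⁻¹⁻¹ * u * g⁻¹ ∈ cen x := by
      by_contra hmove
      obtain ⟨i, hi⟩ := ((horb g⁻¹).resolve_left hmove) 1
      rw [mul_one, Subgroup.inv_mem_iff] at hi
      have h1 : g⁻¹ ∈ cen x := (Subgroup.mul_mem_cancel_left _ (Subgroup.zpow_mem _ hux i)).mp hi
      exact hmove (Subgroup.mul_mem _ (Subgroup.mul_mem _ (Subgroup.inv_mem _ h1) hux) h1)
    have h2 : g⁻¹ * x * g⁻¹⁻¹ ∈ cen u := by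
      rw [mem_cen_comm, mem_cen_conj]
      exact hall
    have h3 := mem_cen.mpr (hab _ h2 d hdu)
    rw [mem_cen_conj, inv_inv] at h3
    exact h3
  · obtain ⟨i, hi⟩ := ((horb 1).resolve_left fun h => hux (by simpa using h)) g⁻¹
    rw [mul_one] at hi
    set e := (u ^ i)⁻¹ * g⁻¹ with he
    have hg : g = e⁻¹ * (u ^ i)⁻¹ := by rw [he]; group
    have hcomm : Commute d (u ^ i) := ((show Commute u d from mem_cen.mp hdu).symm).zpow_right i
    rw [hg, show e⁻¹ * (u ^ i)⁻¹ * d * (e⁻¹ * (u ^ i)⁻¹)⁻¹ =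
      e⁻¹ * ((u ^ i)⁻¹ * d * u ^ i) * e by group, mul_assoc ((u ^ i)⁻¹), hcomm.eq,
      inv_mul_cancel_left]
    exact Subgroup.mul_mem _ (Subgroup.mul_mem _ (Subgroup.inv_mem _ hi) hd) hi

/-- Some `π`-element has a class of size `m`. -/
theorem exists_piM (S : Sizes G m n) : ∃ x : G, PiM m x := by
  by_contra hcon
  push Not at hcon
  have hno : ∀ y : G, ¬ PiM m y := hcon
  have hp := prime_m S hno
  have : Fact m.Prime := ⟨hp⟩
  -- a primary element with class of size `m`
  obtain ⟨x, s, hxm, hs, hxs⟩ : ∃ (x : G) (s : ℕ), idx x = m ∧ s.Prime ∧ IsPEl s x := by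
    obtain ⟨y, hy⟩ := S.exists_m
    obtain ⟨l, v, hl, hvy, hvz, hvl⟩ := exists_primary_notMem (S.noncentral_of_idx_eq_m hy)
    refine ⟨v, l, (S.cases_of_noncentral hvz).resolve_right fun e => ?_, hl, hvl⟩
    have h1 := Subgroup.index_dvd_of_le (cen_le_of_mem_zpowers hvy)
    rw [show (cen v).index = m * n from e, show (cen y).index = m from hy] at h1
    exact S.m_ne_mn (Nat.dvd_antisymm (Dvd.intro n rfl) h1)
  have hsm : ¬ s ∣ m := fun h => hno x ⟨hxm, s, hs, h, hxs⟩
  have hxz := S.noncentral_of_idx_eq_m hxm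
  have hn := normal_of_idx S hno hxm
  have hmemD : ∀ y : G, (orderOf y).Coprime m → y ∈ cen x := by
    intro y hy
    have h1 := Subgroup.pow_index_mem (cen x) y
    rw [show (cen x).index = m from hxm] at h1
    obtain ⟨k, hk⟩ := exists_pow_eq_self_of_coprime hy.symm
    exact hk ▸ Subgroup.pow_mem _ h1 k
  obtain ⟨P⟩ : Nonempty (Sylow m G) := inferInstance
  obtain ⟨t, htP, htx⟩ := SetLike.not_le_iff_exists.mp
    (fun h : (P : Subgroup G) ≤ cen x => hxz (mem_center_of_sylow_le S (dvd_refl m) P h))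
  have htz : t ∉ Subgroup.center G := fun h => htx (center_le_cen x h)
  have htp := isPEl_of_mem P.2 htP
  obtain ⟨w, hw, hwcop, hwz⟩ := exists_coprime_noncentral S hno (dvd_refl m) htp htz
  have hxw : Commute x w := mem_cen.mp (hmemD w hwcop)
  rcases S.cases_of_noncentral hwz with hwm | hwmn
  swap
  · have h1 := (S.cen_le_of_mn (pel_mn S hno hp (dvd_refl m) htp htz) (mem_cen.mp hw)
      (htp.coprime hp hwcop.symm)).1
    have h2 : cen t = cen w := Sizes.cen_eq_of_le h1
      (hwmn.trans (pel_mn S hno hp (dvd_refl m) htp htz).symm)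
    have h3 : x ∈ cen t := h2.ge (mem_cen_comm.mp (hmemD w hwcop))
    exact htx (mem_cen_comm.mp h3)
  have hwn := normal_of_idx S hno hwm
  have htw : t ∈ cen w := mem_cen_comm.mp hw
  -- `x * w` has centralizer `C(x) ⊓ C(w)` of index `m * m`
  have hcxw : cen (x * w) = cen x ⊓ cen w := by
    refine le_antisymm (fun g hg => ?_) fun g hg =>
      mem_cen.mpr ((show Commute x g from mem_cen.mp hg.1).mul_left (mem_cen.mp hg.2)).eq
    have hid : ((cen x).subgroupOf (cen w)).index ∣ m := hxm ▸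
      Subgroup.relIndex_dvd_index_of_normal (cen x) (cen w)
    have hsup : ∀ g : G, ∃ d ∈ cen x, ∃ e ∈ cen w, g = d * e := by
      intro g
      have h1 : cen x ⊔ cen w = ⊤ := by
        by_contra hne
        have h2 := Subgroup.index_dvd_of_le (le_sup_left : cen x ≤ cen x ⊔ cen w)
        rw [show (cen x).index = m from hxm, Nat.dvd_prime hp] at h2
        rcases h2 with h2 | h2
        · exact hne (Subgroup.index_eq_one.mp h2)
        · have h3 : cen x = cen x ⊔ cen w := by
            refine le_antisymm le_sup_left (Subgroup.relIndex_eq_one.mp ?_)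
            have h4 := Subgroup.relIndex_mul_index (le_sup_left : cen x ≤ cen x ⊔ cen w)
            rw [show (cen x).index = m from hxm, h2] at h4
            exact (mul_eq_right₀ hp.ne_zero).mp h4
          exact htx (h3 ▸ Subgroup.mem_sup_right htw)
      have hmem : g ∈ (cen x : Set G) * (cen w : Set G) := by
        rw [← Subgroup.normal_mul, h1]; trivial
      obtain ⟨d, hd, e, he, rfl⟩ := hmem
      exact ⟨d, hd, e, he, rfl⟩
    obtain ⟨d, hd, e, he, rfl⟩ := hsup g
    -- `c = x⁻¹ (e⁻¹ x e)` is central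
    set c := x⁻¹ * (e⁻¹ * (x * e)) with hc
    have hg' : (x * w) * (d * e) = (d * e) * (x * w) := mem_cen.mp hg
    have hxd : Commute x d := mem_cen.mp hd
    have hwe : Commute w e := mem_cen.mp he
    have hx' : e⁻¹ * (x * e) = e⁻¹ * x * e⁻¹⁻¹ := by group
    have hcy : ∀ y ∈ cen x, Commute c y := by
      intro y hy
      have h1 : y ∈ cen (e⁻¹ * x * e⁻¹⁻¹) := by
        rw [mem_cen_conj]
        simpa [mul_assoc] using hn.conj_mem y hy e
      rw [hc, hx']
      exact (show Commute x y from mem_cen.mp hy).inv_left.mul_left (mem_cen.mp h1)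
    have hw' : e⁻¹ * (d⁻¹ * (w * d)) * e = c⁻¹ * w := by
      have h1 : e⁻¹ * d⁻¹ * (x * w) * (d * e) = x * w := by
        rw [mul_assoc (e⁻¹ * d⁻¹), hg']; group
      have h2 : e⁻¹ * d⁻¹ * (x * w) * (d * e) = (e⁻¹ * (x * e)) * (e⁻¹ * (d⁻¹ * (w * d)) * e) := by
        calc e⁻¹ * d⁻¹ * (x * w) * (d * e) = e⁻¹ * (d⁻¹ * x * d) * (d⁻¹ * (w * d)) * e := by group
          _ = e⁻¹ * x * (d⁻¹ * (w * d)) * e := by rw [mul_assoc d⁻¹, hxd.eq, inv_mul_cancel_left]
          _ = _ := by group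
      rw [h1] at h2
      rw [hc, mul_inv_rev, inv_inv, mul_assoc ((e⁻¹ * (x * e))⁻¹), h2, inv_mul_cancel_left]
    have hcz : c ∈ Subgroup.center G := by
      rw [Subgroup.mem_center_iff]
      intro y
      obtain ⟨a, ha, b, hb, rfl⟩ := hsup y
      have hcb : Commute c b := by
        have h1 : b ∈ cen (d⁻¹ * w * d⁻¹⁻¹) := by
          rw [mem_cen_conj]
          simpa [mul_assoc] using hwn.conj_mem b hb d
        have h2 : c⁻¹ * w = e⁻¹ * (d⁻¹ * w * d⁻¹⁻¹) * e⁻¹⁻¹ := by
          rw [← hw']; group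
        have h3 : b ∈ cen (c⁻¹ * w) := by
          rw [h2, mem_cen_conj]
          have h4 := hwn.conj_mem b hb e
          have h5 : cen (d⁻¹ * w * d⁻¹⁻¹) = cen w := by
            ext z
            rw [mem_cen_conj]
            constructor
            · intro hz
              have := hwn.conj_mem _ hz d⁻¹
              rwa [show d⁻¹ * (d⁻¹⁻¹ * z * d⁻¹) * d⁻¹⁻¹ = z by group] at this
            · intro hz
              simpa [mul_assoc] using hwn.conj_mem _ hz d
          change e⁻¹⁻¹ * b * e⁻¹ ∈ cen (d⁻¹ * w * d⁻¹⁻¹)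
          rw [h5]
          simpa [mul_assoc] using h4
        have h6 : Commute (c⁻¹ * w) b := mem_cen.mp h3
        have h7 := h6.mul_left ((show Commute w b from mem_cen.mp hb).inv_left)
        rw [mul_inv_cancel_right] at h7
        exact inv_inv c ▸ h7.inv_left
      exact ((hcy a ha).mul_right hcb).eq.symm
    have hxc : e⁻¹ * x * e⁻¹⁻¹ = x * c := by rw [hc]; group
    have hcx : Commute x c := ((Subgroup.mem_center_iff.mp hcz x))
    have hiter : ∀ k : ℕ, (e⁻¹) ^ k * x * ((e⁻¹) ^ k)⁻¹ = x * c ^ k := by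
      intro k
      induction k with
      | zero => simp
      | succ k ih =>
        calc (e⁻¹) ^ (k + 1) * x * ((e⁻¹) ^ (k + 1))⁻¹
            = e⁻¹ * ((e⁻¹) ^ k * x * ((e⁻¹) ^ k)⁻¹) * e⁻¹⁻¹ := by rw [pow_succ']; group
          _ = e⁻¹ * x * e⁻¹⁻¹ * c ^ k := by
              rw [ih, ← mul_assoc e⁻¹ x, mul_assoc (e⁻¹ * x) (c ^ k),
                ← Subgroup.mem_center_iff.mp (Subgroup.pow_mem _ hcz k) e⁻¹⁻¹]
              group
          _ = x * c ^ (k + 1) := by rw [hxc, mul_assoc, pow_succ']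
    have hcm : c ^ m = 1 := by
      have h1 : (e⁻¹) ^ m ∈ cen x := by
        have := Subgroup.pow_index_mem (cen x) e⁻¹
        rwa [show (cen x).index = m from hxm] at this
      have h2 := hiter m
      rw [← (show Commute x ((e⁻¹) ^ m) from mem_cen.mp h1).eq, mul_inv_cancel_right] at h2
      exact mul_eq_left.mp h2.symm
    have hcs : (orderOf c).Coprime m := by
      obtain ⟨k, hk⟩ := hxs
      have h1 : (x * c) ^ s ^ k = 1 := by rw [← hxc, conj_pow, hk]; group
      rw [hcx.mul_pow, hk, one_mul] at h1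
      exact IsPEl.coprime (x := c) hs ⟨k, h1⟩ (hs.coprime_iff_not_dvd.mpr hsm)
    have hc1 : c = 1 := by
      rw [← orderOf_eq_one_iff]
      exact Nat.eq_one_of_dvd_coprimes hcs (dvd_refl _) (orderOf_dvd_of_pow_eq_one hcm)
    have hex : e ∈ cen x := by
      rw [hc1, mul_one] at hxc
      exact mem_cen.mpr (by
        have := mul_inv_eq_iff_eq_mul.mp hxc
        calc x * e = e * (e⁻¹ * x) * e := by group
          _ = e * (x * e⁻¹) * e := by rw [this]
          _ = e * x := by group)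
    have hdw : d ∈ cen w := by
      rw [hc1, inv_one, one_mul] at hw'
      refine mem_cen.mpr ?_
      have h1 : d⁻¹ * (w * d) = w := by
        calc d⁻¹ * (w * d) = e * (e⁻¹ * (d⁻¹ * (w * d)) * e) * e⁻¹ := by group
          _ = w := by rw [hw', ← hwe.eq, mul_inv_cancel_right]
      calc w * d = d * (d⁻¹ * (w * d)) := by group
        _ = d * w := by rw [h1]
    exact ⟨Subgroup.mul_mem _ hd hex, Subgroup.mul_mem _ hdw he⟩
  have hidx : idx (x * w) = m * m := by
    have hr : (cen x ⊓ cen w).relIndex (cen w) = m := by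
      have h1 : (cen x).relIndex (cen w) ∣ m := hxm ▸
        Subgroup.relIndex_dvd_index_of_normal (cen x) (cen w)
      rw [Subgroup.inf_relIndex_right]
      exact ((Nat.dvd_prime hp).mp h1).resolve_left fun h =>
        htx (Subgroup.relIndex_eq_one.mp h htw)
    have h2 := Subgroup.relIndex_mul_index (inf_le_right : cen x ⊓ cen w ≤ cen w)
    change (cen (x * w)).index = m * m
    rw [hcxw, ← h2, hr, show (cen w).index = m from hwm]
  rcases S.mem (x * w) with e | e | e <;> rw [hidx] at e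
  · rw [mul_eq_one] at e; exact hp.ne_one e.1
  · exact hp.ne_one ((mul_eq_left₀ hp.ne_zero).mp e)
  · exact hp.not_dvd_one (S.cop.gcd_eq_one ▸
      Nat.dvd_gcd dvd_rfl (dvd_of_eq (Nat.eq_of_mul_eq_mul_left hp.pos e)))

end Cfsg.Agent.Lib.ClassSizes.CopNoPi
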