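import Cfsg.Agent.Lib.ClassSizes.CopDiv

/-!
# Class sizes `{1, m, mn}`: `C(x)` is normal
-/

set_option autoImplicit false

namespace Cfsg.Agent.Lib.ClassSizes.CopNormal

open Cfsg.Agent.Lib.ClassSizes.Basic Cfsg.Agent.Lib.ClassSizes.CopTools
open Cfsg.Agent.Lib.ClassSizes.CopStruct Cfsg.Agent.Lib.ClassSizes.CopTI
open Cfsg.Agent.Lib.ClassSizes.CopLocal Cfsg.Agent.Lib.ClassSizes.CopAbelian
open Cfsg.Agent.Lib.ClassSizes.CopDiv
open scoped commutatorElement

variable {G : Type*} [Group G] [Finite G] {m n : ℕ}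

omit [Finite G] in
theorem central_pow_comm {v d : G} {p : ℕ} (hd : d * v * d⁻¹ * v⁻¹ ∈ Subgroup.center G)
    (hv : v ^ p ∈ Subgroup.center G) : Commute (d ^ p) v := by
  obtain ⟨ζ, hζ, e⟩ : ∃ ζ ∈ Subgroup.center G, d * v * d⁻¹ = ζ * v := ⟨_, hd, by group⟩
  have hc : ∀ y, Commute ζ y := fun y => (Subgroup.mem_center_iff.mp hζ y).symm
  have key : ∀ k : ℕ, d ^ k * v * (d ^ k)⁻¹ = ζ ^ k * v := by
    intro k
    induction k with
    | zero => simp
    | succ k ih =>
      calc d ^ (k + 1) * v * (d ^ (k + 1))⁻¹ = d * (d ^ k * v * (d ^ k)⁻¹) * d⁻¹ := by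
            rw [pow_succ']; group
        _ = d * (ζ ^ k * v) * d⁻¹ := by rw [ih]
        _ = ζ ^ k * (d * v * d⁻¹) := by
            rw [← mul_assoc d, ((hc d).pow_left k).symm.eq]; group
        _ = ζ ^ (k + 1) * v := by rw [e, pow_succ, mul_assoc]
  have hζp : ζ ^ p = 1 := by
    have h1 : d * v ^ p * d⁻¹ = ζ ^ p * v ^ p := by
      rw [← conj_pow, e, (hc v).mul_pow]
    rw [Subgroup.mem_center_iff.mp hv d, mul_inv_cancel_right] at h1
    exact mul_eq_right.mp h1.symm
  have := key p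
  rw [hζp, one_mul] at this
  exact mul_inv_eq_iff_eq_mul.mp this

/-- The exponent of `p` in the order of the centre. -/
noncomputable abbrev zExp (G : Type*) [Group G] (p : ℕ) : ℕ :=
  (Nat.card (Subgroup.center G)).factorization p

/-- If `p` divides the number of conjugates of `C(x)` : there is a witness. -/
theorem bad_data (S : Sizes G m n) {x : G} (hx : PiM m x) {p : ℕ} [hp : Fact p.Prime]
    (hpm : p ∣ m) (hbad : p ∣ (Subgroup.normalizer (cen x : Set G)).index) :
    ∃ (P : Sylow p G) (Dp : Subgroup G) (v : G), Dp ≤ cen x ∧ Dp ≤ P ∧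
      Nat.card Dp = p ^ (Nat.card (cen x)).factorization p ∧
      v ∈ (P : Subgroup G) ∧ idx v = m * n ∧ v ^ p ∈ Subgroup.center G ∧
      (∀ a ∈ (P : Subgroup G), a * v * a⁻¹ * v⁻¹ ∈ Subgroup.center G) ∧
      v ∈ Subgroup.normalizer (cen x : Set G) ∧ v ∉ cen x ∧
      (Nat.card (cen x)).factorization p ≤ zExp G p + 1 ∧
      ¬ (P : Subgroup G) ≤ Subgroup.normalizer (cen x : Set G) ∧
      ((Subgroup.normalizer (cen x : Set G)).index).factorization p ≤ 1 := by
  classical
  set N := Subgroup.normalizer (cen x : Set G) with hN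
  obtain ⟨Dp, hDx, hDp, hDc⟩ := exists_psub (p := p) (cen x)
  obtain ⟨P, hP⟩ := hDp.exists_le_sylow
  have hA := commute_of_mem S hx
  have hDall : ∀ u ∈ cen x, IsPEl p u → u ∈ Dp := fun u hu hup => mem_psub hA hDx hDp hDc hu hup
  have hPN : ¬ (P : Subgroup G) ≤ N := fun h => not_dvd_of_sylow_le P h hbad
  obtain ⟨v, hvP, hvz, hvp, hv⟩ := exists_second_center P.2 le_rfl Subgroup.le_normalizer
    (sylow_not_le_center S hpm P)
  obtain ⟨d, hd, hdp, hdz⟩ := exists_pi_noncentral S (S.noncentral_of_idx_eq_m hx.1) hpm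
  have hdD := hDall d hd hdp
  -- `v` normalises `C(x)`
  have hvN : v ∈ N := by
    refine mem_normalizer_of_conj_mem S hx hd hdz ?_
    have h1 := hv d (hP hdD)
    have h2 : v * d * v⁻¹ = (d * v * d⁻¹ * v⁻¹)⁻¹ * d := by group
    rw [h2]
    exact Subgroup.mul_mem _ (Subgroup.inv_mem _ (center_le_cen x h1)) hd
  -- `v` has a class of size `m * n`
  have hvm : idx v = m * n := by
    refine (S.cases_of_noncentral hvz).resolve_left fun hvm => hPN ?_
    exfalso
    obtain ⟨g, hg⟩ := exists_conj S hx ⟨hvm, p, hp.out, hpm, isPEl_of_mem P.2 hvP⟩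
    have hPv : (P : Subgroup G) ≤ Subgroup.normalizer (cen v : Set G) :=
      fun a ha => mem_normalizer_cen_of_commutator (hv a ha)
    have h2 := not_dvd_of_sylow_le P hPv
    rw [hg, index_normalizer_cen_conj] at h2
    exact h2 hbad
  have hvx : v ∉ cen x := fun h => by
    have h2 : idx v = idx x := by simp only [idx, cen_eq S hx h hvz]
    rw [hvm, hx.1] at h2
    exact S.m_ne_mn h2.symm
  have hpcent : ∀ d' ∈ Dp, d' ^ p ∈ Subgroup.center G := by
    intro d' hd'
    by_contra hz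
    refine hvx ?_
    rw [← cen_eq S hx ((cen x).pow_mem (hDx hd') p) hz]
    exact mem_cen.mpr (central_pow_comm (hv d' (hP hd')) hvp).eq
  -- an element of `P` moving `C(x)` and normalising `P ⊓ N`
  set PN : Subgroup P := N.subgroupOf P with hPNdef
  have : Group.IsNilpotent (P : Subgroup G) := P.2.isNilpotent
  have hlt := Group.normalizerCondition_of_isNilpotent PN
    (lt_top_iff_ne_top.mpr fun h => hPN (Subgroup.subgroupOf_eq_top.mp h))
  obtain ⟨u, huN, hu⟩ := SetLike.exists_of_lt hlt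
  have hunot : (u : G) ∉ N := hu
  have hmov : ∀ d' ∈ Dp, (u : G) * d' * (u : G)⁻¹ ∈ N := by
    intro d' hd'
    have := (Subgroup.mem_normalizer_iff.mp huN ⟨d', hP hd'⟩).mp
      (show d' ∈ N from Subgroup.le_normalizer (hDx hd'))
    exact this
  obtain ⟨r, hr, hrn⟩ := exists_r S
  have : Fact r.Prime := ⟨hr⟩
  have hrm : ¬ r ∣ m := fun h => S.not_dvd_n hr h hrn
  obtain ⟨R, hR⟩ := exists_sylow_le (show ¬ r ∣ (Subgroup.centralizer ({x} : Set G)).index by
    rw [show (Subgroup.centralizer ({x} : Set G)).index = m from hx.1]; exact hrm)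
  obtain ⟨h, hhR, hhz⟩ := SetLike.not_le_iff_exists.mp (noncentral_sylow S hrn R)
  -- `Dp` has order `p` modulo the centre
  have hgen : ∀ d' ∈ Dp, ∃ i : ℕ, d' * d ^ i ∈ Subgroup.center G := by
    intro d' hd'
    by_contra hcon
    push Not at hcon
    have hconj : ∀ i : ℕ, (u : G) * d' * (u : G)⁻¹ * ((u : G) * d * (u : G)⁻¹) ^ i =
        (u : G) * (d' * d ^ i) * (u : G)⁻¹ := fun i => by rw [conj_pow]; group
    have hout : ∀ e ∈ cen x, e ∉ Subgroup.center G → ∀ y ∈ cen x,
        Commute ((u : G) * e * (u : G)⁻¹) y → y ∈ Subgroup.center G := by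
      intro e he hez y hy hc
      by_contra hyz
      refine hunot (mem_normalizer_of_conj_mem S hx he hez ?_)
      rw [← cen_eq S hx hy hyz]
      exact mem_cen.mpr hc.eq.symm
    refine hhz (fpf_elementary (p := p) (A := cen x) hA (hmov d' hd') (hmov d hdD) ?_ ?_ ?_ ?_ ?_
      (hR hhR) ((isPEl_of_mem R.2 hhR).coprime hr ((Nat.coprime_primes hr hp.out).mpr
        (ne_of_dvd S hp.out hpm hrn).symm)))
    · rw [conj_pow]
      exact Subgroup.center_le_centralizer _
        ((inferInstance : (Subgroup.center G).Normal).conj_mem _ (hpcent d' hd') _)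
    · rw [conj_pow]
      exact Subgroup.center_le_centralizer _
        ((inferInstance : (Subgroup.center G).Normal).conj_mem _ (hpcent d hdD) _)
    · rw [← MulAut.conj_apply, ← MulAut.conj_apply, ← map_commutatorElement,
        commutatorElement_eq_one_iff_mul_comm.mpr (hA d' (hDx hd') d hd), map_one]
      exact Subgroup.one_mem _
    · exact fun y hy hc => hout d hd hdz y hy hc
    · intro i y hy hc
      rw [hconj] at hc
      exact hout _ (Subgroup.mul_mem _ (hDx hd') ((cen x).pow_mem hd i)) (hcon i) y hy hc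
  obtain ⟨Zp, hZle, hZp, hZc⟩ := exists_psub (p := p) (Subgroup.center G)
  have heps : (Nat.card (cen x)).factorization p ≤ zExp G p + 1 := by
    have hdp' : d ^ p ∈ Subgroup.center G := hpcent d hdD
    let f : Fin p × Zp → G := fun iz => d ^ (iz.1 : ℕ) * iz.2
    have hsub : (Dp : Set G) ⊆ Set.range f := by
      intro d' hd'
      obtain ⟨i, hi⟩ := hgen d' hd'
      -- `d' = d ^ (-i) * z`, reduced modulo `p`
      set j := ((p - 1) * i) % p with hj
      have hjz : (d ^ j)⁻¹ * d' ∈ Subgroup.center G := by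
        have e1 : d ^ j * d ^ i * (d ^ p) ^ (((p - 1) * i) / p) = (d ^ p) ^ i := by
          rw [← pow_add, ← pow_mul, ← pow_mul, ← pow_add]
          congr 1
          have := Nat.mod_add_div ((p - 1) * i) p
          have : (p - 1) * i + i = p * i := by
            rw [← Nat.succ_mul]; congr 1; have := hp.out.pos; omega
          omega
        have e2 : (d ^ j)⁻¹ = d ^ i * ((d ^ p) ^ (((p - 1) * i) / p) * ((d ^ p) ^ i)⁻¹) := by
          rw [inv_eq_iff_mul_eq_one, ← mul_assoc, ← mul_assoc, e1, mul_inv_cancel]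
        rw [e2, mul_assoc, ← Subgroup.mem_center_iff.mp
          (Subgroup.mul_mem _ (Subgroup.pow_mem _ hdp' _)
            (Subgroup.inv_mem _ (Subgroup.pow_mem _ hdp' i))) d', ← mul_assoc]
        refine Subgroup.mul_mem _ ?_ (Subgroup.mul_mem _ (Subgroup.pow_mem _ hdp' _)
            (Subgroup.inv_mem _ (Subgroup.pow_mem _ hdp' i)))
        rw [hA _ ((cen x).pow_mem hd i) d' (hDx hd')]
        exact hi
      have hzp : IsPEl p ((d ^ j)⁻¹ * d') :=
        isPEl_of_mem hDp (Dp.mul_mem (Dp.inv_mem (Dp.pow_mem hdD _)) hd')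
      have hzmem : (d ^ j)⁻¹ * d' ∈ Zp := mem_psub (A := Subgroup.center G)
        (fun a ha b _ => (Subgroup.mem_center_iff.mp ha b).symm) hZle hZp hZc hjz hzp
      exact ⟨(⟨j, Nat.mod_lt _ hp.out.pos⟩, ⟨_, hzmem⟩), mul_inv_cancel_left _ _⟩
    have h1 : Nat.card Dp ≤ p * Nat.card Zp := by
      calc Nat.card Dp = (Dp : Set G).ncard := (Nat.card_coe_set_eq _)
        _ ≤ (Set.range f).ncard := Set.ncard_le_ncard hsub
        _ = Nat.card (Set.range f) := (Nat.card_coe_set_eq _).symm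
        _ ≤ Nat.card (Fin p × Zp) :=
            Nat.card_le_card_of_surjective (Set.rangeFactorization f) Set.rangeFactorization_surjective
        _ = p * Nat.card Zp := by rw [Nat.card_prod, Nat.card_fin]
    rw [hDc, hZc, ← pow_succ'] at h1
    exact (Nat.pow_le_pow_iff_right hp.out.one_lt).mp h1
  refine ⟨P, Dp, v, hDx, hP, hDc, hvP, hvm, hvp, hv, hvN, hvx, heps, hPN, ?_⟩
  -- the orbit of `C(x)` under `P` has at most `p` elements
  have hrank : ∀ a : P, ∃ i : Fin p, ∃ z ∈ Subgroup.center G,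
      (a : G) * d * (a : G)⁻¹ * d⁻¹ = v ^ (i : ℕ) * z := by
    intro a
    have hw : (a : G) * d * (a : G)⁻¹ * d⁻¹ ∈ (P : Subgroup G) :=
      mul_mem (mul_mem (mul_mem a.2 (hP hdD)) (inv_mem a.2)) (inv_mem (hP hdD))
    have hwv : Commute v ((a : G) * d * (a : G)⁻¹ * d⁻¹) := by
      obtain ⟨ζ, hζ, hζe⟩ : ∃ ζ ∈ Subgroup.center G, (a : G) * v * (a : G)⁻¹ = ζ * v :=
        ⟨_, hv a a.2, by group⟩
      obtain ⟨η, hη, hηe⟩ : ∃ η ∈ Subgroup.center G, d * v * d⁻¹ = η * v :=
        ⟨_, hv d (hP hdD), by group⟩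
      have hζc : ∀ y, Commute ζ y := fun y => (Subgroup.mem_center_iff.mp hζ y).symm
      have hηc : ∀ y, Commute η y := fun y => (Subgroup.mem_center_iff.mp hη y).symm
      have e1 : ((a : G) * d) * v * ((a : G) * d)⁻¹ = η * ζ * v := by
        calc ((a : G) * d) * v * ((a : G) * d)⁻¹
            = (a : G) * (d * v * d⁻¹) * (a : G)⁻¹ := by group
          _ = η * ((a : G) * v * (a : G)⁻¹) := by
              rw [hηe, ← mul_assoc (a : G), ((hηc (a : G)).symm).eq]; group
          _ = η * ζ * v := by rw [hζe, mul_assoc]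
      have e2 : (d * (a : G)) * v * (d * (a : G))⁻¹ = η * ζ * v := by
        calc (d * (a : G)) * v * (d * (a : G))⁻¹
            = d * ((a : G) * v * (a : G)⁻¹) * d⁻¹ := by group
          _ = ζ * (d * v * d⁻¹) := by rw [hζe, ← mul_assoc d, ((hζc d).symm).eq]; group
          _ = η * ζ * v := by rw [hηe, ← mul_assoc, (hζc η).eq]
      set w := (a : G) * d * (a : G)⁻¹ * d⁻¹ with hwd
      have e3 : w * (η * ζ * v) * w⁻¹ = η * ζ * v := by
        calc w * (η * ζ * v) * w⁻¹ = w * ((d * (a : G)) * v * (d * (a : G))⁻¹) * w⁻¹ := by rw [e2]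
          _ = ((a : G) * d) * v * ((a : G) * d)⁻¹ := by rw [hwd]; group
          _ = η * ζ * v := e1
      refine (mul_inv_eq_iff_eq_mul.mp ?_).symm
      apply mul_left_cancel (a := η * ζ)
      calc η * ζ * (w * v * w⁻¹) = w * (η * ζ * v) * w⁻¹ := by
            rw [← mul_assoc w (η * ζ), (((hηc w).mul_left (hζc w)).symm).eq]; group
        _ = η * ζ * v := e3
    obtain ⟨-, i, hi, z, hz, he⟩ := rank_one (center_le_cen v)
      ((S.factorization_eq hvz (S.noncentral_of_idx_eq_m hx.1) hp.out hpm).le.trans heps)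
      (self_mem_cen v) (isPEl_of_mem P.2 hvP) hvz (mem_cen.mpr hwv.eq) (isPEl_of_mem P.2 hw) hwv
    exact ⟨⟨i, hi⟩, z, hz, he⟩
  choose ι z hz hι using hrank
  have hfib : ∀ a b : P, ι a = ι b → ((b⁻¹ * a : P) : G) ∈ N := by
    intro a b hab
    have h1 : (a : G) * d * (a : G)⁻¹ = (b : G) * d * (b : G)⁻¹ * ((z b)⁻¹ * z a) := by
      have ea : (a : G) * d * (a : G)⁻¹ = v ^ (ι a : ℕ) * z a * d := by rw [← hι a]; group
      have eb : (b : G) * d * (b : G)⁻¹ = v ^ (ι b : ℕ) * z b * d := by rw [← hι b]; group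
      rw [ea, eb, hab, mul_assoc (v ^ (ι b : ℕ) * z b),
        Subgroup.mem_center_iff.mp (Subgroup.mul_mem _ (Subgroup.inv_mem _ (hz b)) (hz a)) d]
      group
    refine mem_normalizer_of_conj_mem S hx hd hdz ?_
    rw [show ((b⁻¹ * a : P) : G) * d * ((b⁻¹ * a : P) : G)⁻¹ =
      (b : G)⁻¹ * ((a : G) * d * (a : G)⁻¹) * b by push_cast; group, h1]
    rw [show (b : G)⁻¹ * ((b : G) * d * (b : G)⁻¹ * ((z b)⁻¹ * z a)) * b =
      d * ((b : G)⁻¹ * ((z b)⁻¹ * z a) * b) by group]
    refine Subgroup.mul_mem _ hd (center_le_cen x ?_)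
    have := (inferInstance : (Subgroup.center G).Normal).conj_mem _
      (Subgroup.mul_mem _ (Subgroup.inv_mem _ (hz b)) (hz a)) (b : G)⁻¹
    rwa [inv_inv] at this
  let rep : Fin p → P := fun i => if h : ∃ a, ι a = i then h.choose else 1
  have hrep : ∀ a, ι (rep (ι a)) = ι a := fun a => by
    have h : ∃ b, ι b = ι a := ⟨a, rfl⟩
    simp only [rep, dif_pos h]
    exact h.choose_spec
  have hcardP : Nat.card P ≤ p * Nat.card PN := by
    calc Nat.card P ≤ Nat.card (Fin p × PN) :=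
        Nat.card_le_card_of_surjective (fun iq => rep iq.1 * (iq.2 : P)) fun a =>
          ⟨(ι a, ⟨(rep (ι a))⁻¹ * a, hfib a _ (hrep a).symm⟩), mul_inv_cancel_left _ _⟩
      _ = p * Nat.card PN := by rw [Nat.card_prod, Nat.card_fin]
  obtain ⟨j, hj⟩ := (P.2.to_subgroup PN).exists_card_eq
  rw [P.card_eq_multiplicity, hj, ← pow_succ'] at hcardP
  have hjN : j ≤ (Nat.card N).factorization p := by
    refine (Nat.Prime.pow_dvd_iff_le_factorization hp.out Nat.card_pos.ne').mp ?_
    rw [← hj, ← Subgroup.card_map_of_injective (f := (P : Subgroup G).subtype) Subtype.val_injective]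
    exact Subgroup.card_dvd_of_le (Subgroup.map_le_iff_le_comap.mpr le_rfl)
  have h1 := (Nat.pow_le_pow_iff_right hp.out.one_lt).mp hcardP
  have h2 := congrArg (fun k => k.factorization p) N.card_mul_index
  simp only [Nat.factorization_mul Nat.card_pos.ne' Subgroup.index_ne_zero_of_finite,
    Finsupp.add_apply] at h2
  omega

end Cfsg.Agent.Lib.ClassSizes.CopNormal
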