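import Cfsg.Agent.Lib.ClassSizes.CopNormal

/-!
# Class sizes `{1, m, mn}`: the structure theorem when a `π`-element has class size `m`
-/

set_option autoImplicit false

namespace Cfsg.Agent.Lib.ClassSizes.CopPi

open Cfsg.Agent.Lib.ClassSizes.Basic Cfsg.Agent.Lib.ClassSizes.CopTools
open Cfsg.Agent.Lib.ClassSizes.CopStruct Cfsg.Agent.Lib.ClassSizes.CopTI
open Cfsg.Agent.Lib.ClassSizes.CopLocal Cfsg.Agent.Lib.ClassSizes.CopAbelian
open Cfsg.Agent.Lib.ClassSizes.CopDiv Cfsg.Agent.Lib.ClassSizes.CopNormal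
open scoped commutatorElement

variable {G : Type*} [Group G] [Finite G] {m n : ℕ}

/-- At most one prime divides the number of conjugates of `C(x)`. -/
theorem bad_unique (S : Sizes G m n) {x : G} (hx : PiM m x) {p q : ℕ} [hp : Fact p.Prime]
    [hq : Fact q.Prime] (hpq : p ≠ q)
    (hbp : p ∣ (Subgroup.normalizer (cen x : Set G)).index)
    (hbq : q ∣ (Subgroup.normalizer (cen x : Set G)).index) : False := by
  classical
  have hdiv : (Subgroup.normalizer (cen x : Set G)).index ∣ m :=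
    hx.1 ▸ Subgroup.index_dvd_of_le (Subgroup.le_normalizer (H := cen x))
  have hqm := hbq.trans hdiv
  have hpm := hbp.trans hdiv
  obtain ⟨P, Dp, v, hDx, hDP, hDc, hvP, hvm, hvp, hv, -, -, heps, hPN, -⟩ :=
    bad_data S hx hpm hbp
  obtain ⟨-, -, -, -, -, -, -, -, -, -, -, -, hepsq, -, -⟩ := bad_data S hx hqm hbq
  have hvz := S.noncentral_of_idx_eq_mn hvm
  have hxz := S.noncentral_of_idx_eq_m hx.1
  obtain ⟨u, hu, huq, huz⟩ := exists_pi_noncentral S hvz hqm
  have huv : cen u = cen v := by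
    have h1 := (S.cen_le_of_mn hvm (mem_cen.mp hu)
      ((isPEl_of_mem P.2 hvP).coprime_orderOf hp.out hq.out hpq huq)).1
    rcases S.cases_of_noncentral huz with e | e
    · exfalso
      obtain ⟨g, hg⟩ := exists_conj S hx (⟨e, q, hq.out, hqm, huq⟩ : PiM m u)
      have h2 := cen_eq S (hx.conj g) (hg ▸ h1 (self_mem_cen v)) hvz
      have h3 : idx v = idx (g * x * g⁻¹) := by simp only [idx, h2]
      rw [hvm, idx_conj, hx.1] at h3
      exact S.m_ne_mn h3.symm
    · exact (Sizes.cen_eq_of_le h1 (e.trans hvm.symm)).symm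
  have hPv : (P : Subgroup G) ≤ Subgroup.normalizer (cen v : Set G) :=
    fun a ha => mem_normalizer_cen_of_commutator (hv a ha)
  -- conjugation by `P` multiplies `u` modulo the centre by scalars
  have hrank : ∀ a : P, ∃ i : ℕ, ∃ z ∈ Subgroup.center G,
      (a : G) * u * (a : G)⁻¹ = u ^ i * z := by
    intro a
    have hy : (a : G) * u * (a : G)⁻¹ ∈ cen v :=
      (Subgroup.mem_normalizer_iff.mp (hPv a.2) u).mp hu
    have hyq : IsPEl q ((a : G) * u * (a : G)⁻¹) := by
      obtain ⟨k, hk⟩ := huq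
      exact ⟨k, by rw [conj_pow, hk]; group⟩
    obtain ⟨-, i, -, z, hz, he⟩ := rank_one (center_le_cen v)
      ((S.factorization_eq hvz hxz hq.out hqm).le.trans hepsq) hu huq huz hy hyq
      (mem_cen.mp (huv.ge hy : (a : G) * u * (a : G)⁻¹ ∈ cen u))
    exact ⟨i, z, hz, he⟩
  choose χ zc hzc hχ using hrank
  have hord : ∀ i j : ℕ, (∃ z ∈ Subgroup.center G, u ^ i = u ^ j * z) → (i : ZMod q) = j := by
    rintro i j ⟨z, hz, he⟩
    have huq' : (QuotientGroup.mk' (Subgroup.center G) u) ^ q = 1 := by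
      rw [← map_pow]
      exact (QuotientGroup.eq_one_iff _).mpr (rank_one (center_le_cen v)
        ((S.factorization_eq hvz hxz hq.out hqm).le.trans hepsq) hu huq huz hu huq rfl).1
    have hne : QuotientGroup.mk' (Subgroup.center G) u ≠ 1 :=
      fun h => huz ((QuotientGroup.eq_one_iff _).mp h)
    rw [ZMod.natCast_eq_natCast_iff, ← orderOf_eq_prime huq' hne, ← pow_eq_pow_iff_modEq,
      ← map_pow, ← map_pow, he, map_mul,
      show QuotientGroup.mk' (Subgroup.center G) z = 1 from (QuotientGroup.eq_one_iff _).mpr hz,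
      mul_one]
  set Q : Subgroup P := (cen v).subgroupOf P with hQ
  -- the scalars are `p`-th roots of unity
  have hroot : ∀ a : P, ((χ a : ℕ) : ZMod q) ^ p = 1 := by
    intro a
    have key : ∀ k : ℕ, ∃ z ∈ Subgroup.center G,
        (a : G) ^ k * u * ((a : G) ^ k)⁻¹ = u ^ (χ a ^ k) * z := by
      intro k
      induction k with
      | zero => exact ⟨1, Subgroup.one_mem _, by simp⟩
      | succ k ih =>
        obtain ⟨z, hz, he⟩ := ih
        refine ⟨zc a ^ (χ a ^ k) * z, Subgroup.mul_mem _ (Subgroup.pow_mem _ (hzc a) _) hz, ?_⟩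
        calc (a : G) ^ (k + 1) * u * ((a : G) ^ (k + 1))⁻¹
            = (a : G) * ((a : G) ^ k * u * ((a : G) ^ k)⁻¹) * (a : G)⁻¹ := by
              rw [pow_succ']; group
          _ = (a : G) * u ^ (χ a ^ k) * (a : G)⁻¹ * z := by
              rw [he, mul_assoc (a : G), mul_assoc (u ^ _),
                ← Subgroup.mem_center_iff.mp hz (a : G)⁻¹]
              group
          _ = (u ^ χ a * zc a) ^ (χ a ^ k) * z := by rw [← hχ, conj_pow]
          _ = u ^ (χ a ^ (k + 1)) * (zc a ^ (χ a ^ k) * z) := by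
              rw [(show Commute (u ^ χ a) (zc a) from
                Subgroup.mem_center_iff.mp (hzc a) _).mul_pow, ← pow_mul, ← pow_succ', mul_assoc]
    obtain ⟨z, hz, he⟩ := key p
    have hc : Commute ((a : G) ^ p) u :=
      mem_cen.mp (huv ▸ mem_cen.mpr (central_pow_comm (hv a a.2) hvp).eq.symm : (a : G) ^ p ∈ cen u)
        |>.symm
    rw [hc.eq, mul_inv_cancel_right] at he
    have h1 := hord (χ a ^ p) 1 ⟨z⁻¹, Subgroup.inv_mem _ hz, by
      rw [pow_one]
      exact eq_mul_inv_of_mul_eq he.symm⟩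
    simpa using h1
  have hfib : ∀ a b : P, ((χ a : ℕ) : ZMod q) = χ b → b⁻¹ * a ∈ Q := by
    intro a b hab
    rw [ZMod.natCast_eq_natCast_iff] at hab
    have huqz : u ^ q ∈ Subgroup.center G := (rank_one (center_le_cen v)
      ((S.factorization_eq hvz hxz hq.out hqm).le.trans hepsq) hu huq huz hu huq rfl).1
    have hmod : ∃ z ∈ Subgroup.center G, u ^ χ a = u ^ χ b * z := by
      have h0 : (QuotientGroup.mk' (Subgroup.center G) u) ^ q = 1 := by
        rw [← map_pow]; exact (QuotientGroup.eq_one_iff _).mpr huqz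
      refine ⟨(u ^ χ b)⁻¹ * u ^ χ a, (QuotientGroup.eq_one_iff _).mp ?_, (mul_inv_cancel_left _ _).symm⟩
      change QuotientGroup.mk' (Subgroup.center G) ((u ^ χ b)⁻¹ * u ^ χ a) = 1
      rw [map_mul, map_inv, map_pow, map_pow, pow_eq_pow_mod (χ a) h0,
        pow_eq_pow_mod (χ b) h0, hab, inv_mul_cancel]
    obtain ⟨z, hz, hzu⟩ := hmod
    set ζ := (zc b)⁻¹ * z * zc a with hζ
    have hζc : ζ ∈ Subgroup.center G :=
      Subgroup.mul_mem _ (Subgroup.mul_mem _ (Subgroup.inv_mem _ (hzc b)) hz) (hzc a)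
    set c : G := (b : G)⁻¹ * (a : G) with hc
    have hcz : ∀ y, Commute ζ y := fun y => (Subgroup.mem_center_iff.mp hζc y).symm
    have h2 : c * u * c⁻¹ = u * ζ := by
      calc c * u * c⁻¹ = (b : G)⁻¹ * ((a : G) * u * (a : G)⁻¹) * b := by rw [hc]; group
        _ = (b : G)⁻¹ * ((b : G) * u * (b : G)⁻¹ * ζ) * b := by
            rw [hχ a, hχ b, hzu, hζ]
            congr 2
            simp only [mul_assoc]
            rw [mul_inv_cancel_left]
        _ = u * ((b : G)⁻¹ * ζ * b) := by group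
        _ = u * ζ := by rw [(hcz _).symm.eq, mul_assoc, inv_mul_cancel, mul_one]
    have hcp : IsPEl p c :=
      isPEl_of_mem P.2 (mul_mem (inv_mem b.2) a.2)
    -- coprime orders force `ζ = 1`
    have hζ1 : ζ = 1 := by
      obtain ⟨i, hi⟩ := huq
      obtain ⟨j, hj⟩ := hcp
      have h3 : ζ ^ q ^ i = 1 := by
        have h4 : (u * ζ) ^ q ^ i = 1 := by rw [← h2, conj_pow, hi]; group
        rwa [(hcz u).symm.mul_pow, hi, one_mul] at h4
      have key : ∀ k : ℕ, c ^ k * u * (c ^ k)⁻¹ = u * ζ ^ k := by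
        intro k
        induction k with
        | zero => simp
        | succ k ih =>
          calc c ^ (k + 1) * u * (c ^ (k + 1))⁻¹ = c * (c ^ k * u * (c ^ k)⁻¹) * c⁻¹ := by
                rw [pow_succ']; group
            _ = c * u * c⁻¹ * ζ ^ k := by
                rw [ih, mul_assoc c, mul_assoc u, ((hcz c⁻¹).pow_left k).eq]; group
            _ = _ := by rw [h2, pow_succ', mul_assoc]
      have h5 := key (p ^ j)
      rw [hj, one_mul, inv_one, mul_one, left_eq_mul] at h5
      refine orderOf_eq_one_iff.mp (Nat.eq_one_of_dvd_coprimes ?_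
        (orderOf_dvd_of_pow_eq_one h3) (orderOf_dvd_of_pow_eq_one h5))
      exact ((Nat.coprime_primes hq.out hp.out).mpr (Ne.symm hpq)).pow _ _
    rw [hζ1, mul_one] at h2
    change c ∈ cen v
    rw [← huv]
    exact mem_cen.mpr (mul_inv_eq_iff_eq_mul.mp h2).symm
  -- hence `|P| ≤ p * |Dp|`
  let T := Polynomial.nthRootsFinset p (1 : ZMod q)
  let rep : ZMod q → P := fun i => if h : ∃ a, ((χ a : ℕ) : ZMod q) = i then h.choose else 1
  have hrep : ∀ a, ((χ (rep (χ a)) : ℕ) : ZMod q) = χ a := fun a => by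
    have h : ∃ b, ((χ b : ℕ) : ZMod q) = χ a := ⟨a, rfl⟩
    simp only [rep, dif_pos h]
    exact h.choose_spec
  have hT : T.card ≤ p := by
    refine le_trans ?_ (Polynomial.card_nthRoots p (1 : ZMod q))
    simp only [T, Polynomial.nthRootsFinset_def]
    exact Multiset.toFinset_card_le _
  have hcardP : Nat.card P ≤ p * Nat.card Q := by
    calc Nat.card P ≤ Nat.card (T × Q) :=
        Nat.card_le_card_of_surjective (fun iq => rep iq.1 * (iq.2 : P)) fun a =>
          ⟨(⟨χ a, (Polynomial.mem_nthRootsFinset hp.out.pos 1).mpr (hroot a)⟩,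
            ⟨(rep (χ a))⁻¹ * a, hfib a _ (hrep a).symm⟩), mul_inv_cancel_left _ _⟩
      _ = T.card * Nat.card Q := by rw [Nat.card_prod, Nat.card_eq_finsetCard]
      _ ≤ _ := Nat.mul_le_mul_right _ hT
  have hQle : Nat.card Q ≤ Nat.card Dp := by
    obtain ⟨j, hj⟩ := (P.2.to_subgroup Q).exists_card_eq
    rw [hj, hDc]
    refine Nat.pow_le_pow_right hp.out.pos ?_
    rw [← S.factorization_eq hvz hxz hp.out hpm]
    refine (Nat.Prime.pow_dvd_iff_le_factorization hp.out Nat.card_pos.ne').mp ?_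
    rw [← hj, ← Subgroup.card_map_of_injective (f := (P : Subgroup G).subtype) Subtype.val_injective]
    exact Subgroup.card_dvd_of_le (Subgroup.map_le_iff_le_comap.mpr le_rfl)
  have hnorm := le_normalizer_of_card P.2 hDP
    (hcardP.trans (Nat.mul_le_mul_left p hQle))
  obtain ⟨d, hd, hdp, hdz⟩ := exists_pi_noncentral S hxz hpm
  have hdD := mem_psub (commute_of_mem S hx) hDx (P.2.to_le hDP) hDc hd hdp
  exact hPN fun a ha => mem_normalizer_of_conj_mem S hx hd hdz
    (hDx ((Subgroup.mem_normalizer_iff.mp (hnorm ha) d).mp hdD))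

/-- `C(x)` is normal. -/
theorem normal_cen (S : Sizes G m n) {x : G} (hx : PiM m x) : (cen x).Normal := by
  rw [← Subgroup.normalizer_eq_top_iff]
  set N := Subgroup.normalizer (cen x : Set G) with hN
  by_contra hne
  have h1 : N.index ≠ 1 := fun h => hne (Subgroup.index_eq_one.mp h)
  obtain ⟨p, hp, hpd⟩ := Nat.exists_prime_and_dvd h1
  have : Fact p.Prime := ⟨hp⟩
  have hdiv : N.index ∣ m := hx.1 ▸ Subgroup.index_dvd_of_le (Subgroup.le_normalizer (H := cen x))
  have hpm := hpd.trans hdiv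
  obtain ⟨P, -, v, -, -, -, hvP, -, -, -, hvN, hvx, -, -, hfac⟩ := bad_data S hx hpm hpd
  have hc : N.index = p := by
    refine Nat.eq_of_factorization_eq Subgroup.index_ne_zero_of_finite hp.ne_zero fun l => ?_
    rw [hp.factorization, Finsupp.single_apply]
    by_cases hlp : p = l
    · subst hlp
      rw [if_pos rfl]
      have := hp.factorization_pos_of_dvd Subgroup.index_ne_zero_of_finite hpd
      rw [← hN] at hfac
      omega
    · rw [if_neg hlp]
      by_contra h0
      have hl : l.Prime := Nat.prime_of_mem_primeFactors (Nat.support_factorization N.index ▸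
        Finsupp.mem_support_iff.mpr h0)
      have : Fact l.Prime := ⟨hl⟩
      exact bad_unique S hx hlp hpd (Nat.dvd_of_factorization_pos h0)
  have h2 := dvd_index_normalizer_sub_one S hx
  rw [← hN, hc] at h2
  have h3 := dvd_sub_one_of_normalizes S hx hpm (isPEl_of_mem P.2 hvP) hvN hvx
  have := S.one_lt_n
  have := hp.one_lt
  have := Nat.le_of_dvd (by omega) h2
  have := Nat.le_of_dvd (by omega) h3
  omega

/-- `|P| ≤ p |P ∩ C(x)|` and `C(x)` has Sylow subgroups of order at most `p` modulo the centre. -/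
theorem exponents (S : Sizes G m n) {x : G} (hx : PiM m x) {p : ℕ} [hp : Fact p.Prime]
    (hpm : p ∣ m) :
    m.factorization p = 1 ∧ (Nat.card (cen x)).factorization p = zExp G p + 1 ∧
      ∃ (P : Sylow p G) (b : G), b ∈ (P : Subgroup G) ∧ b ∉ cen x ∧
        ∀ a ∈ (P : Subgroup G), ∃ i : ℕ, a * b ^ i ∈ cen x := by
  classical
  have hn := normal_cen S hx
  have hA := commute_of_mem S hx
  have hxz := S.noncentral_of_idx_eq_m hx.1
  obtain ⟨P⟩ : Nonempty (Sylow p G) := inferInstance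
  have hmfac : 1 ≤ m.factorization p := hp.out.factorization_pos_of_dvd S.m_pos.ne' hpm
  have hPx : ¬ (P : Subgroup G) ≤ cen x := fun h =>
    hxz (mem_center_of_sylow_le S hpm P h)
  obtain ⟨b, hb, hbx⟩ := SetLike.not_le_iff_exists.mp hPx
  -- an element of `P ∩ C(x)`, central in `P` modulo the centre
  obtain ⟨d, hd, hdp, hdz⟩ := exists_pi_noncentral S hxz hpm
  obtain ⟨R, hR⟩ := (hdp.isPGroup hp.out).exists_le_sylow
  obtain ⟨c, hc⟩ := MulAction.exists_smul_eq G R P
  have hdP : c * d * c⁻¹ ∈ (P : Subgroup G) := by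
    rw [← hc, Sylow.coe_subgroup_smul]
    exact Subgroup.smul_mem_pointwise_smul _ (MulAut.conj c) _ (hR (Subgroup.mem_zpowers d))
  have hncA : ¬ (P : Subgroup G) ⊓ cen x ≤ Subgroup.center G := fun h => hdz (by
    have := (inferInstance : (Subgroup.center G).Normal).conj_mem _
      (h ⟨hdP, hn.conj_mem d hd c⟩) c⁻¹
    rwa [show c⁻¹ * (c * d * c⁻¹) * c⁻¹⁻¹ = d by group] at this)
  obtain ⟨y, hy, hyz, hyp, hyc⟩ := exists_second_center P.2 (inf_le_left : (P : Subgroup G) ⊓ cen x ≤ P)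
    (fun a ha => by
      rw [Subgroup.mem_normalizer_iff]
      intro g
      constructor
      · rintro ⟨h1, h2⟩
        exact ⟨(P : Subgroup G).mul_mem ((P : Subgroup G).mul_mem ha h1)
          ((P : Subgroup G).inv_mem ha), hn.conj_mem g h2 a⟩
      · rintro ⟨h1, h2⟩
        refine ⟨?_, ?_⟩
        · have := (P : Subgroup G).mul_mem ((P : Subgroup G).mul_mem
            ((P : Subgroup G).inv_mem ha) h1) ha
          rwa [show a⁻¹ * (a * g * a⁻¹) * a = g by group] at this
        · have := hn.conj_mem _ h2 a⁻¹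
          rwa [show a⁻¹ * (a * g * a⁻¹) * a⁻¹⁻¹ = g by group] at this) hncA
  have hyx := cen_eq S hx hy.2 hyz
  have hpow : ∀ a ∈ (P : Subgroup G), a ^ p ∈ cen x := fun a ha =>
    hyx ▸ mem_cen.mpr (central_pow_comm (hyc a ha) hyp).eq.symm
  have hcomm : ∀ a ∈ (P : Subgroup G), ∀ c ∈ (P : Subgroup G), ⁅a, c⁆ ∈ cen x := by
    intro a ha c hc
    rw [← hyx]
    refine mem_cen.mpr ?_
    obtain ⟨ζ, hζ, e1⟩ : ∃ ζ ∈ Subgroup.center G, a * y * a⁻¹ = ζ * y := ⟨_, hyc a ha, by group⟩
    obtain ⟨η, hη, e2⟩ : ∃ η ∈ Subgroup.center G, c * y * c⁻¹ = η * y := ⟨_, hyc c hc, by group⟩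
    have hζc : ∀ g, g * ζ = ζ * g := Subgroup.mem_center_iff.mp hζ
    have hηc : ∀ g, g * η = η * g := Subgroup.mem_center_iff.mp hη
    have e3 : (c * a) * y * (c * a)⁻¹ = ζ * η * y := by
      calc (c * a) * y * (c * a)⁻¹ = c * (a * y * a⁻¹) * c⁻¹ := by group
        _ = ζ * (c * y * c⁻¹) := by rw [e1, ← mul_assoc c, hζc c]; group
        _ = _ := by rw [e2, mul_assoc]
    have e4 : (a * c) * y * (a * c)⁻¹ = ζ * η * y := by
      calc (a * c) * y * (a * c)⁻¹ = a * (c * y * c⁻¹) * a⁻¹ := by group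
        _ = η * (a * y * a⁻¹) := by rw [e2, ← mul_assoc a, hηc a]; group
        _ = _ := by rw [e1, ← mul_assoc, hζc η]
    have e5 : ⁅a, c⁆ * (ζ * η * y) * ⁅a, c⁆⁻¹ = ζ * η * y := by
      calc ⁅a, c⁆ * (ζ * η * y) * ⁅a, c⁆⁻¹ = ⁅a, c⁆ * ((c * a) * y * (c * a)⁻¹) * ⁅a, c⁆⁻¹ := by
            rw [e3]
        _ = (a * c) * y * (a * c)⁻¹ := by rw [commutatorElement_def]; group
        _ = _ := e4
    have h := mul_inv_eq_iff_eq_mul.mp e5
    rw [← mul_assoc ⁅a, c⁆, Subgroup.mem_center_iff.mp (Subgroup.mul_mem _ hζ hη) ⁅a, c⁆,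
      mul_assoc, mul_assoc (ζ * η)] at h
    exact (mul_left_cancel h).symm
  obtain ⟨r, hr, hrn⟩ := exists_r S
  have : Fact r.Prime := ⟨hr⟩
  have hrm : ¬ r ∣ m := fun h => S.not_dvd_n hr h hrn
  obtain ⟨R, hR⟩ := exists_sylow_le (show ¬ r ∣ (Subgroup.centralizer ({x} : Set G)).index by
    rw [show (Subgroup.centralizer ({x} : Set G)).index = m from hx.1]; exact hrm)
  obtain ⟨h, hhR, hhz⟩ := SetLike.not_le_iff_exists.mp (noncentral_sylow S hrn R)
  have hnN : ∀ g : G, g ∈ Subgroup.normalizer (cen x : Set G) :=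
    fun g => (Subgroup.normalizer_eq_top_iff.mpr hn).symm ▸ Subgroup.mem_top g
  have hgen : ∀ a ∈ (P : Subgroup G), ∃ i : ℕ, a * b ^ i ∈ cen x := by
    intro a ha
    by_contra hcon
    push Not at hcon
    have hout : ∀ g, g ∉ cen x → ∀ z ∈ cen x, Commute g z → z ∈ Subgroup.center G := by
      intro g hg z hz hgz
      by_contra hzz
      exact hg (cen_eq S hx hz hzz ▸ mem_cen.mpr hgz.eq.symm)
    have hcx : ∀ g ∈ cen x, g ∈ Subgroup.centralizer (cen x : Set G) := fun g hg =>
      Subgroup.mem_centralizer_iff.mpr fun z hz => hA z hz g hg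
    exact hhz (fpf_elementary (p := p) hA (hnN a) (hnN b) (hcx _ (hpow a ha)) (hcx _ (hpow b hb))
      (hcx _ (hcomm a ha b hb)) (hout b hbx) (fun i => hout _ (hcon i)) (hR hhR)
      ((isPEl_of_mem R.2 hhR).coprime hr ((Nat.coprime_primes hr hp.out).mpr
        (ne_of_dvd S hp.out hpm hrn).symm)))
  have hm1 : m.factorization p ≤ 1 := by
    set W := (cen x).subgroupOf (P : Subgroup G) with hW
    have hcardP : Nat.card P ≤ p * Nat.card W := by
      calc Nat.card P ≤ Nat.card (Fin p × W) :=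
          Nat.card_le_card_of_surjective
            (fun iw => ((⟨b, hb⟩ : P) ^ (iw.1 : ℕ))⁻¹ * (iw.2 : P)) fun a => by
              obtain ⟨i, hi⟩ := hgen a a.2
              refine ⟨(⟨i % p, Nat.mod_lt _ hp.out.pos⟩,
                ⟨(⟨b, hb⟩ : P) ^ (i % p) * a, ?_⟩), inv_mul_cancel_left _ _⟩
              change b ^ (i % p) * (a : G) ∈ cen x
              have h1 : b ^ i * (a : G) ∈ cen x := by
                have := hn.conj_mem _ hi (b ^ i)
                rwa [show b ^ i * ((a : G) * b ^ i) * (b ^ i)⁻¹ = b ^ i * a by group] at this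
              rw [← Nat.mod_add_div i p, add_comm, pow_add, pow_mul, mul_assoc] at h1
              exact (Subgroup.mul_mem_cancel_left _ (Subgroup.pow_mem _ (hpow b hb) _)).mp h1
        _ = p * Nat.card W := by rw [Nat.card_prod, Nat.card_fin]
    obtain ⟨j, hj⟩ := (P.2.to_subgroup W).exists_card_eq
    rw [P.card_eq_multiplicity, hj, ← pow_succ'] at hcardP
    have h1 := (Nat.pow_le_pow_iff_right hp.out.one_lt).mp hcardP
    have h2 : j ≤ (Nat.card (cen x)).factorization p := by
      refine (Nat.Prime.pow_dvd_iff_le_factorization hp.out Nat.card_pos.ne').mp ?_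
      rw [← hj, ← Subgroup.card_map_of_injective (f := (P : Subgroup G).subtype)
        Subtype.val_injective]
      exact Subgroup.card_dvd_of_le (Subgroup.map_le_iff_le_comap.mpr le_rfl)
    have h3 := S.cen_factorization hxz (S.not_dvd_n hp.out hpm)
    omega
  refine ⟨le_antisymm hm1 hmfac, ?_, P, b, hb, hbx, hgen⟩
  have hbz : b ∉ Subgroup.center G := fun h => hbx (center_le_cen x h)
  refine le_antisymm ?_ ?_
  · -- `C(b) ∩ C(x) = Z(G)` and the image in `G / C(x)` has order at most `p`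
    rw [S.factorization_eq hxz hbz hp.out hpm]
    have hle : cen b ⊓ cen x ≤ Subgroup.center G := by
      rintro g ⟨hg1, hg2⟩
      by_contra hgz
      exact hbx (cen_eq S hx hg2 hgz ▸ mem_cen_comm.mp hg1)
    have hrel : (cen x).relIndex (cen b) ∣ (cen x).index := Subgroup.relIndex_dvd_index_of_normal _ _
    rw [show (cen x).index = m from hx.1] at hrel
    have hcard : Nat.card (cen b) = Nat.card (cen b ⊓ cen x : Subgroup G) *
        (cen x).relIndex (cen b) := by
      rw [Subgroup.relIndex, ← Nat.card_congr (Subgroup.subgroupOfEquivOfLe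
        (inf_le_left : cen b ⊓ cen x ≤ cen b)).toEquiv, Subgroup.inf_subgroupOf_left,
        Subgroup.card_mul_index]
    rw [hcard, Nat.factorization_mul Nat.card_pos.ne'
      (fun h => Nat.card_pos.ne' (hcard.trans (by rw [h, mul_zero]))), Finsupp.add_apply]
    have h1 := (Nat.factorization_le_iff_dvd Nat.card_pos.ne' Nat.card_pos.ne').mpr
      (Subgroup.card_dvd_of_le hle) p
    have h2 := (Nat.factorization_le_iff_dvd (fun h => Nat.card_pos.ne'
      (hcard.trans (by rw [h, mul_zero]))) S.m_pos.ne').mpr hrel p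
    have h3 := hm1
    change _ ≤ zExp G p + 1
    simp only [zExp]
    omega
  · by_contra hlt
    obtain ⟨Q, hQ, hQp, hQc⟩ := exists_psub (p := p) (cen x)
    obtain ⟨Zp, hZ, hZp, hZc⟩ := exists_psub (p := p) (Subgroup.center G)
    have hdQ := mem_psub hA hQ hQp hQc hd hdp
    have hZQ : Zp ≤ Q := fun z hz =>
      mem_psub hA hQ hQp hQc (center_le_cen x (hZ hz)) (isPEl_of_mem hZp hz)
    have heq : Zp = Q := Subgroup.eq_of_le_of_card_ge hZQ (by
      rw [hQc, hZc]
      exact Nat.pow_le_pow_right hp.out.pos (by simp only [zExp] at hlt; omega))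
    exact hdz (hZ (heq ▸ hdQ))

end Cfsg.Agent.Lib.ClassSizes.CopPi
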