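import Cfsg.Agent.Lib.ClassSizes.CopTools

/-!
# Class sizes `{1, m, mn}`: centralizers of primary elements of class size `m`

Let `x` be an element of `π`-power order (`π` the primes of `m`) with class of size `m` and
`D = C(x)`. The primary `π`-elements of `D` are central in `D`, the noncentral ones have
centralizer `D`, every element of class size `m` has a conjugate of `D` as centralizer, and
distinct conjugates of `D` meet in the centre.
-/

set_option autoImplicit false

namespace Cfsg.Agent.Lib.ClassSizes.CopStruct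

open Cfsg.Agent.Lib.ClassSizes.Basic Cfsg.Agent.Lib.ClassSizes.CopTools

variable {G : Type*} [Group G] [Finite G] {m n : ℕ}

/-- An element of `p`-power order, `p ∣ m`, with class of size `m`. -/
def PiM (m : ℕ) (x : G) : Prop := idx x = m ∧ ∃ p : ℕ, p.Prime ∧ p ∣ m ∧ IsPEl p x

theorem exists_r (S : Sizes G m n) : ∃ r : ℕ, r.Prime ∧ r ∣ n :=
  Nat.exists_prime_and_dvd (by have := S.one_lt_n; omega)

theorem ne_of_dvd (S : Sizes G m n) {p r : ℕ} (hp : p.Prime) (hpm : p ∣ m) (hr : r ∣ n) : p ≠ r :=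
  fun h => S.not_dvd_n hp hpm (h ▸ hr)

/-- A Sylow subgroup for a prime of `n` lies in some conjugate of a centralizer of index `m`. -/
theorem exists_conj_sylow_le (S : Sizes G m n) {x : G} (hx : idx x = m) {r : ℕ} [Fact r.Prime]
    (hr : ¬ r ∣ m) (R : Sylow r G) : ∃ g : G, (R : Subgroup G) ≤ cen (g * x * g⁻¹) := by
  obtain ⟨R₀, hR₀⟩ := exists_sylow_le (show ¬ r ∣ (Subgroup.centralizer ({x} : Set G)).index by
    rw [show (Subgroup.centralizer ({x} : Set G)).index = m from hx]; exact hr)
  obtain ⟨c, hc⟩ := MulAction.exists_smul_eq G R₀ R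
  refine ⟨c, fun a ha => mem_cen_conj.mpr (hR₀ ?_)⟩
  rw [← hc, Sylow.coe_subgroup_smul, Subgroup.mem_pointwise_smul_iff_inv_smul_mem,
    MulAut.smul_def, MulAut.conj_inv_apply] at ha
  exact ha

theorem cen_conj_eq_map (g x : G) :
    cen (g * x * g⁻¹) = (cen x).map (MulAut.conj g).toMonoidHom := by
  ext y
  rw [Subgroup.mem_map_equiv, MulAut.conj_symm_apply, mem_cen_conj]

theorem idx_conj (g x : G) : idx (g * x * g⁻¹) = idx x := by
  change (cen (g * x * g⁻¹)).index = (cen x).index
  rw [cen_conj_eq_map]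
  exact Subgroup.index_map_of_bijective (MulAut.conj g).bijective _

theorem PiM.conj {x : G} (h : PiM m x) (g : G) : PiM m (g * x * g⁻¹) := by
  obtain ⟨hx, p, hp, hpm, k, hk⟩ := h
  refine ⟨(idx_conj g x).trans hx, p, hp, hpm, k, ?_⟩
  rw [conj_pow, hk]
  group

theorem noncentral_sylow (S : Sizes G m n) {r : ℕ} [Fact r.Prime] (hr : r ∣ n) (R : Sylow r G) :
    ¬ (R : Subgroup G) ≤ Subgroup.center G := by
  obtain ⟨y, hy⟩ := S.exists_mn
  exact (exists_dvd_iff R).mp ⟨y, by
    rw [show (Subgroup.centralizer ({y} : Set G)).index = m * n from hy]; exact hr.mul_left m⟩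

/-- Each centralizer of a noncentral element has a noncentral `q`-element, `q ∣ m`. -/
theorem exists_pi_noncentral (S : Sizes G m n) {y : G} (hy : y ∉ Subgroup.center G) {q : ℕ}
    [hq : Fact q.Prime] (hqm : q ∣ m) : ∃ u ∈ cen y, IsPEl q u ∧ u ∉ Subgroup.center G := by
  obtain ⟨w, hw, hwz⟩ := S.exists_noncentral_pel (p := q) (hqm.mul_right n)
  exact exists_noncentral_of_card (center_le_cen w) (S.factorization_eq hwz hy hq.out hqm).le
    (self_mem_cen w) hw hwz

/-- For a `p`-element `x` of class size `m` and `q ∣ m`, the Sylow `q`-subgroup of `C(x)` is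
normal and commutes with the `q'`-elements. -/
theorem exists_part (S : Sizes G m n) {p : ℕ} [hp : Fact p.Prime] (hpm : p ∣ m) {x : G}
    (hx : idx x = m) (hxp : IsPEl p x) {q : ℕ} [hq : Fact q.Prime] (hqm : q ∣ m) :
    ∃ Q : Subgroup G, Q ≤ cen x ∧ IsPGroup q Q ∧
      Nat.card Q = q ^ (Nat.card (cen x)).factorization q ∧
      (∀ u ∈ cen x, IsPEl q u → u ∈ Q) ∧
      (∀ u ∈ Q, ∀ w ∈ cen x, (orderOf w).Coprime q → Commute u w) ∧
      cen x ≤ Subgroup.normalizer (Q : Set G) := by
  have hxz := S.noncentral_of_idx_eq_m hx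
  -- the case `q = p`
  have base : ∀ (r : ℕ) [Fact r.Prime], r ∣ m → ∀ w ∈ cen x, (orderOf w).Coprime p →
      ∃ T : Subgroup G, T ≤ cen x ∧ T ≤ cen w ∧ IsPGroup r T ∧
        Nat.card T = r ^ (Nat.card (cen x)).factorization r := by
    intro r hr hrm w hw hcop
    have e := cen_mul_eq (a := x) (b := w) (mem_cen.mp hw) (hxp.coprime hp.out hcop.symm)
    have hxw : x * w ∉ Subgroup.center G := fun h => hxz (cen_eq_top_iff.mp (top_unique
      ((cen_eq_top_iff.mpr h).ge.trans (e.le.trans inf_le_left))))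
    obtain ⟨T, hT, hTp, hTc⟩ := exists_psub (p := r) (cen (x * w))
    refine ⟨T, hT.trans (e.le.trans inf_le_left), hT.trans (e.le.trans inf_le_right), hTp, ?_⟩
    rw [hTc, S.factorization_eq hxw hxz hr.out hrm]
  obtain ⟨P, hPD, hPp, hPc, hPall, hPcomm, -⟩ := commute_of_centralizes_sylow (p := p) (cen x)
    fun w hw hcop => by
      obtain ⟨T, h1, h2, -, h3⟩ := base p hpm w hw hcop
      exact ⟨T, h1, h2, h3⟩
  refine commute_of_centralizes_sylow (p := q) (cen x) fun w hw hcop => ?_
  obtain ⟨u, s, hu, hs, hwus, huk, hscop⟩ := Lib.Elem70.exists_primary_split hp.out w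
  by_cases hqp : q = p
  · subst hqp
    obtain ⟨T, h1, h2, -, h3⟩ := base q hpm w hw hcop
    exact ⟨T, h1, h2, h3⟩
  obtain ⟨T, hTx, hTs, hTp, hTc⟩ := base q hqm s (mem_of_mem_zpowers hs hw) hscop
  refine ⟨T, hTx, fun a ha => ?_, hTc⟩
  have hau : Commute u a := hPcomm u (hPall u (mem_of_mem_zpowers hu hw) huk) a (hTx ha)
    ((isPEl_of_mem hTp ha).coprime hq.out ((Nat.coprime_primes hq.out hp.out).mpr hqp))
  have has : Commute s a := mem_cen.mp (hTs ha)
  rw [hwus]
  exact mem_cen.mpr (hau.mul_left has).eq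

/-- The primary `π`-elements of `C(x)` that are noncentral in `G` have the same centralizer
as `x`. -/
theorem cen_eq_of_mem_pi (S : Sizes G m n) {x : G} (hx : PiM m x) {q : ℕ} [hq : Fact q.Prime]
    (hqm : q ∣ m) {u : G} (hu : u ∈ cen x) (huq : IsPEl q u) (huz : u ∉ Subgroup.center G) :
    cen u = cen x := by
  classical
  obtain ⟨hxm, p, hp, hpm, hxp⟩ := hx
  have : Fact p.Prime := ⟨hp⟩
  obtain ⟨r, hr, hrn⟩ := exists_r S
  have : Fact r.Prime := ⟨hr⟩
  have hrm : ¬ r ∣ m := fun h => S.not_dvd_n hr h hrn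
  obtain ⟨Q, hQx, hQp, hQc, hQall, hQcomm, hQnorm⟩ := exists_part S hpm hxm hxp hqm
  obtain ⟨R, hR⟩ := exists_sylow_le (show ¬ r ∣ (Subgroup.centralizer ({x} : Set G)).index by
    rw [show (Subgroup.centralizer ({x} : Set G)).index = m from hxm]; exact hrm)
  have hcopr : ∀ a ∈ (R : Subgroup G), (orderOf a).Coprime q := fun a ha =>
    (isPEl_of_mem R.2 ha).coprime hr ((Nat.coprime_primes hr hq.out).mpr
      (ne_of_dvd S hq.out hqm hrn).symm)
  have hRu : (R : Subgroup G) ≤ cen u := fun a ha =>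
    mem_cen.mpr (hQcomm u (hQall u hu huq) a (hR ha) (hcopr a ha)).eq
  have hum : idx u = m := S.idx_eq_m huz hrn (not_dvd_of_sylow_le R hRu)
  obtain ⟨Q', hQ'u, hQ'p, hQ'c, hQ'all, hQ'comm, -⟩ := exists_part S hqm hum huq hqm
  have hfac := S.factorization_eq huz (S.noncentral_of_idx_eq_m hxm) hq.out hqm
  suffices hsub : Q' ≤ Q by
    have hQQ : Q = Q' := (Subgroup.eq_of_le_of_card_ge hsub (by rw [hQc, hQ'c, hfac])).symm
    refine (Sizes.cen_eq_of_le (fun d hd => ?_) (hum.trans hxm.symm)).symm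
    obtain ⟨a, b, ha, hb, hdab, hak, hbcop⟩ := Lib.Elem70.exists_primary_split hq.out d
    have haQ : a ∈ Q := hQall a (mem_of_mem_zpowers ha hd) hak
    have hua : Commute u a := mem_cen.mp (hQ'u (hQQ ▸ haQ))
    have hub : Commute u b := hQcomm u (hQall u hu huq) b (mem_of_mem_zpowers hb hd) hbcop
    rw [hdab]
    exact mem_cen.mpr (hua.mul_right hub).eq
  by_cases hqp : q = p
  · subst hqp
    obtain ⟨F, hFx, hFcop, hFcard, hFall⟩ := exists_complement hQx hQp hQc hQcomm hQnorm
    have hFc : ∀ f ∈ F, (orderOf f).Coprime q := fun f hf =>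
      hFcop.coprime_dvd_left (Subgroup.orderOf_mk f hf ▸ orderOf_dvd_natCard _)
    have hRF : (R : Subgroup G) ≤ F := fun a ha => hFall a (hR ha) (hcopr a ha)
    obtain ⟨w, hwR, hwz⟩ := SetLike.not_le_iff_exists.mp (noncentral_sylow S hrn R)
    set X := Subgroup.centralizer (F : Set G) with hX
    have hXmem : ∀ k, k ∈ X ↔ ∀ f ∈ F, f * k = k * f := fun k => Subgroup.mem_centralizer_iff
    have hQX : Q ≤ X := fun a ha => (hXmem a).mpr fun f hf =>
      (hQcomm a ha f (hFx hf) (hFc f hf)).eq.symm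
    have hQ'X : Q' ≤ X := fun a ha => (hXmem a).mpr fun f hf =>
      (hQ'comm a ha f (mem_cen.mpr (hQcomm u (hQall u hu huq) f (hFx hf) (hFc f hf)).eq)
        (hFc f hf)).eq.symm
    have hXw : X ≤ cen w := fun k hk => mem_cen.mpr ((hXmem k).mp hk w (hRF hwR))
    have hXp : (Nat.card X).factorization q ≤ (Nat.card (cen x)).factorization q := by
      rw [← S.factorization_eq hwz (S.noncentral_of_idx_eq_m hxm) hq.out hqm]
      exact (Nat.factorization_le_iff_dvd Nat.card_pos.ne' Nat.card_pos.ne').mpr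
        (Subgroup.card_dvd_of_le hXw) q
    -- the `q'`-elements of `X` lie in `C(x)`
    have hk : ∀ k ∈ X, (orderOf k).Coprime q → k ∈ cen x := by
      intro k hk hkc
      by_cases hkz : k ∈ Subgroup.center G
      · exact center_le_cen x hkz
      have hkcomm := (hXmem k).mp hk
      have hFk : F ≤ cen k := fun f hf => mem_cen.mpr (hkcomm f hf).symm
      have hkm : idx k = m := S.idx_eq_m hkz hrn (not_dvd_of_sylow_le R (hRF.trans hFk))
      have hsupcop : (Nat.card (F ⊔ Subgroup.zpowers k : Subgroup G)).Coprime q := by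
        rw [Nat.coprime_comm, hq.out.coprime_iff_not_dvd]
        intro hd
        obtain ⟨⟨y, hy⟩, hyq⟩ := exists_prime_orderOf_dvd_card' q hd
        rw [Subgroup.orderOf_mk] at hyq
        have hnorm : F ≤ Subgroup.normalizer (Subgroup.zpowers k : Set G) := by
          refine le_trans ?_ (Subgroup.centralizer_le_normalizer _)
          intro f hf
          refine Subgroup.mem_centralizer_iff.mpr ?_
          rintro _ ⟨i, rfl⟩
          exact ((show Commute k f from (hkcomm f hf).symm).zpow_left i).eq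
        rw [← SetLike.mem_coe, Subgroup.coe_mul_of_left_le_normalizer_right _ _ hnorm] at hy
        obtain ⟨f, hf, b, ⟨i, rfl⟩, rfl⟩ := hy
        have hc : Commute f (k ^ i) := (show Commute f k from hkcomm f hf).zpow_right i
        have h1 : orderOf (f * k ^ i) ∣ Nat.lcm (orderOf f) (orderOf (k ^ i)) :=
          hc.orderOf_mul_dvd_lcm
        have h2 : (Nat.lcm (orderOf f) (orderOf (k ^ i))).Coprime q :=
          Nat.Coprime.coprime_dvd_left (Nat.lcm_dvd_mul _ _) (Nat.Coprime.mul_left (hFc f hf)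
            (hkc.coprime_dvd_left (orderOf_dvd_of_mem_zpowers ⟨i, rfl⟩)))
        rw [hyq] at h1
        exact hq.out.one_lt.ne' (Nat.eq_one_of_dvd_coprimes h2 h1 (dvd_refl q))
      have hcardk : Nat.card (cen k) = Nat.card F * Nat.card Q := by
        rw [hFcard]
        refine Nat.eq_of_mul_eq_mul_right S.m_pos ?_
        have h1 := (cen k).card_mul_index
        have h2 := (cen x).card_mul_index
        rw [show (cen k).index = m from hkm] at h1
        rw [show (cen x).index = m from hxm] at h2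
        exact h1.trans h2.symm
      have hd : Nat.card (F ⊔ Subgroup.zpowers k : Subgroup G) ∣ Nat.card F := by
        refine (Nat.Coprime.dvd_mul_right ?_).mp (hcardk ▸ Subgroup.card_dvd_of_le
          (sup_le hFk (Subgroup.zpowers_le.mpr (self_mem_cen k))))
        rw [hQc]
        exact Nat.Coprime.pow_right _ hsupcop
      have heq : F = F ⊔ Subgroup.zpowers k :=
        Subgroup.eq_of_le_of_card_ge le_sup_left (Nat.le_of_dvd Nat.card_pos hd)
      exact hFx (heq ▸ (Subgroup.mem_sup_right (Subgroup.mem_zpowers k) :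
        k ∈ F ⊔ Subgroup.zpowers k))
    -- so `Q` is normal in `X`
    have hXN : X ≤ Subgroup.normalizer (Q : Set G) := by
      have hd : Nat.card X ∣ Nat.card (Subgroup.normalizer (Q : Set G) ⊓ X : Subgroup G) := by
        rw [Nat.dvd_iff_prime_pow_dvd_dvd]
        intro l e hl hle
        have : Fact l.Prime := ⟨hl⟩
        obtain ⟨L, hLX, hLp, hLc⟩ := exists_psub (p := l) X
        have he : l ^ e ∣ l ^ (Nat.card X).factorization l := pow_dvd_pow l
          ((Nat.Prime.pow_dvd_iff_le_factorization hl Nat.card_pos.ne').mp hle)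
        by_cases hlq : l = q
        · subst hlq
          refine he.trans ((pow_dvd_pow l hXp).trans ?_)
          rw [← hQc]
          exact Subgroup.card_dvd_of_le (le_inf Subgroup.le_normalizer hQX)
        · refine he.trans ?_
          rw [← hLc]
          refine Subgroup.card_dvd_of_le (le_inf (fun a ha => hQnorm (hk a (hLX ha) ?_)) hLX)
          exact (isPEl_of_mem hLp ha).coprime hl ((Nat.coprime_primes hl hq.out).mpr hlq)
      exact (inf_eq_right.mp (Subgroup.eq_of_le_of_card_ge inf_le_right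
        (Nat.le_of_dvd Nat.card_pos hd)))
    intro a ha
    have h1 : IsPGroup q (Q' ⊔ Q : Subgroup G) :=
      IsPGroup.to_sup_of_normal_right' hQ'p hQp (hQ'X.trans hXN)
    obtain ⟨j, hj⟩ := h1.exists_card_eq
    have hjle : j ≤ (Nat.card X).factorization q :=
      (Nat.Prime.pow_dvd_iff_le_factorization hq.out Nat.card_pos.ne').mp
        (hj ▸ Subgroup.card_dvd_of_le (sup_le hQ'X hQX))
    have heq : Q = Q' ⊔ Q := Subgroup.eq_of_le_of_card_ge le_sup_right (by
      rw [hj, hQc]
      exact Nat.pow_le_pow_right hq.out.pos (hjle.trans hXp))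
    exact heq ▸ (Subgroup.mem_sup_left ha : a ∈ Q' ⊔ Q)
  · intro a ha
    have hax : Commute a x := hQ'comm a ha x (mem_cen.mpr (mem_cen.mp hu).symm)
      (hxp.coprime hp ((Nat.coprime_primes hp hq.out).mpr (Ne.symm hqp)))
    exact hQall a (mem_cen.mpr hax.eq.symm) (isPEl_of_mem hQ'p ha)

/-- The primary `π`-elements of `C(x)` are central in `C(x)`. -/
theorem commute_of_mem_pi (S : Sizes G m n) {x : G} (hx : PiM m x) {q : ℕ} [Fact q.Prime]
    (hqm : q ∣ m) {u : G} (hu : u ∈ cen x) (huq : IsPEl q u) : cen x ≤ cen u := by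
  by_cases huz : u ∈ Subgroup.center G
  · rw [cen_eq_top_iff.mpr huz]; exact le_top
  · exact (cen_eq_of_mem_pi S hx hqm hu huq huz).ge

end Cfsg.Agent.Lib.ClassSizes.CopStruct
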