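import Cfsg.Agent.Lib.ClassSizes.CopStruct

/-!
# Class sizes `{1, m, mn}`: the centralizers of index `m` form one class of TI subgroups
-/

set_option autoImplicit false

namespace Cfsg.Agent.Lib.ClassSizes.CopTI

open Cfsg.Agent.Lib.ClassSizes.Basic Cfsg.Agent.Lib.ClassSizes.CopTools
open Cfsg.Agent.Lib.ClassSizes.CopStruct

variable {G : Type*} [Group G] [Finite G] {m n : ℕ}

/-- Orders of a `PiM` element and of an element of prime power order for a prime outside `m`
are coprime. -/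
theorem coprime_of_piM {x y : G} (hx : PiM m x) {l : ℕ} (hl : l.Prime) (hlm : ¬ l ∣ m)
    (hy : IsPEl l y) : (orderOf x).Coprime (orderOf y) := by
  obtain ⟨-, p, hp, hpm, hxp⟩ := hx
  exact hxp.coprime_orderOf hp hl (fun h => hlm (h ▸ hpm)) hy

theorem cen_eq_of_commute (S : Sizes G m n) {x y : G} (hx : PiM m x) {l : ℕ} (hl : l.Prime)
    (hlm : ¬ l ∣ m) (hy : IsPEl l y) (hyz : y ∉ Subgroup.center G) (hc : Commute x y) {r : ℕ}
    [hr : Fact r.Prime] (hrn : r ∣ n) (R : Sylow r G) (hRx : (R : Subgroup G) ≤ cen x)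
    (hRy : (R : Subgroup G) ≤ cen y) : cen y = cen x := by
  have e := cen_mul_eq hc (coprime_of_piM hx hl hlm hy)
  have hxz := S.noncentral_of_idx_eq_m hx.1
  have hxyz : x * y ∉ Subgroup.center G := fun h => hxz (cen_eq_top_iff.mp (top_unique
    ((cen_eq_top_iff.mpr h).ge.trans (e.le.trans inf_le_left))))
  have h1 : idx (x * y) = m :=
    S.idx_eq_m hxyz hrn (not_dvd_of_sylow_le R ((le_inf hRx hRy).trans e.ge))
  have h2 : cen (x * y) = cen x :=
    Sizes.cen_eq_of_le (e.le.trans inf_le_left) (hx.1.trans h1.symm)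
  have h3 : cen x ≤ cen y := h2 ▸ e.le.trans inf_le_right
  exact (Sizes.cen_eq_of_le h3
    ((S.idx_eq_m hyz hrn (not_dvd_of_sylow_le R hRy)).trans hx.1.symm)).symm

/-- A Sylow subgroup for a prime of `n` has a noncentral element centralising it, or all its
noncentral elements have classes of size `m * n`. -/
theorem sylow_cases (S : Sizes G m n) {r : ℕ} [hr : Fact r.Prime] (hrn : r ∣ n) (R : Sylow r G) :
    (∃ b ∈ (R : Subgroup G), b ∉ Subgroup.center G ∧ (R : Subgroup G) ≤ cen b) ∨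
      ∀ w ∈ (R : Subgroup G), w ∉ Subgroup.center G → idx w = m * n := by
  by_cases h : ∀ w ∈ (R : Subgroup G), w ∉ Subgroup.center G → idx w = m * n
  · exact Or.inr h
  push Not at h
  obtain ⟨w, hwR, hwz, hw⟩ := h
  have hwm : idx w = m := (S.cases_of_noncentral hwz).resolve_right hw
  obtain ⟨R', hR'⟩ := exists_sylow_le (show ¬ r ∣ (Subgroup.centralizer ({w} : Set G)).index by
    rw [show (Subgroup.centralizer ({w} : Set G)).index = m from hwm]
    exact fun hd => S.not_dvd_n hr.out hd hrn)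
  have hwR' := mem_sylow_of_centralizes R' (isPEl_of_mem R.2 hwR) hR'
  obtain ⟨c, hc⟩ := MulAction.exists_smul_eq G R' R
  have hmem : ∀ a, a ∈ (R : Subgroup G) ↔ c⁻¹ * a * c ∈ (R' : Subgroup G) := fun a => by
    rw [← hc, Sylow.coe_subgroup_smul, Subgroup.mem_pointwise_smul_iff_inv_smul_mem,
      MulAut.smul_def, MulAut.conj_inv_apply]
  refine Or.inl ⟨c * w * c⁻¹, (hmem _).mpr ?_, fun hz => hwz ?_,
    fun a ha => mem_cen_conj.mpr (hR' ((hmem a).mp ha))⟩
  · rw [show c⁻¹ * (c * w * c⁻¹) * c = w by group]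
    exact hwR'
  · have := (inferInstance : (Subgroup.center G).Normal).conj_mem _ hz c⁻¹
    rwa [show c⁻¹ * (c * w * c⁻¹) * c⁻¹⁻¹ = w by group] at this

/-- Two centralizers of `PiM` elements containing a common Sylow subgroup for a prime of `n`
coincide. -/
theorem cen_eq_of_sylow (S : Sizes G m n) {x u : G} (hx : PiM m x) (hu : PiM m u) {r : ℕ}
    [hr : Fact r.Prime] (hrn : r ∣ n) (R : Sylow r G) (hRx : (R : Subgroup G) ≤ cen x)
    (hRu : (R : Subgroup G) ≤ cen u) : cen x = cen u := by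
  have hrm : ¬ r ∣ m := fun h => S.not_dvd_n hr.out h hrn
  rcases sylow_cases S hrn R with ⟨b, hbR, hbz, hRb⟩ | h
  · have h1 := cen_eq_of_commute S hx hr.out hrm (isPEl_of_mem R.2 hbR) hbz
      (mem_cen.mp (hRx hbR)) hrn R hRx hRb
    have h2 := cen_eq_of_commute S hu hr.out hrm (isPEl_of_mem R.2 hbR) hbz
      (mem_cen.mp (hRu hbR)) hrn R hRu hRb
    exact h1.symm.trans h2
  · obtain ⟨w, hwR, hwz⟩ := SetLike.not_le_iff_exists.mp (noncentral_sylow S hrn R)
    have hwp := isPEl_of_mem R.2 hwR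
    have hle : ∀ {v : G}, PiM m v → (R : Subgroup G) ≤ cen v → cen w ≤ cen v := fun hv hR =>
      (S.cen_le_of_mn (h w hwR hwz) (mem_cen.mp (hR hwR)).symm
        (coprime_of_piM hv hr.out hrm hwp).symm).1
    obtain ⟨p, hp, hpm⟩ := Nat.exists_prime_and_dvd (show m ≠ 1 by have := S.one_lt_m; omega)
    have : Fact p.Prime := ⟨hp⟩
    obtain ⟨z, hz, hzp, hzz⟩ := exists_pi_noncentral S hwz hpm
    exact (cen_eq_of_mem_pi S hx hpm (hle hx hRx hz) hzp hzz).symm.trans
      (cen_eq_of_mem_pi S hu hpm (hle hu hRu hz) hzp hzz)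

/-- All centralizers of `PiM` elements are conjugate. -/
theorem exists_conj (S : Sizes G m n) {x u : G} (hx : PiM m x) (hu : PiM m u) :
    ∃ g : G, cen u = cen (g * x * g⁻¹) := by
  obtain ⟨r, hr, hrn⟩ := exists_r S
  have : Fact r.Prime := ⟨hr⟩
  have hrm : ¬ r ∣ m := fun h => S.not_dvd_n hr h hrn
  obtain ⟨R, hR⟩ := exists_sylow_le (show ¬ r ∣ (Subgroup.centralizer ({u} : Set G)).index by
    rw [show (Subgroup.centralizer ({u} : Set G)).index = m from hu.1]; exact hrm)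
  obtain ⟨g, hg⟩ := exists_conj_sylow_le S hx.1 hrm R
  exact ⟨g, cen_eq_of_sylow S hu (hx.conj g) hrn R hR hg⟩

/-- Every element with class of size `m` has the centralizer of a `PiM` element. -/
theorem exists_piM_cen (S : Sizes G m n) {x : G} (hx : PiM m x) {y : G} (hy : idx y = m) :
    ∃ u : G, PiM m u ∧ cen u = cen y := by
  obtain ⟨l, v, hl, hvy, hvz, hvl⟩ := exists_primary_notMem (S.noncentral_of_idx_eq_m hy)
  have hle : cen y ≤ cen v := cen_le_of_mem_zpowers hvy
  have hvm : idx v = m := by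
    refine (S.cases_of_noncentral hvz).resolve_right fun e => ?_
    have h1 := Subgroup.index_dvd_of_le hle
    rw [show (cen v).index = m * n from e, show (cen y).index = m from hy] at h1
    exact S.m_ne_mn (Nat.dvd_antisymm (Dvd.intro n rfl) h1)
  have heq : cen v = cen y := (Sizes.cen_eq_of_le hle (hvm.trans hy.symm)).symm
  by_cases hlm : l ∣ m
  · exact ⟨v, ⟨hvm, l, hl, hlm, hvl⟩, heq⟩
  obtain ⟨r, hr, hrn⟩ := exists_r S
  have : Fact r.Prime := ⟨hr⟩
  have hrm : ¬ r ∣ m := fun h => S.not_dvd_n hr h hrn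
  obtain ⟨R, hR⟩ := exists_sylow_le (show ¬ r ∣ (Subgroup.centralizer ({v} : Set G)).index by
    rw [show (Subgroup.centralizer ({v} : Set G)).index = m from hvm]; exact hrm)
  obtain ⟨g, hg⟩ := exists_conj_sylow_le S hx.1 hrm R
  have hxg := hx.conj g
  have hmem : v ∈ cen (g * x * g⁻¹) := by
    rcases sylow_cases S hrn R with ⟨b, hbR, hbz, hRb⟩ | h
    · rw [← cen_eq_of_commute S hxg hr hrm (isPEl_of_mem R.2 hbR) hbz
        (mem_cen.mp (hg hbR)) hrn R hg hRb]
      exact mem_cen_comm.mp (hR hbR)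
    · obtain ⟨w, hwR, hwz⟩ := SetLike.not_le_iff_exists.mp (noncentral_sylow S hrn R)
      exact (S.cen_le_of_mn (h w hwR hwz) (mem_cen.mp (hg hwR)).symm
        (coprime_of_piM hxg hr hrm (isPEl_of_mem R.2 hwR)).symm).1 (mem_cen_comm.mp (hR hwR))
  exact ⟨g * x * g⁻¹, hxg,
    (cen_eq_of_commute S hxg hl hlm hvl hvz (mem_cen.mp hmem) hrn R hg hR).symm.trans heq⟩

/-- The centralizers of `PiM` elements meet in the centre. -/
theorem cen_eq_of_mem_inf (S : Sizes G m n) {x u : G} (hx : PiM m x) (hu : PiM m u) {y : G}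
    (hyx : y ∈ cen x) (hyu : y ∈ cen u) (hyz : y ∉ Subgroup.center G) : cen x = cen u := by
  obtain ⟨l, v, hl, hvy, hvz, hvl⟩ := exists_primary_notMem hyz
  have : Fact l.Prime := ⟨hl⟩
  have hvx := mem_of_mem_zpowers hvy hyx
  have hvu := mem_of_mem_zpowers hvy hyu
  by_cases hlm : l ∣ m
  · exact (cen_eq_of_mem_pi S hx hlm hvx hvl hvz).symm.trans
      (cen_eq_of_mem_pi S hu hlm hvu hvl hvz)
  rcases S.cases_of_noncentral hvz with hvm | hvmn
  · obtain ⟨w, hw, hweq⟩ := exists_piM_cen S hx hvm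
    obtain ⟨hxm, p, hp, hpm, hxp⟩ := hx
    obtain ⟨hum, q, hq, hqm, huq⟩ := hu
    have : Fact p.Prime := ⟨hp⟩
    have : Fact q.Prime := ⟨hq⟩
    have h1 := cen_eq_of_mem_pi S hw hpm (hweq ▸ mem_cen_comm.mp hvx) hxp
      (S.noncentral_of_idx_eq_m hxm)
    have h2 := cen_eq_of_mem_pi S hw hqm (hweq ▸ mem_cen_comm.mp hvu) huq
      (S.noncentral_of_idx_eq_m hum)
    exact h1.trans h2.symm
  · have hle : ∀ {w : G}, PiM m w → v ∈ cen w → cen v ≤ cen w := fun hw hmem =>
      (S.cen_le_of_mn hvmn (mem_cen.mp hmem).symm (coprime_of_piM hw hl hlm hvl).symm).1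
    obtain ⟨p, hp, hpm⟩ := Nat.exists_prime_and_dvd (show m ≠ 1 by have := S.one_lt_m; omega)
    have : Fact p.Prime := ⟨hp⟩
    obtain ⟨z, hz, hzp, hzz⟩ := exists_pi_noncentral S hvz hpm
    exact (cen_eq_of_mem_pi S hx hpm (hle hx hvx hz) hzp hzz).symm.trans
      (cen_eq_of_mem_pi S hu hpm (hle hu hvu hz) hzp hzz)

/-- An element of class size `m` in the centralizer of a `PiM` element has that centralizer. -/
theorem cen_eq_of_mem (S : Sizes G m n) {x y : G} (hx : PiM m x) (hy : y ∈ cen x)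
    (hym : idx y = m) : cen y = cen x := by
  obtain ⟨u, hu, huy⟩ := exists_piM_cen S hx hym
  rw [← huy]
  exact cen_eq_of_mem_inf S hu hx (huy ▸ self_mem_cen y) hy (S.noncentral_of_idx_eq_m hym)

end Cfsg.Agent.Lib.ClassSizes.CopTI
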