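import Mathlib
import Cfsg.Agent.Lib.ClassSizes.Basic
import Cfsg.Agent.Lib.Elem70.Basic

/-!
# Tools for groups with class sizes `{1, m, mn}`, `(m, n) = 1`

* `exists_primary_notMem` : an element outside a subgroup has a primary power outside it;
* `commute_of_centralizes_sylow` : if every `p'`-element of `D` centralises a Sylow `p`-subgroup of
  `D`, then `p`-elements and `p'`-elements of `D` commute;
* `exists_noncentral_of_card` : a noncentral `p`-element in one of two subgroups of equal order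
  containing the centre gives one in the other;
* `Sizes` : the hypothesis on the class sizes, with first consequences.
-/

set_option autoImplicit false

namespace Cfsg.Agent.Lib.ClassSizes.CopTools

open Cfsg.Agent.Lib.ClassSizes.Basic
open scoped Pointwise

variable {G : Type*} [Group G]

/-- The centralizer of an element. -/
abbrev cen (x : G) : Subgroup G := Subgroup.centralizer {x}

/-- The size of the class of an element. -/
noncomputable abbrev idx (x : G) : ℕ := (cen x).index

/-- `x` has `p`-power order. -/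
def IsPEl (p : ℕ) (x : G) : Prop := ∃ k : ℕ, x ^ p ^ k = 1

theorem self_mem_cen (x : G) : x ∈ cen x := mem_cen.mpr rfl

theorem mem_of_mem_zpowers {C : Subgroup G} {u x : G} (hu : u ∈ Subgroup.zpowers x) (hx : x ∈ C) :
    u ∈ C := Subgroup.zpowers_le.mpr hx hu

theorem cen_eq_top_iff {x : G} : cen x = ⊤ ↔ x ∈ Subgroup.center G := by
  rw [Subgroup.centralizer_eq_top_iff_subset]
  simp

theorem center_le_cen (x : G) : Subgroup.center G ≤ cen x := Subgroup.center_le_centralizer _

theorem cen_le_of_mem_zpowers {u x : G} (hu : u ∈ Subgroup.zpowers x) : cen x ≤ cen u := by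
  intro g hg
  obtain ⟨i, rfl⟩ := hu
  exact mem_cen.mpr ((show Commute x g from mem_cen.mp hg).zpow_left i)

theorem cen_mul_center {x z : G} (hz : z ∈ Subgroup.center G) : cen (x * z) = cen x := by
  ext g
  rw [mem_cen, mem_cen]
  have hzg : g * z = z * g := Subgroup.mem_center_iff.mp hz g
  constructor <;> intro h
  · apply mul_right_cancel (b := z)
    calc x * g * z = x * z * g := by rw [mul_assoc, hzg, mul_assoc]
      _ = g * (x * z) := h
      _ = g * x * z := by group
  · calc x * z * g = x * g * z := by rw [mul_assoc, ← hzg, mul_assoc]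
      _ = g * x * z := by rw [h]
      _ = g * (x * z) := by group

theorem IsPEl.pow {p : ℕ} {x : G} (h : IsPEl p x) (i : ℤ) : IsPEl p (x ^ i) := by
  obtain ⟨k, hk⟩ := h
  exact ⟨k, by rw [← zpow_natCast, ← zpow_mul, mul_comm, zpow_mul, zpow_natCast, hk, one_zpow]⟩

theorem IsPEl.coprime {p q : ℕ} (hp : p.Prime) {x : G} (h : IsPEl p x) (hq : p.Coprime q) :
    (orderOf x).Coprime q := by
  obtain ⟨k, hk⟩ := h
  exact Nat.Coprime.coprime_dvd_left (orderOf_dvd_of_pow_eq_one hk) (hq.pow_left k)

theorem isPEl_of_mem {p : ℕ} {P : Subgroup G} (hP : IsPGroup p P) {x : G} (hx : x ∈ P) :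
    IsPEl p x := by
  obtain ⟨k, hk⟩ := hP ⟨x, hx⟩
  exact ⟨k, by simpa using congrArg Subtype.val hk⟩

theorem IsPEl.isPGroup {p : ℕ} {x : G} (_hp : p.Prime) (h : IsPEl p x) :
    IsPGroup p (Subgroup.zpowers x) := by
  obtain ⟨k, hk⟩ := h
  rintro ⟨y, i, rfl⟩
  refine ⟨k, Subtype.ext ?_⟩
  change (x ^ i) ^ p ^ k = 1
  rw [← zpow_natCast, ← zpow_mul, mul_comm, zpow_mul, zpow_natCast, hk, one_zpow]

theorem IsPEl.coprime_orderOf {p q : ℕ} (hp : p.Prime) (hq : q.Prime) (hpq : p ≠ q) {x y : G}
    (hx : IsPEl p x) (hy : IsPEl q y) : (orderOf x).Coprime (orderOf y) :=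
  hx.coprime hp (hy.coprime hq ((Nat.coprime_primes hq hp).mpr (Ne.symm hpq))).symm

variable [Finite G]

/-- An element outside a subgroup has a primary power outside it. -/
theorem exists_primary_notMem {C : Subgroup G} {x : G} (hx : x ∉ C) :
    ∃ (p : ℕ) (u : G), p.Prime ∧ u ∈ Subgroup.zpowers x ∧ u ∉ C ∧ IsPEl p u := by
  induction hN : orderOf x using Nat.strong_induction_on generalizing x with
  | _ N ih =>
    have hx1 : orderOf x ≠ 1 := fun h => hx (orderOf_eq_one_iff.mp h ▸ C.one_mem)
    obtain ⟨p, hp, hpd⟩ := Nat.exists_prime_and_dvd hx1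
    obtain ⟨u, s, hu, hs, hxus, huk, hcop⟩ := Lib.Elem70.exists_primary_split hp x
    by_cases huC : u ∈ C
    · have hsC : s ∉ C := fun h => hx (hxus ▸ C.mul_mem huC h)
      have hdvd : orderOf s ∣ orderOf x := orderOf_dvd_of_mem_zpowers hs
      have hlt : orderOf s < N := by
        refine hN ▸ lt_of_le_of_ne (Nat.le_of_dvd (orderOf_pos x) hdvd) fun h => ?_
        exact hp.coprime_iff_not_dvd.mp hcop.symm (h ▸ hpd)
      obtain ⟨r, w, hr, hw, hwC, hwr⟩ := ih _ hlt hsC rfl
      exact ⟨r, w, hr, mem_of_mem_zpowers hw hs, hwC, hwr⟩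
    · exact ⟨p, u, hp, hu, huC, huk⟩

/-- A `p`-element of `H` lies in a `p`-subgroup of `H` of the largest possible order. -/
theorem exists_psub_containing {p : ℕ} [Fact p.Prime] {H : Subgroup G} {u : G} (hu : u ∈ H)
    (hp : IsPEl p u) :
    ∃ Q : Subgroup G, Q ≤ H ∧ u ∈ Q ∧ IsPGroup p Q ∧
      Nat.card Q = p ^ (Nat.card H).factorization p := by
  have h1 : IsPGroup p ((Subgroup.zpowers u).subgroupOf H) :=
    (hp.isPGroup Fact.out).comap_of_injective H.subtype Subtype.val_injective
  obtain ⟨Q, hQ⟩ := h1.exists_le_sylow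
  refine ⟨(Q : Subgroup H).map H.subtype, Subgroup.map_subtype_le _,
    ⟨⟨u, hu⟩, hQ (by simp [Subgroup.mem_subgroupOf]), rfl⟩, Q.2.map _, ?_⟩
  rw [Subgroup.card_map_of_injective Subtype.val_injective, Q.card_eq_multiplicity]

/-- A subgroup has a `p`-subgroup of the largest possible order. -/
theorem exists_psub {p : ℕ} [Fact p.Prime] (H : Subgroup G) :
    ∃ Q : Subgroup G, Q ≤ H ∧ IsPGroup p Q ∧
      Nat.card Q = p ^ (Nat.card H).factorization p := by
  obtain ⟨Q, h1, -, h2, h3⟩ := exists_psub_containing (H := H) H.one_mem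
    (⟨0, one_pow _⟩ : IsPEl p (1 : G))
  exact ⟨Q, h1, h2, h3⟩

/-- If every `p'`-element of `D` centralises a Sylow `p`-subgroup of `D`, then `D` is generated
by commuting `p`- and `p'`-parts. -/
theorem commute_of_centralizes_sylow {p : ℕ} [Fact p.Prime] (D : Subgroup G)
    (h : ∀ w ∈ D, (orderOf w).Coprime p → ∃ S : Subgroup G, S ≤ D ∧ S ≤ cen w ∧
      Nat.card S = p ^ (Nat.card D).factorization p) :
    ∃ P : Subgroup G, P ≤ D ∧ IsPGroup p P ∧ Nat.card P = p ^ (Nat.card D).factorization p ∧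
      (∀ u ∈ D, IsPEl p u → u ∈ P) ∧ (∀ u ∈ P, ∀ w ∈ D, (orderOf w).Coprime p → Commute u w) ∧
      D ≤ Subgroup.normalizer (P : Set G) := by
  classical
  obtain ⟨S₀⟩ : Nonempty (Sylow p D) := inferInstance
  have hp : p.Prime := Fact.out
  have hcov : (S₀ : Subgroup D) ⊔ Subgroup.centralizer ((S₀ : Subgroup D) : Set D) = ⊤ := by
    refine Lib.Elem70.eq_top_of_forall_conj _ fun d => ?_
    obtain ⟨u, s, hu, hs, hdus, huk, hcop⟩ := Lib.Elem70.exists_primary_split hp d
    obtain ⟨S, hSD, hSs, hS⟩ := h s s.2 (by rwa [Subgroup.orderOf_coe])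
    -- a Sylow subgroup of `D` inside the centralizer of `s`, containing `u`
    have hT : ¬ p ∣ (Subgroup.centralizer ({s} : Set D)).index := by
      refine not_dvd_of_sylow_le (Sylow.ofCard (S.subgroupOf D) (by
        rw [Nat.card_congr (Subgroup.subgroupOfEquivOfLe hSD).toEquiv, hS])) ?_
      intro a ha
      exact mem_cen.mpr (Subtype.ext (mem_cen.mp (hSs (Subgroup.mem_subgroupOf.mp ha))))
    have hus : u ∈ Subgroup.centralizer ({s} : Set D) :=
      mem_cen.mpr (by
        obtain ⟨i, rfl⟩ := hu; obtain ⟨j, rfl⟩ := hs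
        exact zpow_mul_comm d j i)
    obtain ⟨Q, hQC, huQ, hQ, hQcard⟩ := exists_psub_containing hus (show IsPEl p u from huk)
    have hQ' : Nat.card Q = p ^ (Nat.card D).factorization p := by
      rw [hQcard, ← (Subgroup.centralizer ({s} : Set D)).card_mul_index,
        Nat.factorization_mul Nat.card_pos.ne' Subgroup.index_ne_zero_of_finite,
        Finsupp.add_apply, Nat.factorization_eq_zero_of_not_dvd hT, add_zero]
    obtain ⟨c, hc⟩ := MulAction.exists_smul_eq D S₀ (Sylow.ofCard Q hQ')
    have hconj : ∀ a, a ∈ Q ↔ c⁻¹ * a * c ∈ (S₀ : Subgroup D) := by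
      intro a
      have h1 : Q = ((c • S₀ : Sylow p D) : Subgroup D) := by rw [hc]; rfl
      rw [h1, Sylow.coe_subgroup_smul, Subgroup.mem_pointwise_smul_iff_inv_smul_mem,
        MulAut.smul_def, MulAut.conj_inv_apply]
    refine ⟨c, ?_⟩
    rw [hdus, show c⁻¹ * (u * s) * c = (c⁻¹ * u * c) * (c⁻¹ * s * c) by group]
    refine Subgroup.mul_mem _ (Subgroup.mem_sup_left ((hconj u).mp huQ))
      (Subgroup.mem_sup_right (Subgroup.mem_centralizer_iff.mpr fun a ha => ?_))
    have haQ : c * a * c⁻¹ ∈ Q := (hconj _).mpr (by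
      rw [show c⁻¹ * (c * a * c⁻¹) * c = a by group]; exact ha)
    have hcom := mem_cen.mp (hQC haQ)
    calc a * (c⁻¹ * s * c) = c⁻¹ * (c * a * c⁻¹ * s) * c := by group
      _ = c⁻¹ * (s * (c * a * c⁻¹)) * c := by rw [hcom]
      _ = _ := by group
  have hn : (S₀ : Subgroup D).Normal := by
    rw [← Subgroup.normalizer_eq_top_iff, ← top_le_iff, ← hcov]
    exact sup_le Subgroup.le_normalizer (Subgroup.centralizer_le_normalizer _)
  have hall : ∀ Q : Subgroup D, IsPGroup p Q → Q ≤ (S₀ : Subgroup D) := by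
    intro Q hQ
    obtain ⟨R, hR⟩ := hQ.exists_le_sylow
    have : R = S₀ := by
      obtain ⟨c, hc⟩ := MulAction.exists_smul_eq D S₀ R
      rw [← hc, Sylow.smul_eq_of_normal]
    exact this ▸ hR
  refine ⟨(S₀ : Subgroup D).map D.subtype, Subgroup.map_subtype_le _, S₀.2.map _, ?_, ?_, ?_, ?_⟩
  · rw [Subgroup.card_map_of_injective Subtype.val_injective, S₀.card_eq_multiplicity]
  · intro u hu hup
    refine ⟨⟨u, hu⟩, hall _ (IsPEl.isPGroup hp ?_) (Subgroup.mem_zpowers _), rfl⟩
    obtain ⟨k, hk⟩ := hup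
    exact ⟨k, Subtype.ext hk⟩
  · rintro _ ⟨u, hu, rfl⟩ w hw hcop
    obtain ⟨S, hSD, hSw, hS⟩ := h w hw hcop
    have hSp : IsPGroup p (S.subgroupOf D) := IsPGroup.of_card (n := (Nat.card D).factorization p)
      (by rw [Nat.card_congr (Subgroup.subgroupOfEquivOfLe hSD).toEquiv, hS])
    have heq : S.subgroupOf D = (S₀ : Subgroup D) :=
      Subgroup.eq_of_le_of_card_ge (hall _ hSp) (le_of_eq (by
        rw [Nat.card_congr (Subgroup.subgroupOfEquivOfLe hSD).toEquiv, hS, S₀.card_eq_multiplicity]))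
    have hu' : (u : G) ∈ S := by
      rw [← heq] at hu
      exact hu
    exact (mem_cen.mp (hSw hu')).symm
  · intro d hd
    rw [Subgroup.mem_normalizer_iff]
    intro a
    constructor
    · rintro ⟨a', ha', rfl⟩
      exact ⟨⟨d, hd⟩ * a' * ⟨d, hd⟩⁻¹, hn.conj_mem _ ha' _, rfl⟩
    · rintro ⟨a', ha', h'⟩
      refine ⟨⟨d, hd⟩⁻¹ * a' * ⟨d, hd⟩, ?_, ?_⟩
      · have := hn.conj_mem _ ha' ⟨d, hd⟩⁻¹
        rwa [inv_inv] at this
      · change d⁻¹ * (a' : G) * d = a
        rw [show (a' : G) = d * a * d⁻¹ from h']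
        group

/-- A noncentral `p`-element in a subgroup containing the centre gives one in every subgroup whose
order has at least the same `p`-part. -/
theorem exists_noncentral_of_card {p : ℕ} [Fact p.Prime] {H K : Subgroup G}
    (hKz : Subgroup.center G ≤ K)
    (hc : (Nat.card K).factorization p ≤ (Nat.card H).factorization p) {y : G}
    (hy : y ∈ K) (hyp : IsPEl p y) (hyz : y ∉ Subgroup.center G) :
    ∃ u ∈ H, IsPEl p u ∧ u ∉ Subgroup.center G := by
  by_contra hcon
  push Not at hcon
  obtain ⟨Q, hQH, hQp, hQ⟩ := exists_psub (p := p) H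
  have hQz : Q ≤ Subgroup.center G := fun u hu => hcon u (hQH hu) (isPEl_of_mem hQp hu)
  obtain ⟨Z, hZ, hZp, hZc⟩ := exists_psub (p := p) (Subgroup.center G)
  have hle : (Nat.card H).factorization p ≤ (Nat.card (Subgroup.center G)).factorization p :=
    (Nat.Prime.pow_dvd_iff_le_factorization Fact.out Nat.card_pos.ne').mp
      (hQ ▸ Subgroup.card_dvd_of_le hQz)
  -- `Z` together with `y` is a larger `p`-subgroup of `K`
  let Y := Z ⊔ Subgroup.zpowers y
  have hYK : Y ≤ K := sup_le (hZ.trans hKz) (Subgroup.zpowers_le.mpr hy)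
  have hnorm : Z ≤ Subgroup.normalizer (Subgroup.zpowers y : Set G) :=
    (hZ.trans (Subgroup.center_le_centralizer _)).trans (Subgroup.centralizer_le_normalizer _)
  have hYp : IsPGroup p Y := IsPGroup.to_sup_of_normal_right' hZp (hyp.isPGroup Fact.out) hnorm
  obtain ⟨j, hj⟩ := hYp.exists_card_eq
  have hjle : j ≤ (Nat.card K).factorization p :=
    (Nat.Prime.pow_dvd_iff_le_factorization Fact.out Nat.card_pos.ne').mp
      (hj ▸ Subgroup.card_dvd_of_le hYK)
  have hZY : Z = Y := Subgroup.eq_of_le_of_card_ge le_sup_left (by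
    rw [hj, hZc]
    exact Nat.pow_le_pow_right (Fact.out : p.Prime).pos ((hjle.trans hc).trans hle))
  exact hyz (hZ (hZY ▸ (Subgroup.mem_sup_right (Subgroup.mem_zpowers y) : y ∈ Y)))

/-- The class sizes are `1`, `m`, `m * n` with `m, n > 1` coprime. -/
structure Sizes (G : Type*) [Group G] (m n : ℕ) : Prop where
  one_lt_m : 1 < m
  one_lt_n : 1 < n
  cop : m.Coprime n
  mem : ∀ x : G, idx x = 1 ∨ idx x = m ∨ idx x = m * n
  exists_m : ∃ x : G, idx x = m
  exists_mn : ∃ x : G, idx x = m * n

namespace Sizes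

variable {m n : ℕ} (S : Sizes G m n)

theorem m_pos (S : Sizes G m n) : 0 < m := by have := S.one_lt_m; omega

theorem m_ne_mn (S : Sizes G m n) : m ≠ m * n := by
  intro h
  have := Nat.eq_of_mul_eq_mul_left S.m_pos ((mul_one m).trans h)
  have := S.one_lt_n
  omega

omit [Finite G] in
theorem idx_eq_one_iff {x : G} : idx x = 1 ↔ x ∈ Subgroup.center G :=
  Subgroup.index_eq_one.trans cen_eq_top_iff

theorem noncentral_of_idx_eq_m {x : G} (S : Sizes G m n) (h : idx x = m) :
    x ∉ Subgroup.center G := fun hz => by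
  have := idx_eq_one_iff.mpr hz; have := S.one_lt_m; omega

theorem noncentral_of_idx_eq_mn {x : G} (S : Sizes G m n) (h : idx x = m * n) :
    x ∉ Subgroup.center G := fun hz => by
  have h1 := idx_eq_one_iff.mpr hz
  rw [h, mul_eq_one] at h1
  have := S.one_lt_m; omega

theorem cases_of_noncentral {x : G} (S : Sizes G m n) (h : x ∉ Subgroup.center G) :
    idx x = m ∨ idx x = m * n :=
  (S.mem x).resolve_left fun h1 => h (idx_eq_one_iff.mp h1)

theorem m_dvd_idx {x : G} (S : Sizes G m n) (h : x ∉ Subgroup.center G) : m ∣ idx x := by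
  rcases S.cases_of_noncentral h with e | e <;> simp [e]

/-- A class size prime to some prime divisor of `n` is `m`. -/
theorem idx_eq_m {x : G} (S : Sizes G m n) (h : x ∉ Subgroup.center G) {r : ℕ} (hr : r ∣ n)
    (hx : ¬ r ∣ idx x) : idx x = m :=
  (S.cases_of_noncentral h).resolve_right fun e => hx (e ▸ hr.mul_left m)

/-- A centralizer contained in a centralizer of the same index. -/
theorem cen_eq_of_le {x y : G} (hle : cen x ≤ cen y) (h : idx y = idx x) : cen x = cen y := by
  refine le_antisymm hle (Subgroup.relIndex_eq_one.mp ?_)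
  have h1 : (cen x).relIndex (cen y) * idx y = idx x := Subgroup.relIndex_mul_index hle
  rw [h] at h1
  exact (mul_eq_right₀ Subgroup.index_ne_zero_of_finite).mp h1

/-- The centralizer of an element of class size `m * n` is minimal. -/
theorem cen_eq_of_le_mn {x y : G} (S : Sizes G m n) (hle : cen y ≤ cen x) (hx : idx x = m * n) :
    cen y = cen x := by
  have hd : m * n ∣ idx y := hx ▸ Subgroup.index_dvd_of_le hle
  refine cen_eq_of_le hle ?_
  rcases S.mem y with e | e | e
  · rw [e, Nat.dvd_one, mul_eq_one] at hd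
    have := S.one_lt_m; omega
  · rw [e] at hd
    exact absurd (Nat.dvd_antisymm (Dvd.intro n rfl) hd) S.m_ne_mn
  · rw [hx, e]

/-- An element of class size `m * n` : commuting elements of coprime order centralise its
centralizer. -/
theorem cen_le_of_mn {x y : G} (S : Sizes G m n) (hx : idx x = m * n) (hc : Commute x y)
    (hcop : (orderOf x).Coprime (orderOf y)) : cen x ≤ cen y ∧ cen (x * y) = cen x := by
  have e := cen_mul_eq hc hcop
  have h1 : cen (x * y) = cen x := S.cen_eq_of_le_mn (e.le.trans inf_le_left) hx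
  exact ⟨(h1.symm.trans e).le.trans inf_le_right, h1⟩

/-- The exponent of `p` in the order of a noncentral centralizer, for `p ∤ n`. -/
theorem cen_factorization {x : G} (S : Sizes G m n) (h : x ∉ Subgroup.center G) {p : ℕ}
    (hpn : ¬ p ∣ n) :
    (Nat.card (cen x)).factorization p + m.factorization p = (Nat.card G).factorization p := by
  rw [← (cen x).card_mul_index, Nat.factorization_mul Nat.card_pos.ne'
    Subgroup.index_ne_zero_of_finite, Finsupp.add_apply]
  congr 1
  rcases S.cases_of_noncentral h with e | e <;> change _ = (idx x).factorization p <;> rw [e]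
  rw [Nat.factorization_mul S.m_pos.ne' (by have := S.one_lt_n; omega), Finsupp.add_apply,
    Nat.factorization_eq_zero_of_not_dvd hpn, add_zero]

theorem not_dvd_n (S : Sizes G m n) {p : ℕ} (hp : p.Prime) (h : p ∣ m) : ¬ p ∣ n :=
  fun h' => hp.not_dvd_one (S.cop.gcd_eq_one ▸ Nat.dvd_gcd h h')

/-- Two noncentral centralizers have `p`-parts of the same order, for `p ∣ m`. -/
theorem factorization_eq {x y : G} (S : Sizes G m n) (hx : x ∉ Subgroup.center G)
    (hy : y ∉ Subgroup.center G) {p : ℕ} (hp : p.Prime) (hpm : p ∣ m) :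
    (Nat.card (cen x)).factorization p = (Nat.card (cen y)).factorization p := by
  have := S.cen_factorization hx (S.not_dvd_n hp hpm)
  have := S.cen_factorization hy (S.not_dvd_n hp hpm)
  omega

/-- Every prime divisor of a class size has a noncentral element of its power order. -/
theorem exists_noncentral_pel (S : Sizes G m n) {p : ℕ} [Fact p.Prime] (h : p ∣ m * n) :
    ∃ u : G, IsPEl p u ∧ u ∉ Subgroup.center G := by
  obtain ⟨x, hx⟩ := S.exists_mn
  obtain ⟨P⟩ : Nonempty (Sylow p G) := inferInstance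
  have := (exists_dvd_iff P).mp ⟨x, by
    rw [show (Subgroup.centralizer ({x} : Set G)).index = m * n from hx]; exact h⟩
  obtain ⟨u, hu, huz⟩ := SetLike.not_le_iff_exists.mp this
  exact ⟨u, isPEl_of_mem P.2 hu, huz⟩

end Sizes

/-- A `p`-element centralising a Sylow `p`-subgroup lies in it. -/
theorem mem_sylow_of_centralizes {p : ℕ} [Fact p.Prime] (P : Sylow p G) {w : G}
    (hw : IsPEl p w) (h : (P : Subgroup G) ≤ cen w) : w ∈ (P : Subgroup G) := by
  have h1 : Subgroup.zpowers w ≤ Subgroup.normalizer ((P : Subgroup G) : Set G) := by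
    refine (Subgroup.zpowers_le.mpr ?_).trans (Subgroup.centralizer_le_normalizer _)
    exact Subgroup.mem_centralizer_iff.mpr fun a ha => (mem_cen.mp (h ha)).symm
  have h2 : IsPGroup p ((P : Subgroup G) ⊔ Subgroup.zpowers w : Subgroup G) :=
    IsPGroup.to_sup_of_normal_left' P.2 (hw.isPGroup Fact.out) h1
  exact P.3 h2 le_sup_left ▸ Subgroup.mem_sup_right (Subgroup.mem_zpowers w)

/-- A complement of a normal Sylow subgroup, containing all elements of coprime order. -/
theorem exists_complement {p : ℕ} [Fact p.Prime] {D P : Subgroup G} (hPD : P ≤ D)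
    (hP : IsPGroup p P) (hcard : Nat.card P = p ^ (Nat.card D).factorization p)
    (hcomm : ∀ u ∈ P, ∀ w ∈ D, (orderOf w).Coprime p → Commute u w)
    (hnorm : D ≤ Subgroup.normalizer (P : Set G)) :
    ∃ F : Subgroup G, F ≤ D ∧ (Nat.card F).Coprime p ∧ Nat.card F * Nat.card P = Nat.card D ∧
      (∀ w ∈ D, (orderOf w).Coprime p → w ∈ F) := by
  have hp : p.Prime := Fact.out
  have : (P.subgroupOf D).Normal := Subgroup.normal_subgroupOf_of_le_normalizer hnorm
  have hcardP : Nat.card (P.subgroupOf D) = Nat.card P :=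
    Nat.card_congr (Subgroup.subgroupOfEquivOfLe hPD).toEquiv
  have hidx : ¬ p ∣ (P.subgroupOf D).index := by
    intro hd
    have h1 := (P.subgroupOf D).card_mul_index
    rw [hcardP, hcard] at h1
    refine Nat.pow_succ_factorization_not_dvd (Nat.card_pos (α := D)).ne' hp ?_
    rw [pow_succ]
    exact (Nat.mul_dvd_mul_left _ hd).trans (dvd_of_eq h1)
  obtain ⟨K, hK⟩ := Subgroup.exists_right_complement'_of_coprime (N := P.subgroupOf D) (by
    rw [hcardP, hcard]
    exact Nat.Coprime.pow_left _ (hp.coprime_iff_not_dvd.mpr hidx))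
  have hcardK : Nat.card (K.map D.subtype) = Nat.card K :=
    Subgroup.card_map_of_injective Subtype.val_injective
  have hKcop : (Nat.card K).Coprime p := by
    rw [Nat.coprime_comm, hp.coprime_iff_not_dvd, ← hK.symm.index_eq_card]
    exact hidx
  refine ⟨K.map D.subtype, Subgroup.map_subtype_le _, hcardK ▸ hKcop, ?_, ?_⟩
  · rw [hcardK, mul_comm, ← hcardP, hK.card_mul]
  · intro w hw hcop
    have hmem : (⟨w, hw⟩ : D) ∈ (P.subgroupOf D : Set D) * (K : Set D) := hK.mul_eq ▸ Set.mem_univ _
    obtain ⟨a, ha, f, hf, haf⟩ := hmem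
    have hfc : (orderOf (f : G)).Coprime p := by
      rw [Subgroup.orderOf_coe, ← Subgroup.orderOf_mk f hf]
      exact hKcop.coprime_dvd_left (orderOf_dvd_natCard _)
    have hc : Commute (a : G) (f : G) := hcomm a ha f f.2 hfc
    have hwaf : w = (a : G) * f := congrArg Subtype.val haf.symm
    have hap : IsPEl p (a : G) := isPEl_of_mem hP ha
    obtain ⟨k, hk⟩ := mem_powers_of_commute_coprime hc (hap.coprime hp hfc.symm)
    have ha1 : (a : G) = 1 := by
      rw [← orderOf_eq_one_iff]
      refine Nat.eq_one_of_dvd_coprimes (Nat.Coprime.symm (hap.coprime hp hcop.symm))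
        ?_ (dvd_refl _)
      exact hk ▸ hwaf ▸ orderOf_pow_dvd k
    exact ⟨f, hf, by rw [hwaf, ha1, one_mul]; rfl⟩

end Cfsg.Agent.Lib.ClassSizes.CopTools
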