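import Cfsg.Agent.Lib.ClassSizes.NonAdjacent
import Cfsg.Agent.Lib.Brauer.Induction

/-!
# The prime graph on class sizes of `p`-singular elements

When `p` does not divide the order of the centre the graph has diameter at most three.
-/

set_option autoImplicit false
set_option linter.unusedSectionVars false
set_option linter.style.haveILetI false

namespace Cfsg.Agent.Lib.ClassSizes.PSingular

open Cfsg.Agent.Lib.ClassSizes.Basic
open Cfsg.Agent.Lib.ClassSizes.NonAdjacent (exists_mul_of_coprime_index exists_conj_mem_centralizer)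

variable {G : Type*} [Group G] [Finite G] {p : ℕ} [hp : Fact p.Prime]

/-- The class size of `x`. -/
noncomputable def csz (x : G) : ℕ := (Subgroup.centralizer ({x} : Set G)).index

theorem csz_conj (g x : G) : csz (g * x * g⁻¹) = csz x := by
  have e : Subgroup.centralizer ({g * x * g⁻¹} : Set G) =
      (Subgroup.centralizer ({x} : Set G)).comap (MulAut.conj g⁻¹).toMonoidHom := by
    ext y
    rw [mem_cen_conj, Subgroup.mem_comap]
    simp
  rw [csz, e, Subgroup.index_comap_of_surjective _ (MulAut.conj g⁻¹).surjective]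
  rfl

theorem orderOf_conj (g x : G) : orderOf (g * x * g⁻¹) = orderOf x :=
  (MulAut.conj g).orderOf_eq x

theorem csz_one : csz (1 : G) = 1 := by
  rw [csz, Subgroup.index_eq_one, eq_top_iff]
  intro y _
  rw [mem_cen, one_mul, mul_one]

theorem csz_dvd_pow (x : G) (n : ℕ) : csz (x ^ n) ∣ csz x :=
  Subgroup.index_dvd_of_le fun y hy => mem_cen.mpr
    ((show Commute x y from mem_cen.mp hy).pow_left n).eq

/-- A `p`-element of a Sylow subgroup with `p` dividing its class size is `p`-singular. -/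
theorem dvd_orderOf {S : Sylow p G} {x : G} (hxS : x ∈ S) (hx : x ≠ 1) : p ∣ orderOf x := by
  obtain ⟨k, hk⟩ := IsPGroup.iff_orderOf.mp S.isPGroup' ⟨x, hxS⟩
  rw [Subgroup.orderOf_mk] at hk
  rw [hk]
  refine dvd_pow_self p ?_
  rintro rfl
  exact hx (orderOf_eq_one_iff.mp (by rw [hk, pow_zero]))

theorem exists_conj_mem_sylow (S : Sylow p G) {z : G} {n : ℕ} (hz : orderOf z = p ^ n) :
    ∃ g : G, g * z * g⁻¹ ∈ S := by
  obtain ⟨R, hR⟩ := (IsPGroup.of_card (n := n) (by rw [Nat.card_zpowers, hz]) :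
    IsPGroup p (Subgroup.zpowers z)).exists_le_sylow
  obtain ⟨g, hg⟩ := MulAction.exists_smul_eq G R S
  refine ⟨g, ?_⟩
  show g * z * g⁻¹ ∈ (S : Subgroup G)
  rw [← hg, Sylow.coe_subgroup_smul]
  exact Subgroup.smul_mem_pointwise_smul z (MulAut.conj g) _ (hR (Subgroup.mem_zpowers z))

/-- If the `p'`-elements all have class size prime to `p`, a Sylow subgroup is a factor. -/
theorem exists_mul_centralizer {H : Type*} [Group H] [Finite H] (P : Sylow p H)
    (h : ∀ v : H, ¬ p ∣ orderOf v → ¬ p ∣ (Subgroup.centralizer ({v} : Set H)).index) :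
    ∀ g : H, ∃ a ∈ P, ∃ c ∈ Subgroup.centralizer ((P : Subgroup H) : Set H), g = a * c := by
  set C := Subgroup.centralizer ((P : Subgroup H) : Set H) with hC
  have htop : (P : Subgroup H) ⊔ C = ⊤ := by
    refine Lib.Elem70.eq_top_of_forall_conj _ fun g => ?_
    obtain ⟨u, v, huv, hc, ⟨k, hk⟩, hv, -, -⟩ := Lib.Brauer.Induction.exists_pParts p hp.out g
    obtain ⟨R, hR⟩ := exists_sylow_le (h v hv)
    have huC : u ∈ Subgroup.centralizer ({v} : Set H) := mem_cen.mpr hc.symm.eq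
    obtain ⟨d, hd⟩ := exists_conj_mem_sylow (R.subtype hR)
      (z := (⟨u, huC⟩ : Subgroup.centralizer ({v} : Set H))) (n := k)
      (by rw [Subgroup.orderOf_mk, hk])
    obtain ⟨e, he⟩ := MulAction.exists_smul_eq H P R
    have hdu : (d : H) * u * (d : H)⁻¹ ∈ (R : Subgroup H) := hd
    have hdv : (d : H) * v * (d : H)⁻¹ = v := by
      rw [← mem_cen.mp d.2, mul_inv_cancel_right]
    refine ⟨(d : H)⁻¹ * e, ?_⟩
    rw [← he, Sylow.coe_subgroup_smul] at hdu
    obtain ⟨a, ha, hae⟩ := hdu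
    have hae' : e * a * e⁻¹ = (d : H) * u * (d : H)⁻¹ := hae
    have e1 : ((d : H)⁻¹ * e)⁻¹ * g * ((d : H)⁻¹ * e) = a * (e⁻¹ * v * e) := by
      rw [← huv]
      calc ((d : H)⁻¹ * e)⁻¹ * (u * v) * ((d : H)⁻¹ * e)
          = e⁻¹ * ((d : H) * u * (d : H)⁻¹) * ((d : H) * v * (d : H)⁻¹) * e := by group
        _ = e⁻¹ * (e * a * e⁻¹) * v * e := by rw [hdv, hae']
        _ = _ := by group
    rw [e1]
    refine Subgroup.mul_mem _ (Subgroup.mem_sup_left ha) (Subgroup.mem_sup_right ?_)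
    rw [hC, Subgroup.mem_centralizer_iff]
    intro b hb
    have hb' : e * b * e⁻¹ ∈ (R : Subgroup H) := by
      rw [← he, Sylow.coe_subgroup_smul]
      exact Subgroup.smul_mem_pointwise_smul b (MulAut.conj e) _ hb
    have h2 := mem_cen.mp (hR hb')
    calc b * (e⁻¹ * v * e) = e⁻¹ * ((e * b * e⁻¹) * v) * e := by group
      _ = e⁻¹ * (v * (e * b * e⁻¹)) * e := by rw [h2]
      _ = _ := by group
  have : (P : Subgroup H).Normal := by
    rw [← Subgroup.normalizer_eq_top_iff, eq_top_iff, ← htop]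
    exact sup_le Subgroup.le_normalizer (Subgroup.centralizer_le_normalizer _)
  intro g
  obtain ⟨a, ha, c, hc, e⟩ := Subgroup.mem_sup_of_normal_left.mp
    (htop ▸ Subgroup.mem_top g : g ∈ (P : Subgroup H) ⊔ C)
  exact ⟨a, ha, c, hc, e.symm⟩

/-- Two `p`-classes, one of size divisible by `p` and one not, are linked through `p`. -/
theorem exists_link {z w : G} {n : ℕ} (hz : orderOf z = p ^ n) (hzp : p ∣ csz z)
    (hw : orderOf w = p) (hwp : ¬ p ∣ csz w) (hw1 : csz w ≠ 1) :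
    ∃ x : G, ∃ u : ℕ, u.Prime ∧ p ∣ orderOf x ∧ p ∣ csz x ∧ u ∣ csz x ∧ u ∣ csz w := by
  by_contra hno
  push Not at hno
  have H : ∀ x : G, p ∣ orderOf x → p ∣ csz x → (csz x).Coprime (csz w) := by
    intro x h1 h2
    by_contra h
    obtain ⟨u, hu, h3, h4⟩ := Nat.Prime.not_coprime_iff_dvd.mp h
    exact hno x u hu h1 h2 h3 h4
  -- set up
  obtain ⟨S, hS⟩ := exists_sylow_le hwp
  have hwS : ∀ a ∈ (S : Subgroup G), w * a = a * w := fun a ha => mem_cen.mp (hS ha)
  have hwin : w ∈ S := by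
    have hn : w ∈ Subgroup.normalizer ((S : Subgroup G) : Set G) :=
      Subgroup.centralizer_le_normalizer _ (Subgroup.mem_centralizer_iff.mpr
        fun a ha => (hwS a ha).symm)
    have hpg : IsPGroup p (Subgroup.zpowers w) :=
      IsPGroup.of_card (n := 1) (by rw [Nat.card_zpowers, hw, pow_one])
    have := S.is_maximal' (hpg.to_sup_of_normal_right' S.isPGroup'
      (Subgroup.zpowers_le.mpr hn)) le_sup_right
    have h3 : w ∈ Subgroup.zpowers w ⊔ (S : Subgroup G) :=
      Subgroup.mem_sup_left (Subgroup.mem_zpowers w)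
    rw [this] at h3
    exact h3
  obtain ⟨g₀, hz₀⟩ := exists_conj_mem_sylow S hz
  set z₀ := g₀ * z * g₀⁻¹ with hz₀def
  have hz₀p : p ∣ csz z₀ := by rwa [hz₀def, csz_conj]
  -- `C(w) = S C(S)`
  have hCw : ∀ c ∈ Subgroup.centralizer ({w} : Set G), ∃ a ∈ (S : Subgroup G),
      ∃ d : G, (∀ b ∈ (S : Subgroup G), b * d = d * b) ∧ c = a * d := by
    intro c hc
    have key : ∀ v : Subgroup.centralizer ({w} : Set G), ¬ p ∣ orderOf v →
        ¬ p ∣ (Subgroup.centralizer ({v} : Set (Subgroup.centralizer ({w} : Set G)))).index := by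
      intro v hv hdiv
      have hcomm : Commute w (v : G) := mem_cen.mp v.2
      have hv' : ¬ p ∣ orderOf (v : G) := by rwa [Subgroup.orderOf_coe]
      have hcop : (orderOf w).Coprime (orderOf (v : G)) := by
        rw [hw]; exact hp.out.coprime_iff_not_dvd.mpr hv'
      have h1 : csz (w * (v : G)) =
          (Subgroup.centralizer ({v} : Set (Subgroup.centralizer ({w} : Set G)))).index * csz w := by
        have e1 : Subgroup.centralizer ({v} : Set (Subgroup.centralizer ({w} : Set G))) =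
            (Subgroup.centralizer ({(v : G)} : Set G)).subgroupOf
              (Subgroup.centralizer ({w} : Set G)) := by
          ext y
          rw [Subgroup.mem_subgroupOf, mem_cen, mem_cen]
          exact Subtype.ext_iff
        rw [csz, csz, cen_mul_eq hcomm hcop, e1, ← Subgroup.relIndex,
          ← Subgroup.inf_relIndex_left, Subgroup.relIndex_mul_index inf_le_left]
      have h2 : p ∣ orderOf (w * (v : G)) := by
        rw [hcomm.orderOf_mul_eq_mul_orderOf_of_coprime hcop, hw]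
        exact dvd_mul_right _ _
      have h3 := H _ h2 (h1 ▸ hdiv.mul_right _)
      rw [h1] at h3
      exact hw1 (Nat.Coprime.eq_one_of_dvd h3.symm (dvd_mul_left _ _))
    obtain ⟨a, ha, d, hd, e⟩ := exists_mul_centralizer (S.subtype hS) key ⟨c, hc⟩
    exact ⟨a, ha, d, fun b hb => congrArg Subtype.val
      (Subgroup.mem_centralizer_iff.mp hd ⟨b, hS hb⟩ hb), congrArg Subtype.val e⟩
  -- classes of size divisible by `p` are `S`-classes
  have hx : ∀ x ∈ (S : Subgroup G), p ∣ csz x → ∀ g : G,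
      ∃ s ∈ (S : Subgroup G), g * x * g⁻¹ = s * x * s⁻¹ := by
    intro x hxS hxp g
    have hx1 : x ≠ 1 := fun e => hp.out.not_dvd_one (by rwa [e, csz_one] at hxp)
    obtain ⟨a, ha, b, hb, rfl⟩ :=
      exists_mul_of_coprime_index (H x (dvd_orderOf hxS hx1) hxp).symm g
    obtain ⟨s, hs, d, hd, rfl⟩ := hCw a ha
    refine ⟨s, hs, ?_⟩
    have hbx : b * x * b⁻¹ = x := by rw [← mem_cen.mp hb, mul_inv_cancel_right]
    have hdx : d * x * d⁻¹ = x := by rw [← hd x hxS, mul_inv_cancel_right]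
    calc s * d * b * x * (s * d * b)⁻¹ = s * (d * (b * x * b⁻¹) * d⁻¹) * s⁻¹ := by group
      _ = _ := by rw [hbx, hdx]
  -- the Sylow subgroup is normal
  have hSn : ∀ g : G, ∀ s ∈ (S : Subgroup G), g * s * g⁻¹ ∈ (S : Subgroup G) := by
    by_contra hcon
    push Not at hcon
    obtain ⟨g, s, hs, hgs⟩ := hcon
    set P₀ := (S : Subgroup G).normalCore with hP₀
    have hmem : ∀ x ∈ (S : Subgroup G), p ∣ csz x → x ∈ P₀ := by
      intro x hxS hxp c
      obtain ⟨t, ht, e⟩ := hx x hxS hxp c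
      rw [e]
      exact (S : Subgroup G).mul_mem ((S : Subgroup G).mul_mem ht hxS)
        ((S : Subgroup G).inv_mem ht)
    have hsP : s ∉ P₀ := fun h => hgs (h g)
    have hcent : ∀ x ∈ (S : Subgroup G), x ∉ P₀ → ∀ a ∈ P₀, a * x = x * a := by
      intro x hxS hxP a ha
      obtain ⟨R, hR⟩ := exists_sylow_le (p := p) (fun hd => hxP (hmem x hxS hd))
      obtain ⟨e, he⟩ := MulAction.exists_smul_eq G S R
      have haR : a ∈ (R : Subgroup G) := by
        rw [← he, Sylow.coe_subgroup_smul]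
        have h' : e⁻¹ * a * e⁻¹⁻¹ ∈ (S : Subgroup G) := ha e⁻¹
        have e2 : a = e * (e⁻¹ * a * e⁻¹⁻¹) * e⁻¹ := by group
        rw [e2]
        exact Subgroup.smul_mem_pointwise_smul _ (MulAut.conj e) _ h'
      exact (mem_cen.mp (hR haR)).symm
    have hall : ∀ x ∈ (S : Subgroup G), z₀ * x = x * z₀ := by
      have hzP : z₀ ∈ P₀ := hmem z₀ hz₀ hz₀p
      intro x hxS
      by_cases hxP : x ∈ P₀
      · have h1 := hcent s hs hsP z₀ hzP
        have h2 := hcent (x * s) ((S : Subgroup G).mul_mem hxS hs)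
          (fun h => hsP (by simpa using P₀.mul_mem (P₀.inv_mem hxP) h)) z₀ hzP
        refine mul_right_cancel (b := s) ?_
        rw [mul_assoc x z₀, h1, mul_assoc z₀, h2, mul_assoc]
      · exact hcent x hxS hxP z₀ hzP
    exact not_dvd_of_sylow_le S (fun x hx' => mem_cen.mpr (hall x hx')) hz₀p
  -- a prime of the class size of `w`
  obtain ⟨u, hu, huw⟩ := Nat.exists_prime_and_dvd hw1
  have : Fact u.Prime := ⟨hu⟩
  obtain ⟨U⟩ := (inferInstance : Nonempty (Sylow u G))
  set Z := Subgroup.center (S : Subgroup G) with hZ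
  set C := (Subgroup.centralizer ((U : Subgroup G) : Set G)).subgroupOf (S : Subgroup G) with hC
  have hout : ∀ x : (S : Subgroup G), x ∉ Z → ∃ s : (S : Subgroup G), s * x * s⁻¹ ∈ C := by
    intro x hxZ
    have hxp : p ∣ csz (x : G) := by
      by_contra hd
      obtain ⟨R, hR⟩ := exists_sylow_le hd
      obtain ⟨e, he⟩ := MulAction.exists_smul_eq G S R
      refine hxZ (Subgroup.mem_center_iff.mpr fun b => Subtype.ext ?_)
      have hbR : (b : G) ∈ (R : Subgroup G) := by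
        rw [← he, Sylow.coe_subgroup_smul]
        have e2 : (b : G) = e * (e⁻¹ * b * e⁻¹⁻¹) * e⁻¹ := by group
        rw [e2]
        exact Subgroup.smul_mem_pointwise_smul _ (MulAut.conj e) _ (hSn e⁻¹ b b.2)
      exact (mem_cen.mp (hR hbR)).symm
    have hx1 : (x : G) ≠ 1 := fun e => hp.out.not_dvd_one (by rwa [e, csz_one] at hxp)
    have hnd : ¬ u ∣ csz (x : G) := fun hd =>
      hno (x : G) u hu (dvd_orderOf x.2 hx1) hxp hd huw
    obtain ⟨g, hg⟩ := exists_conj_mem_centralizer U hnd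
    obtain ⟨s, hs, e⟩ := hx x x.2 hxp g⁻¹
    refine ⟨⟨s, hs⟩, ?_⟩
    rw [hC, Subgroup.mem_subgroupOf]
    show s * (x : G) * s⁻¹ ∈ _
    rw [← e, inv_inv]
    exact hg
  have hKtop : C ⊔ Z = ⊤ := by
    refine Lib.Elem70.eq_top_of_forall_conj _ fun x => ?_
    by_cases hxZ : x ∈ Z
    · exact ⟨1, Subgroup.mem_sup_right (by simpa using hxZ)⟩
    · obtain ⟨s, hs⟩ := hout x hxZ
      exact ⟨s⁻¹, Subgroup.mem_sup_left (by simpa using hs)⟩
  have hall : ∀ x : (S : Subgroup G), x ∉ Z → x ∈ C := by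
    intro x hxZ
    obtain ⟨s, hs⟩ := hout x hxZ
    obtain ⟨c, hc, d, hd, rfl⟩ := Subgroup.mem_sup_of_normal_right.mp
      (hKtop ▸ Subgroup.mem_top s : s ∈ C ⊔ Z)
    have hdx : d * x = x * d := (Subgroup.mem_center_iff.mp hd x).symm
    have e : x = c⁻¹ * (c * d * x * (c * d)⁻¹) * c := by
      calc x = (x * d) * d⁻¹ := by group
        _ = (d * x) * d⁻¹ := by rw [hdx]
        _ = _ := by group
    rw [e]
    exact C.mul_mem (C.mul_mem (C.inv_mem hc) hs) hc
  -- hence `w` centralises `U`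
  have hwZ : (⟨w, hwin⟩ : (S : Subgroup G)) ∈ Z :=
    Subgroup.mem_center_iff.mpr fun b => Subtype.ext (hwS b b.2).symm
  have hzZ : (⟨z₀, hz₀⟩ : (S : Subgroup G)) ∉ Z := fun h =>
    not_dvd_of_sylow_le S (fun x hx' => mem_cen.mpr
      (congrArg Subtype.val (Subgroup.mem_center_iff.mp h ⟨x, hx'⟩)).symm) hz₀p
  have hwzZ : (⟨w, hwin⟩ : (S : Subgroup G)) * ⟨z₀, hz₀⟩ ∉ Z :=
    fun h => hzZ ((Subgroup.mul_mem_cancel_left Z hwZ).mp h)
  have hwC : (⟨w, hwin⟩ : (S : Subgroup G)) ∈ C :=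
    (Subgroup.mul_mem_cancel_right C (hall _ hzZ)).mp (hall _ hwzZ)
  refine not_dvd_of_sylow_le U ?_ huw
  intro a ha
  rw [hC, Subgroup.mem_subgroupOf] at hwC
  exact mem_cen.mpr (Subgroup.mem_centralizer_iff.mp hwC a ha).symm

/-- Commuting elements of order `p` with coprime class sizes, the second prime to `p`. -/
theorem not_coprime_mul {z w : G} (hz : orderOf z = p) (hzw : Commute z w)
    (hcop : (csz z).Coprime (csz w)) (hz1 : csz z ≠ 1) (hwp : ¬ p ∣ csz w) :
    ¬ (csz (z * w)).Coprime (csz z) := by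
  classical
  intro hy
  set y := z * w with hydef
  set A := Subgroup.centralizer ({z} : Set G) with hA
  set B := Subgroup.centralizer ({w} : Set G) with hB
  set Y := Subgroup.centralizer ({y} : Set G) with hY
  have hAB : A ⊓ B ≤ Y := fun g hg => mem_cen.mpr
    ((show Commute z g from mem_cen.mp hg.1).mul_left (show Commute w g from mem_cen.mp hg.2)).eq
  have hYA : Y ⊓ A ≤ A ⊓ B := fun g hg => by
    refine ⟨hg.2, mem_cen.mpr ?_⟩
    have h1 : Commute y g := mem_cen.mp hg.1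
    have h2 : Commute z⁻¹ g := (show Commute z g from mem_cen.mp hg.2).inv_left
    have h3 := h2.mul_left h1
    rw [hydef, inv_mul_cancel_left] at h3
    exact h3.eq
  have hD : (A ⊓ B).index = csz z * csz w := by
    refine le_antisymm Subgroup.index_inf_le (Nat.le_of_dvd
      (Nat.pos_of_ne_zero Subgroup.index_ne_zero_of_finite) ?_)
    exact hcop.mul_dvd_of_dvd_of_dvd (Subgroup.index_dvd_of_le inf_le_left)
      (Subgroup.index_dvd_of_le inf_le_right)
  have hYd : Y.index ∣ csz w := by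
    have h := Subgroup.index_dvd_of_le hAB
    rw [hD] at h
    exact hy.dvd_of_dvd_mul_left h
  have hYe : Y.index = csz w := by
    refine le_antisymm (Nat.le_of_dvd (Nat.pos_of_ne_zero Subgroup.index_ne_zero_of_finite) hYd) ?_
    have h : (A ⊓ B).index ≤ Y.index * A.index :=
      (Nat.le_of_dvd (Nat.pos_of_ne_zero Subgroup.index_ne_zero_of_finite)
        (Subgroup.index_dvd_of_le hYA)).trans Subgroup.index_inf_le
    rw [hD, mul_comm Y.index] at h
    exact Nat.le_of_mul_le_mul_left h (Nat.pos_of_ne_zero Subgroup.index_ne_zero_of_finite)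
  -- all pairs of conjugates are simultaneous
  have hpair : ∀ g₁ g₂ : G, ∃ h : G, h * z * h⁻¹ = g₁ * z * g₁⁻¹ ∧
      h * w * h⁻¹ = g₂ * w * g₂⁻¹ := by
    intro g₁ g₂
    obtain ⟨a, ha, b, hb, e⟩ := exists_mul_of_coprime_index hcop (g₁⁻¹ * g₂)
    have haz : a * z * a⁻¹ = z := by rw [← mem_cen.mp ha, mul_inv_cancel_right]
    have hbw : b * w * b⁻¹ = w := by rw [← mem_cen.mp hb, mul_inv_cancel_right]
    refine ⟨g₁ * a, ?_, ?_⟩
    · calc g₁ * a * z * (g₁ * a)⁻¹ = g₁ * (a * z * a⁻¹) * g₁⁻¹ := by group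
        _ = _ := by rw [haz]
    · have e' : g₂ = g₁ * (a * b) := by rw [← e, mul_inv_cancel_left]
      calc g₁ * a * w * (g₁ * a)⁻¹ = g₁ * a * (b * w * b⁻¹) * (g₁ * a)⁻¹ := by rw [hbw]
        _ = _ := by rw [e']; group
  -- translations preserve the class of `w`
  have hshift : ∀ g : G, ∃ k : G, (g * z * g⁻¹)⁻¹ * z * w = k * w * k⁻¹ := by
    intro g
    have hcopY : A.index.Coprime Y.index := by rw [hYe]; exact hcop
    obtain ⟨a, ha, c, hc, e⟩ := exists_mul_of_coprime_index hcopY g⁻¹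
    refine ⟨c⁻¹, ?_⟩
    have haz : a⁻¹ * z * a = z := by rw [mul_assoc, mem_cen.mp ha, inv_mul_cancel_left]
    have hcy : c⁻¹ * y * c = y := by rw [mul_assoc, mem_cen.mp hc, inv_mul_cancel_left]
    have hg : g * z * g⁻¹ = c⁻¹ * z * c := by
      have e' : g = c⁻¹ * a⁻¹ := by rw [← mul_inv_rev, ← e, inv_inv]
      calc g * z * g⁻¹ = c⁻¹ * (a⁻¹ * z * a) * c := by rw [e']; group
        _ = _ := by rw [haz]
    rw [hg, inv_inv, mul_assoc _ z w, ← hydef]
    calc (c⁻¹ * z * c)⁻¹ * y = c⁻¹ * z⁻¹ * c * (c⁻¹ * y * c) := by rw [hcy]; group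
      _ = c⁻¹ * w * c := by rw [hydef]; group
  obtain ⟨g, hg⟩ : ∃ g, g ∉ A := by
    by_contra h
    push Not at h
    exact hz1 (Subgroup.index_eq_one.mpr (eq_top_iff.mpr fun g _ => h g))
  set z' := g * z * g⁻¹ with hz'
  set c := z'⁻¹ * z with hcdef
  have hc1 : c ≠ 1 := fun e => hg (mem_cen.mpr (by
    have e' : g * z * g⁻¹ = z := inv_mul_eq_one.mp e
    calc z * g = g * z * g⁻¹ * g := by rw [e']
      _ = g * z := by group))
  have hmul : ∀ k : G, ∃ k' : G, c * (k * w * k⁻¹) = k' * w * k'⁻¹ := by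
    intro k
    obtain ⟨h, h1, h2⟩ := hpair 1 k
    rw [one_mul, inv_one, mul_one] at h1
    obtain ⟨k', hk'⟩ := hshift (h⁻¹ * g)
    refine ⟨h * k', ?_⟩
    calc c * (k * w * k⁻¹) = z'⁻¹ * (h * z * h⁻¹) * (h * w * h⁻¹) := by rw [hcdef, h1, h2]
      _ = h * ((h⁻¹ * g * z * (h⁻¹ * g)⁻¹)⁻¹ * z * w) * h⁻¹ := by rw [hz']; group
      _ = _ := by rw [hk']; group
  have hcp : c ^ p = 1 := by
    obtain ⟨k, hk⟩ := hmul 1
    rw [one_mul, inv_one, mul_one] at hk
    obtain ⟨h, h1, h2⟩ := hpair g k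
    obtain ⟨h', h1', h2'⟩ := hpair g 1
    rw [one_mul, inv_one, mul_one] at h2'
    have hcz : Commute z' c := by
      have e : c = (k * w * k⁻¹) * w⁻¹ := eq_mul_inv_of_mul_eq hk
      rw [e]
      refine Commute.mul_right ?_ (Commute.inv_right ?_)
      · rw [hz', ← h1, ← h2]
        exact hzw.map (MulAut.conj h).toMonoidHom
      · rw [hz', ← h1', ← h2']
        exact hzw.map (MulAut.conj h').toMonoidHom
    have e : z = z' * c := by rw [hcdef, mul_inv_cancel_left]
    have h3 : z ^ p = 1 := by rw [← hz]; exact pow_orderOf_eq_one z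
    have h4 : z' ^ p = 1 := by
      rw [← hz, ← orderOf_conj g z, ← hz']; exact pow_orderOf_eq_one z'
    rw [e, hcz.mul_pow, h4, one_mul] at h3
    exact h3
  -- so `p` divides the class size
  let W := {v : G // ∃ k : G, v = k * w * k⁻¹}
  have hcard : Nat.card W = csz w := by
    let f : G ⧸ B → W := Quotient.lift (fun k => (⟨k * w * k⁻¹, k, rfl⟩ : W)) (by
      intro a b hab
      have hm : a⁻¹ * b ∈ B := QuotientGroup.leftRel_apply.mp hab
      refine Subtype.ext ?_
      show a * w * a⁻¹ = b * w * b⁻¹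
      calc a * w * a⁻¹ = a * ((a⁻¹ * b) * w * (a⁻¹ * b)⁻¹) * a⁻¹ := by
            rw [← mem_cen.mp hm, mul_inv_cancel_right]
        _ = _ := by group)
    refine (Nat.card_eq_of_bijective f ⟨?_, ?_⟩).symm
    · intro a b
      induction a using QuotientGroup.induction_on with | _ a => ?_
      induction b using QuotientGroup.induction_on with | _ b => ?_
      intro h
      have h' : a * w * a⁻¹ = b * w * b⁻¹ := congrArg Subtype.val h
      refine QuotientGroup.eq.mpr (mem_cen.mpr ?_)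
      calc w * (a⁻¹ * b) = a⁻¹ * (a * w * a⁻¹) * b := by group
        _ = a⁻¹ * (b * w * b⁻¹) * b := by rw [h']
        _ = _ := by group
    · rintro ⟨v, k, rfl⟩
      exact ⟨(k : G ⧸ B), rfl⟩
  have hstab : ∀ d ∈ Subgroup.zpowers c, ∀ v : W, ∃ k : G, d * v.1 = k * w * k⁻¹ := by
    intro d hd v
    obtain ⟨n, rfl⟩ := mem_powers_iff_mem_zpowers.mpr hd
    show ∃ k : G, c ^ n * v.1 = k * w * k⁻¹
    clear hd
    induction n with
    | zero => obtain ⟨k, hk⟩ := v.2; exact ⟨k, by rw [pow_zero, one_mul, hk]⟩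
    | succ n ih =>
      obtain ⟨k, hk⟩ := ih
      obtain ⟨k', hk'⟩ := hmul k
      exact ⟨k', by rw [pow_succ', mul_assoc, hk, hk']⟩
  let _ : MulAction (Subgroup.zpowers c) W :=
    { smul := fun d v => ⟨(d : G) * v.1, hstab d d.2 v⟩
      one_smul := fun v => Subtype.ext (one_mul _)
      mul_smul := fun d e v => Subtype.ext (mul_assoc _ _ _) }
  have hco : orderOf c = p :=
    ((Nat.dvd_prime hp.out).mp (orderOf_dvd_of_pow_eq_one hcp)).resolve_left
      fun e => hc1 (orderOf_eq_one_iff.mp e)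
  have hmod := (IsPGroup.of_card (n := 1) (by rw [Nat.card_zpowers, hco, pow_one]) :
    IsPGroup p (Subgroup.zpowers c)).card_modEq_card_fixedPoints W
  have hfix : IsEmpty (MulAction.fixedPoints (Subgroup.zpowers c) W) := ⟨fun ⟨v, hv⟩ => hc1 (by
    have h := congrArg Subtype.val (hv ⟨c, Subgroup.mem_zpowers c⟩)
    exact mul_eq_right.mp h)⟩
  rw [hcard, Nat.card_of_isEmpty (α := MulAction.fixedPoints (Subgroup.zpowers c) W)] at hmod
  exact hwp (Nat.modEq_zero_iff_dvd.mp hmod)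

/-- `r` and `s` are equal or divide the class size of one `p`-singular element. -/
def Near (G : Type*) [Group G] (p r s : ℕ) : Prop :=
  r = s ∨ ∃ x : G, p ∣ orderOf x ∧ r ∣ csz x ∧ s ∣ csz x

theorem exists_walk (hZ : ¬ p ∣ Nat.card (Subgroup.center G)) {r s : ℕ} {xr xs : G}
    (hr : p ∣ orderOf xr) (hr' : r ∣ csz xr) (hs : p ∣ orderOf xs) (hs' : s ∣ csz xs) :
    ∃ t u : ℕ, t.Prime ∧ u.Prime ∧ (∃ x : G, p ∣ orderOf x ∧ r ∣ csz x ∧ t ∣ csz x) ∧
      (∃ x : G, p ∣ orderOf x ∧ u ∣ csz x ∧ s ∣ csz x) ∧ Near G p t u := by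
  have part : ∀ x : G, p ∣ orderOf x → ∃ z : G, orderOf z = p ∧ csz z ∣ csz x ∧ csz z ≠ 1 := by
    intro x hx
    refine ⟨x ^ (orderOf x / p), orderOf_pow_orderOf_div (orderOf_pos x).ne' hx, csz_dvd_pow _ _,
      fun h => hZ ?_⟩
    rw [← orderOf_pow_orderOf_div (orderOf_pos x).ne' hx]
    have hmem : x ^ (orderOf x / p) ∈ Subgroup.center G := by
      rw [Subgroup.mem_center_iff]
      intro g
      exact (mem_cen.mp ((Subgroup.index_eq_one.mp h : _ = ⊤) ▸ Subgroup.mem_top g)).symm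
    rw [← Subgroup.orderOf_mk _ hmem]
    exact orderOf_dvd_natCard _
  obtain ⟨z, hz, hzd, hz1⟩ := part xr hr
  obtain ⟨w, hw, hwd, hw1⟩ := part xs hs
  by_cases hzp : p ∣ csz z
  · by_cases hwp : p ∣ csz w
    · exact ⟨p, p, hp.out, hp.out, ⟨xr, hr, hr', hzp.trans hzd⟩,
        ⟨xs, hs, hwp.trans hwd, hs'⟩, Or.inl rfl⟩
    · obtain ⟨x, u, hu, h1, h2, h3, h4⟩ := exists_link (n := 1) (by rw [hz, pow_one]) hzp hw hwp hw1
      exact ⟨p, u, hp.out, hu, ⟨xr, hr, hr', hzp.trans hzd⟩, ⟨xs, hs, h4.trans hwd, hs'⟩,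
        Or.inr ⟨x, h1, h2, h3⟩⟩
  · by_cases hwp : p ∣ csz w
    · obtain ⟨x, u, hu, h1, h2, h3, h4⟩ := exists_link (n := 1) (by rw [hw, pow_one]) hwp hz hzp hz1
      exact ⟨u, p, hu, hp.out, ⟨xr, hr, hr', h4.trans hzd⟩, ⟨xs, hs, hwp.trans hwd, hs'⟩,
        Or.inr ⟨x, h1, h3, h2⟩⟩
    · -- two `p`-central elements: make them commute
      obtain ⟨S, hS⟩ := exists_sylow_le hwp
      obtain ⟨g, hg⟩ := exists_conj_mem_sylow S (n := 1) (z := z) (by rw [hz, pow_one])
      set z₀ := g * z * g⁻¹ with hz₀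
      have hzc : csz z₀ = csz z := csz_conj g z
      have hzw : Commute z₀ w := (mem_cen.mp (hS hg)).symm
      by_cases hcop : (csz z₀).Coprime (csz w)
      · have hzo : orderOf z₀ = p := by rw [hz₀, orderOf_conj, hz]
        have h1 := not_coprime_mul hzo hzw hcop (by rwa [hzc]) hwp
        have h2 := not_coprime_mul hw hzw.symm hcop.symm hw1 (by rwa [hzc])
        rw [← hzw.eq] at h2
        obtain ⟨t, ht, ht1, ht2⟩ := Nat.Prime.not_coprime_iff_dvd.mp h1
        obtain ⟨u, hu, hu1, hu2⟩ := Nat.Prime.not_coprime_iff_dvd.mp h2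
        refine ⟨t, u, ht, hu, ⟨xr, hr, hr', (hzc ▸ ht2).trans hzd⟩,
          ⟨xs, hs, hu2.trans hwd, hs'⟩, Or.inr ⟨z₀ * w, ?_, ht1, hu1⟩⟩
        have hpow : (z₀ * w) ^ p = 1 := by
          rw [hzw.mul_pow]
          nth_rw 1 [← hzo]
          rw [pow_orderOf_eq_one, one_mul, ← hw]
          exact pow_orderOf_eq_one w
        rcases (Nat.dvd_prime hp.out).mp (orderOf_dvd_of_pow_eq_one hpow) with e | e
        · exfalso
          rw [orderOf_eq_one_iff] at e
          rw [e, csz_one] at ht1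
          exact ht.not_dvd_one ht1
        · rw [e]
      · obtain ⟨t, ht, ht1, ht2⟩ := Nat.Prime.not_coprime_iff_dvd.mp hcop
        exact ⟨t, t, ht, ht, ⟨xr, hr, hr', (hzc ▸ ht1).trans hzd⟩,
          ⟨xs, hs, ht2.trans hwd, hs'⟩, Or.inl rfl⟩

end Cfsg.Agent.Lib.ClassSizes.PSingular
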